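import Cfsg.Agent.Lib.Recog.Walter.Field.Defs
import Cfsg.Agent.Lib.Recog.Walter.List
import Cfsg.Agent.Lib.GW.Final
import Cfsg.Agent.Lib.Perm.Alt2520.Eight
import Cfsg.Agent.S0201
import Cfsg.Agent.S0205
import Cfsg.Agent.S0343

/-!
Owner: helper12. The list of simple groups with abelian Sylow 2-subgroups from the structure theorem
and the field part, and the two consumers S0506, S0993.
-/

set_option autoImplicit false
set_option linter.style.haveILetI false
set_option linter.unusedSectionVars false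

namespace CfsgLib.Walter

open Subgroup
open CfsgLib.AbelianSolvCent (AbSylow)

universe u

namespace Field

variable {G : Type u} [Group G] [Finite G] {t : G} (ht : orderOf t = 2) {E : Subgroup G}
  (hp : Cfsg.IsInternalDirectProduct (zpowers t) E (centralizer ({t} : Set G)))

include ht hp

/-- An element of the centralizer is in `E` or `t` times it is. -/
theorem mem_iff (x : G) : x * t = t * x ↔ x ∈ E ∨ t * x ∈ E := by
  obtain ⟨h1, h2, hc, -, hsup⟩ := hp
  have htt : t * t = 1 := by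
    rw [← pow_two]
    exact orderOf_dvd_iff_pow_eq_one.1 (dvd_of_eq ht)
  constructor
  · intro hx
    have hxC : x ∈ centralizer ({t} : Set G) := mem_centralizer_singleton_iff.2 hx
    rw [← hsup] at hxC
    have hn : zpowers t ≤ normalizer (E : Set G) := le_trans (fun a ha =>
      mem_centralizer_iff.2 fun b hb => (hc a ha b hb).symm) (centralizer_le_normalizer _)
    rw [← SetLike.mem_coe, coe_mul_of_left_le_normalizer_right _ _ hn] at hxC
    obtain ⟨a, ha, b, hb, rfl⟩ := hxC
    obtain ⟨k, rfl⟩ := mem_zpowers_iff.1 ha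
    have ht2 : t ^ (2 : ℤ) = 1 := by rw [zpow_two]; exact htt
    rcases Int.even_or_odd k with ⟨j, rfl⟩ | ⟨j, rfl⟩
    · left
      rw [show j + j = 2 * j by ring, zpow_mul, ht2, one_zpow]
      simpa using hb
    · right
      rw [zpow_add, zpow_mul, ht2, one_zpow, zpow_one]
      simpa [← mul_assoc, htt] using hb
  · rintro (h | h)
    · exact (hc t (mem_zpowers t) x h).symm
    · have := hc t (mem_zpowers t) _ h
      rw [← mul_assoc, htt, one_mul] at this
      calc x * t = (t * t) * (x * t) := by rw [htt, one_mul]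
        _ = t * (t * x * t) := by group
        _ = t * x := by rw [← this]

theorem tnot : t ∉ E := fun h => by
  have h1 : t ∈ (⊥ : Subgroup G) := hp.2.2.2.1 ▸ ⟨mem_zpowers t, h⟩
  rw [mem_bot.1 h1, orderOf_one] at ht
  omega

/-- The centralizer is `Z₂ × E`. -/
theorem cent_equiv :
    Nonempty (↥(centralizer ({t} : Set G)) ≃* Multiplicative (ZMod 2) × ↥E) := by
  have h1 := hp.1
  have h2 := hp.2.1
  have hc := hp.2.2.1
  let φ : ↥(zpowers t) × ↥E →* ↥(centralizer ({t} : Set G)) :=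
    MonoidHom.noncommCoprod (inclusion h1) (inclusion h2) fun a b => Subtype.ext (hc a a.2 b b.2)
  have hφ : Function.Bijective φ := by
    refine ⟨(injective_iff_map_eq_one φ).2 ?_, fun x => ?_⟩
    · rintro ⟨⟨a, ha⟩, ⟨b, hb⟩⟩ h
      have h' : a * b = 1 := congrArg Subtype.val h
      have hab : a = b⁻¹ := eq_inv_of_mul_eq_one_left h'
      have ha' : a ∈ (⊥ : Subgroup G) := hp.2.2.2.1 ▸ ⟨ha, (by rw [hab]; exact inv_mem hb : a ∈ E)⟩
      rw [mem_bot] at ha'
      subst ha'
      rw [one_mul] at h'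
      exact Prod.ext rfl (Subtype.ext h')
    · rcases (mem_iff ht hp x).1 (mem_centralizer_singleton_iff.1 x.2) with h | h
      · exact ⟨(1, ⟨x, h⟩), Subtype.ext (one_mul _)⟩
      · refine ⟨(⟨t, mem_zpowers t⟩, ⟨t * x, h⟩), Subtype.ext ?_⟩
        show t * (t * (x : G)) = x
        rw [← mul_assoc, ← pow_two, ← ht, pow_orderOf_eq_one, one_mul]
  have e2 : ↥(zpowers t) ≃* Multiplicative (ZMod 2) := haveI : Fact (Nat.Prime 2) := ⟨Nat.prime_two⟩
    mulEquivOfPrimeCardEq (p := 2) (by rw [Nat.card_zpowers, ht])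
      (by rw [Nat.card_eq_fintype_card]; simp)
  exact ⟨(MulEquiv.ofBijective φ hφ).symm.trans (e2.prodCongr (MulEquiv.refl _))⟩

end Field

/-- In a group with abelian Sylow 2-subgroups an involution centralizer has odd index. -/
theorem odd_index_centralizer {G : Type u} [Group G] [Finite G] (hA : AbSylow G) {t : G}
    (ht : orderOf t = 2) : Odd (centralizer ({t} : Set G)).index := by
  haveI : Fact (Nat.Prime 2) := ⟨Nat.prime_two⟩
  obtain ⟨S, hS⟩ := (IsPGroup.of_card (G := zpowers t) (n := 1)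
    (by rw [Nat.card_zpowers, ht, pow_one])).exists_le_sylow
  have hle : (S : Subgroup G) ≤ centralizer ({t} : Set G) := fun x hx =>
    mem_centralizer_singleton_iff.2
      (congrArg Subtype.val ((hA S).is_comm.comm ⟨x, hx⟩ ⟨t, hS (mem_zpowers t)⟩))
  refine Nat.not_even_iff_odd.1 fun h => S.not_dvd_index ?_
  exact (even_iff_two_dvd.1 h).trans (index_dvd_of_le hle)

/-- **The list** from the structure theorem and the field part. -/
theorem walterList_of (hS : StructureTheorem.{u}) (hF : FieldTrivial.{u}) : WalterList.{u} := by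
  intro G _ _ _ hG hA
  rcases hS G hG hA with h | h | h
  · exact Or.inl h
  · exact Or.inr (Or.inl h)
  obtain ⟨t, ht⟩ := CfsgLib.AbelianSolvCent.exists_involution (H := G) fun hs =>
    hG ⟨⟨fun a b => IsSimpleGroup.comm_iff_isSolvable.mpr hs a b⟩⟩
  obtain ⟨E, hp, F, iF, iFt, h5, h8, N, hN, ⟨e⟩, hC⟩ := h.2.2.2 t ht
  obtain rfl : N = ⊤ := hF G h t ht E hp F h5 h8 N hN ⟨e⟩ hC
  let eE : ↥E ≃* Matrix.ProjectiveSpecialLinearGroup (Fin 2) F := topEquiv.symm.trans e
  obtain ⟨eC⟩ := Field.cent_equiv ht hp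
  rcases Cfsg.Agent.S0343.result (fun P a b => (hA P).is_comm.comm a b) (by omega) t ht
      ⟨eC.trans ((MulEquiv.refl _).prodCongr eE)⟩ with ⟨m, hm, hq, -⟩ | ⟨-, hJ⟩
  swap
  · exact Or.inr (Or.inr (Or.inl hJ))
  haveI : Fact (Nat.Prime 3) := ⟨Nat.prime_three⟩
  haveI : CharP F 3 := charP_of_card_eq_prime_pow hq
  have hbig : 27 ≤ Fintype.card F := by
    rw [hq]
    exact le_trans (by norm_num) (Nat.pow_le_pow_right (show 0 < 3 by norm_num) (show 3 ≤ 2 * m + 1 by omega))
  have hmod : Fintype.card F % 8 = 3 := by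
    rw [hq, pow_succ, pow_mul, Nat.mul_mod, Nat.pow_mod]
    norm_num
  let ι : Matrix.ProjectiveSpecialLinearGroup (Fin 2) F →* G := E.subtype.comp eE.symm.toMonoidHom
  have hι : ∀ x : G, x ∈ ι.range ↔ x ∈ E := fun x =>
    ⟨fun ⟨y, hy⟩ => hy ▸ (eE.symm y).2, fun hx => ⟨eE ⟨x, hx⟩, by simp [ι]⟩⟩
  exact Or.inr (Or.inr (Or.inr ⟨F, iF, iFt, inferInstance, ⟨
    { t := t, ι := ι, simp := inferInstance, ncomm := hG, hq := hmod, hbig := hbig, ht := ht
      inj := E.subtype_injective.comp eE.symm.injective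
      hC := fun x => by rw [Field.mem_iff ht hp, hι, hι]
      hidx := odd_index_centralizer hA ht
      tnot := fun h => Field.tnot ht hp ((hι t).1 h) }⟩⟩))

/-- The Ree branch of the list has the order of a Ree group. -/
theorem isRee_of_ctx {G : Type u} [Group G] [Finite G] [IsSimpleGroup G] (hA : AbSylow G) {F : Type}
    [Field F] [Fintype F] (c : LocalEven.GoldS.Ctx G F) : Cfsg.IsRee G := by
  have hp : Cfsg.IsInternalDirectProduct (zpowers c.t) c.ι.range (centralizer ({c.t} : Set G)) := by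
    have hle : c.ι.range ≤ centralizer ({c.t} : Set G) := fun x hx =>
      mem_centralizer_singleton_iff.2 ((c.hC x).2 (Or.inl hx))
    have hbot : zpowers c.t ⊓ c.ι.range = ⊥ := by
      refine le_bot_iff.1 fun x ⟨hx1, hx2⟩ => ?_
      obtain ⟨k, rfl⟩ := mem_zpowers_iff.1 hx1
      have ht2 : c.t ^ (2 : ℤ) = 1 := by rw [zpow_two]; exact c.t_sq
      rcases Int.even_or_odd k with ⟨j, rfl⟩ | ⟨j, rfl⟩
      · simp [show j + j = 2 * j by ring, zpow_mul, ht2]
      · exact absurd (by simpa [zpow_add, zpow_mul, ht2] using hx2) c.tnot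
    refine ⟨zpowers_le.2 (mem_centralizer_singleton_iff.2 rfl), hle, ?_, hbot, ?_⟩
    · intro a ha b hb
      obtain ⟨k, rfl⟩ := mem_zpowers_iff.1 ha
      exact (Commute.zpow_left (show Commute c.t b from ((c.hC b).2 (Or.inl hb)).symm) k).eq
    · refine le_antisymm (sup_le (zpowers_le.2 (mem_centralizer_singleton_iff.2 rfl)) hle) fun x hx => ?_
      rcases (c.hC x).1 (mem_centralizer_singleton_iff.1 hx) with h | h
      · exact mem_sup_right h
      · have : c.t * (c.t * x) = x := by rw [← mul_assoc, c.t_sq, one_mul]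
        exact this ▸ mul_mem_sup (mem_zpowers _) h
  obtain ⟨eC⟩ := Field.cent_equiv c.ht hp
  rcases Cfsg.Agent.S0343.result (fun P a b => (hA P).is_comm.comm a b)
      (show 3 ≤ Fintype.card F by have := c.hbig; omega) c.t c.ht
      ⟨eC.trans ((MulEquiv.refl _).prodCongr (MonoidHom.ofInjective c.inj).symm)⟩ with
    ⟨m, hm, -, hcard⟩ | ⟨h45, -⟩
  · exact ⟨inferInstance, m, hm, hcard⟩
  · have := c.hbig
    omega

/-- **S0506** from the list. -/
theorem simple_abelian_of_list (hL : WalterList.{u}) {G : Type u} [Group G] [Finite G]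
    [IsSimpleGroup G] (hG : ¬ IsMulCommutative G) (S : Sylow 2 G)
    (hS : IsMulCommutative (S : Subgroup G)) :
    (∃ a : ℕ, 2 ≤ a ∧ ∃ (F : Type) (_ : Field F) (_ : Fintype F), Fintype.card F = 2 ^ a ∧
        Nonempty (G ≃* Matrix.ProjectiveSpecialLinearGroup (Fin 2) F)) ∨
      (∃ (F : Type) (_ : Field F) (_ : Fintype F), (Fintype.card F % 8 = 3 ∨ Fintype.card F % 8 = 5) ∧
        Nonempty (G ≃* Matrix.ProjectiveSpecialLinearGroup (Fin 2) F)) ∨
      Cfsg.IsRee G ∨ Cfsg.IsJ1 G := by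
  haveI : Fact (Nat.Prime 2) := ⟨Nat.prime_two⟩
  have hA : AbSylow G := fun P => by
    let e := S.equiv P
    exact ⟨⟨fun a b => e.symm.injective (by rw [map_mul, map_mul]; exact hS.is_comm.comm _ _)⟩⟩
  rcases hL G hG hA with h | h | h | ⟨F, iF, iFt, -, ⟨c⟩⟩
  · exact Or.inl h
  · obtain ⟨F, iF, iFt, -, h8, e⟩ := h
    exact Or.inr (Or.inl ⟨F, iF, iFt, h8, e⟩)
  · exact Or.inr (Or.inr (Or.inr h))
  · exact Or.inr (Or.inr (Or.inl (isRee_of_ctx hA c)))

/-- **S0993** from the list. -/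
theorem simple_eight_of_list (hL : WalterList.{u}) {G : Type u} [Group G] [Finite G]
    [IsSimpleGroup G] (hG : ¬ IsMulCommutative G) (T : Sylow 2 G)
    (hT : Nat.card ↥(T : Subgroup G) = 8) :
    (∃ (F : Type) (_ : Field F) (_ : Fintype F), Fintype.card F = 8 ∧
        Nonempty (G ≃* Matrix.ProjectiveSpecialLinearGroup (Fin 2) F)) ∨
      (∃ (F : Type) (_ : Field F) (_ : Fintype F), (Fintype.card F % 16 = 7 ∨ Fintype.card F % 16 = 9) ∧
        Nonempty (G ≃* Matrix.ProjectiveSpecialLinearGroup (Fin 2) F)) ∨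
      Nonempty (G ≃* alternatingGroup (Fin 7)) ∨ Cfsg.IsJ1 G ∨ Cfsg.IsRee G := by
  haveI : Fact (Nat.Prime 2) := ⟨Nat.prime_two⟩
  have h16 : Nat.card G % 16 = 8 := by
    have h1 := (T : Subgroup G).card_mul_index
    have h2 := T.not_dvd_index
    rw [hT] at h1
    omega
  have hns : ¬ Group.IsSolvable G := fun hs =>
    hG ⟨⟨fun a b => IsSimpleGroup.comm_iff_isSolvable.mpr hs a b⟩⟩
  have hO : ∀ N : Subgroup G, N.Normal → Odd (Nat.card N) → N = ⊥ := fun N hN ho =>
    hN.eq_bot_or_eq_top.resolve_right fun h => hns (Cfsg.Agent.S0205.result (by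
      rw [h, card_top] at ho; exact ho))
  rcases CfsgLib.Perm.Alt2520.eight_cases hT with hab | ⟨⟨e⟩⟩ | ⟨⟨e⟩⟩
  · rcases simple_abelian_of_list hL hG T ⟨⟨hab⟩⟩ with ⟨n, hn, F, iF, iFt, hF, ⟨e⟩⟩ |
      ⟨F, iF, iFt, h8, ⟨e⟩⟩ | h | h
    · have hc := CfsgLib.Classical.Two.card_PSL_two (F := F)
      rw [hF, ← Nat.card_congr e.toEquiv] at hc
      have hg : Nat.gcd 2 (2 ^ n - 1) = 1 := by
        have : 2 ∣ 2 ^ n := dvd_pow_self 2 (by omega)
        have : 1 ≤ 2 ^ n := Nat.one_le_two_pow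
        exact Nat.coprime_two_left.2 (Nat.odd_iff.2 (by omega))
      rw [hg, one_mul] at hc
      refine Or.inl ⟨F, iF, iFt, ?_, ⟨e⟩⟩
      rcases (show n = 2 ∨ n = 3 ∨ 4 ≤ n by omega) with rfl | rfl | h4
      · norm_num at hc; omega
      · exact hF
      · have : 16 ∣ Nat.card G := hc ▸ Dvd.dvd.mul_right (pow_dvd_pow 2 h4) _
        omega
    · have hc := CfsgLib.Classical.Two.card_PSL_two (F := F)
      rw [← Nat.card_congr e.toEquiv] at hc
      exfalso
      generalize Fintype.card F = q at hc h8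
      rw [Nat.gcd_eq_left (show 2 ∣ q - 1 by omega)] at hc
      obtain ⟨j, hj | hj⟩ : ∃ j, q = 8 * j + 3 ∨ q = 8 * j + 5 := ⟨q / 8, by omega⟩
      · subst hj
        rw [show (8 * j + 3) ^ 2 - 1 = 8 * (8 * j * j + 6 * j + 1) from
          Nat.sub_eq_of_eq_add (by ring)] at hc
        have h : ((8 * j + 3) * (8 * (8 * j * j + 6 * j + 1))) % 16 = 8 := by
          rw [show (8 * j + 3) * (8 * (8 * j * j + 6 * j + 1)) =
            16 * (32 * j * j * j + 36 * j * j + 13 * j + 1) + 8 by ring]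
          omega
        omega
      · subst hj
        rw [show (8 * j + 5) ^ 2 - 1 = 8 * (8 * j * j + 10 * j + 3) from
          Nat.sub_eq_of_eq_add (by ring)] at hc
        have h : ((8 * j + 5) * (8 * (8 * j * j + 10 * j + 3))) % 16 = 8 := by
          rw [show (8 * j + 5) * (8 * (8 * j * j + 10 * j + 3)) =
            16 * (32 * j * j * j + 60 * j * j + 37 * j + 7) + 8 by ring]
          omega
        omega
    · exact Or.inr (Or.inr (Or.inr (Or.inr h)))
    · exact Or.inr (Or.inr (Or.inr (Or.inl h)))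
  · haveI : Group.IsPerfect G := ⟨((inferInstance : (commutator G).Normal).eq_bot_or_eq_top).resolve_left
      fun h => hns (Group.isSolvable_of_comm fun a b => by
        have := commutator_mem_commutator (mem_top a) (mem_top b)
        rw [← _root_.commutator_def, h, mem_bot] at this
        exact commutatorElement_eq_one_iff_mul_comm.1 this)⟩
    have hcore : Cfsg.oddCore G = ⊥ := hO _ inferInstance (CfsgLib.GW.DGroup.odd_oddCore G)
    let π : G ⧸ Cfsg.oddCore G ≃* G :=
      (QuotientGroup.quotientMulEquivOfEq hcore).trans QuotientGroup.quotientBot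
    rcases CfsgLib.GW.Final.gwStatement G T 4 (by norm_num) ⟨e⟩ with
      ⟨F, iF, iFt, hodd, -, ⟨g⟩⟩ | ⟨⟨g⟩⟩
    · refine Or.inr (Or.inl ⟨F, iF, iFt, ?_, ⟨π.symm.trans g⟩⟩)
      have hc := CfsgLib.Classical.Two.card_PSL_two (F := F)
      rw [← Nat.card_congr (π.symm.trans g).toEquiv] at hc
      generalize Fintype.card F = q at hc hodd
      rw [Nat.gcd_eq_left (show 2 ∣ q - 1 by rw [Nat.odd_iff] at hodd; omega)] at hc
      obtain ⟨j, r, hr, rfl⟩ : ∃ j r, r < 16 ∧ q = 16 * j + r := ⟨q / 16, q % 16, by omega, by omega⟩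
      rw [Nat.odd_iff] at hodd
      have key : ((16 * j + r) * ((16 * j + r) ^ 2 - 1)) % 32 = 16 := by omega
      have hcast : (((16 * j + r) * ((16 * j + r) ^ 2 - 1) : ℕ) : ZMod 32) = 16 := by
        rw [← ZMod.natCast_mod, key]; rfl
      rw [Nat.cast_mul, Nat.cast_sub (Nat.one_le_pow _ _ (by omega))] at hcast
      push_cast at hcast
      have hdec : ∀ a : ZMod 32, ∀ b : Fin 16, b.val % 2 = 1 →
          (16 * a + (b.val : ZMod 32)) * ((16 * a + (b.val : ZMod 32)) ^ 2 - 1) = 16 →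
          b.val = 7 ∨ b.val = 9 := by decide +kernel
      have := hdec (j : ZMod 32) ⟨r, hr⟩ (show r % 2 = 1 by omega) hcast
      simp only at this
      omega
    · exact Or.inr (Or.inr (Or.inl ⟨π.symm.trans g⟩))
  · exfalso
    have h2 := Cfsg.Agent.S0201.result T 0 (by simpa using e) hO
    have hz : center G = ⊥ := (inferInstance : (center G).Normal).eq_bot_or_eq_top.resolve_right
      fun h => hG ⟨⟨fun a b => mem_center_iff.1 (h ▸ mem_top b) a⟩⟩
    rw [hz, card_bot] at h2
    omega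

end CfsgLib.Walter
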