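import Mathlib

/-!
Owner: helper12. Walter, field part (A): an abelian `3'`-group acting on a finite space over `ZMod 3` spans a
reduced commutative algebra; its atoms (minimal idempotents) split the space into pieces on which the algebra
is a field.
-/

set_option autoImplicit false
set_option linter.unusedSectionVars false

namespace CfsgLib.Walter.Field

universe u v

variable {H : Type u} {V : Type v} [Group H] [AddCommGroup V] [Module (ZMod 3) V]
  (ρ : Representation (ZMod 3) H V)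

/-- The algebra spanned by `A`. -/
def span (A : Subgroup H) : Subalgebra (ZMod 3) (Module.End (ZMod 3) V) :=
  Algebra.adjoin (ZMod 3) (ρ '' A)

variable {ρ} {A : Subgroup H}

theorem mem_span {g : H} (hg : g ∈ A) : ρ g ∈ span ρ A :=
  Algebra.subset_adjoin ⟨g, hg, rfl⟩

theorem span_comm (hA : ∀ g ∈ A, ∀ h ∈ A, g * h = h * g) {x y : Module.End (ZMod 3) V}
    (hx : x ∈ span ρ A) (hy : y ∈ span ρ A) : x * y = y * x := by
  letI : CommRing ↥(span ρ A) := Algebra.adjoinCommRingOfComm (ZMod 3) (by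
    rintro _ ⟨g, hg, rfl⟩ _ ⟨h, hh, rfl⟩
    rw [← map_mul, ← map_mul, hA g hg h hh])
  exact congrArg Subtype.val (mul_comm (⟨x, hx⟩ : ↥(span ρ A)) ⟨y, hy⟩)

/-- The conditions on `A`. -/
structure Good (A : Subgroup H) : Prop where
  comm : ∀ g ∈ A, ∀ h ∈ A, g * h = h * g
  coprime : ∀ g ∈ A, ¬ 3 ∣ orderOf g

theorem exists_frob [Finite H] [Finite V] (hA : Good A) :
    ∃ N : ℕ, 0 < N ∧ ∀ x ∈ span ρ A, x ^ 3 ^ N = x := by
  classical
  haveI : Fact (Nat.Prime 3) := ⟨Nat.prime_three⟩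
  refine ⟨Nat.totient (Nat.card A), Nat.totient_pos.2 Nat.card_pos, fun x hx => ?_⟩
  have hcop : Nat.Coprime 3 (Nat.card A) := by
    refine (Nat.prime_three.coprime_iff_not_dvd).2 fun h3 => ?_
    obtain ⟨g, hg⟩ := exists_prime_orderOf_dvd_card' (G := A) 3 h3
    exact hA.coprime g g.2 (by rw [Subgroup.orderOf_coe, hg])
  set n := Nat.totient (Nat.card A)
  induction hx using Algebra.adjoin_induction with
  | mem y hy =>
    obtain ⟨g, hg, rfl⟩ := hy
    rw [← map_pow]
    congr 1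
    have h : (⟨g, hg⟩ : A) ^ 3 ^ n = ⟨g, hg⟩ := by
      rw [pow_eq_pow_mod (3 ^ n) (pow_card_eq_one' (x := (⟨g, hg⟩ : A))), Nat.ModEq.pow_totient hcop]
      by_cases h1 : Nat.card A = 1
      · haveI : Subsingleton A := (Nat.card_eq_one_iff_unique.1 h1).1
        exact Subsingleton.elim _ _
      · rw [Nat.mod_eq_of_lt (by have := Nat.card_pos (α := A); omega), pow_one]
    exact congrArg Subtype.val h
  | algebraMap r => rw [← map_pow, ZMod.pow_card_pow]
  | add y z hy hz ey ez =>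
    rcases subsingleton_or_nontrivial (Module.End (ZMod 3) V) with h | h
    · exact Subsingleton.elim _ _
    haveI : CharP (Module.End (ZMod 3) V) 3 :=
      charP_of_injective_algebraMap (algebraMap (ZMod 3) (Module.End (ZMod 3) V)).injective 3
    rw [add_pow_char_pow_of_commute _ _ (span_comm hA.comm hy hz), ey, ez]
  | mul y z hy hz ey ez => rw [Commute.mul_pow (span_comm hA.comm hy hz), ey, ez]

variable (ρ)

/-- An atom. -/
structure IsPiece (A : Subgroup H) (e : Module.End (ZMod 3) V) : Prop where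
  mem : e ∈ span ρ A
  idem : e * e = e
  ne_zero : e ≠ 0
  min : ∀ f ∈ span ρ A, f * f = f → f * e = 0 ∨ f * e = e

variable {ρ} {e : Module.End (ZMod 3) V}

theorem IsPiece.orth (hA : Good A) (he : IsPiece ρ A e) {f : Module.End (ZMod 3) V}
    (hf : IsPiece ρ A f) (hne : e ≠ f) : e * f = 0 := by
  have hc := span_comm hA.comm he.mem hf.mem
  rcases he.min f hf.mem hf.idem with h | h
  · rw [hc]; exact h
  · rcases hf.min e he.mem he.idem with h' | h'
    · exact h'
    · exact absurd (h.symm.trans (hc.symm.trans h')) hne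

/-- Every vector not killed by an idempotent is not killed by some atom below it. -/
theorem exists_piece [Finite V] (hA : Good A) {v : V} (hv : v ≠ 0) :
    ∃ e, IsPiece ρ A e ∧ e v ≠ 0 := by
  classical
  haveI : Finite (Module.End (ZMod 3) V) := Finite.of_injective _ DFunLike.coe_injective
  suffices ∀ n : ℕ, ∀ f ∈ span ρ A, f * f = f → f v ≠ 0 →
      Nat.card (Set.range f) ≤ n → ∃ e, IsPiece ρ A e ∧ e v ≠ 0 from
    this _ 1 (one_mem _) (one_mul 1) (by simpa using hv) le_rfl
  intro n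
  induction n with
  | zero =>
    intro f _ _ _ h
    have : 0 < Nat.card (Set.range f) := Nat.card_pos
    omega
  | succ n ih =>
    intro f hf hff hfv hn
    by_cases hp : IsPiece ρ A f
    · exact ⟨f, hp, hfv⟩
    obtain ⟨g, hg, hgg, hg0, hgf⟩ : ∃ g ∈ span ρ A, g * g = g ∧ g * f ≠ 0 ∧ g * f ≠ f := by
      by_contra hcon
      push Not at hcon
      refine hp ⟨hf, hff, fun h => hfv (by rw [h]; rfl), fun g hg hgg => ?_⟩
      by_cases h0 : g * f = 0
      · exact Or.inl h0
      · exact Or.inr (hcon g hg hgg h0)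
    have hc := span_comm hA.comm hg hf
    have small : ∀ h : Module.End (ZMod 3) V, h ∈ span ρ A → h * h = h → h * f = h → h ≠ f → h v ≠ 0 →
        ∃ e, IsPiece ρ A e ∧ e v ≠ 0 := by
      intro h hh hhh hhf hne hhv
      refine ih h hh hhh hhv (Nat.lt_succ_iff.1 (lt_of_lt_of_le ?_ hn))
      have hfh : f * h = h := by rw [span_comm hA.comm hf hh, hhf]
      have hss : Set.range h ⊂ Set.range f := by
        refine (Set.ssubset_iff_subset_ne).2 ⟨?_, fun heq => hne ?_⟩
        · rintro _ ⟨w, rfl⟩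
          exact ⟨h w, congrArg (fun x => x w) hfh⟩
        · refine LinearMap.ext fun w => ?_
          obtain ⟨u, hu⟩ : f w ∈ Set.range h := heq ▸ ⟨w, rfl⟩
          calc h w = (h * f) w := by rw [hhf]
            _ = h (f w) := rfl
            _ = (h * h) u := by rw [← hu]; rfl
            _ = f w := by rw [hhh, hu]
      rw [Nat.card_coe_set_eq, Nat.card_coe_set_eq]
      exact Set.ncard_lt_ncard hss (Set.toFinite _)
    by_cases h1 : (g * f) v ≠ 0
    · refine small (g * f) (mul_mem hg hf) ?_ (by rw [mul_assoc, hff]) hgf h1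
      calc g * f * (g * f) = g * (f * g) * f := by simp only [mul_assoc]
        _ = g * g * (f * f) := by rw [← hc]; simp only [mul_assoc]
        _ = g * f := by rw [hgg, hff]
    · push Not at h1
      have hgff : g * f * f = g * f := by rw [mul_assoc, hff]
      have hfgf : f * (g * f) = g * f := by rw [← mul_assoc, ← hc, hgff]
      have hsq : g * f * (g * f) = g * f := by rw [mul_assoc g f (g * f), hfgf, ← mul_assoc, hgg]
      refine small (f - g * f) (sub_mem hf (mul_mem hg hf)) ?_ ?_ (fun h => hg0 (sub_eq_self.1 h)) ?_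
      · rw [sub_mul, mul_sub, mul_sub, hff, hfgf, hgff, hsq]; abel
      · rw [sub_mul, hff, hgff]
      · rw [LinearMap.sub_apply, h1, sub_zero]; exact hfv

/-- An element not killed by an atom is invertible on it. -/
theorem IsPiece.apply_eq_zero [Finite H] [Finite V] (hA : Good A) (he : IsPiece ρ A e)
    {r : Module.End (ZMod 3) V} (hr : r ∈ span ρ A) (hre : r * e ≠ 0) {v : V} (hv : e v = v)
    (h0 : r v = 0) : v = 0 := by
  obtain ⟨N, hN, hF⟩ := exists_frob (ρ := ρ) hA
  obtain ⟨m, hm⟩ : ∃ m, 3 ^ N = m + 1 + 1 := ⟨3 ^ N - 2, by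
    have : 3 ^ 1 ≤ 3 ^ N := Nat.pow_le_pow_right (by norm_num) hN
    omega⟩
  have h := hF r hr
  rw [hm] at h
  set ε := r ^ (m + 1) with hε
  have hre' : ε * r = r := by rw [hε, ← pow_succ]; exact h
  have hεmem : ε ∈ span ρ A := pow_mem hr _
  have hεε : ε * ε = ε := by
    calc ε * ε = ε * r * r ^ m := by rw [hε, mul_assoc, ← pow_succ']
      _ = ε := by rw [hre', hε, ← pow_succ']
  have hεv : ε v = 0 := by
    rw [hε, pow_succ]
    show (r ^ m) (r v) = 0
    rw [h0, map_zero]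
  rcases he.min ε hεmem hεε with h1 | h1
  · refine absurd ?_ hre
    rw [← hre', mul_assoc, span_comm hA.comm hr he.mem, ← mul_assoc, h1, zero_mul]
  · have h2 : ε (e v) = e v := congrArg (fun x => x v) h1
    rw [hv, hεv] at h2
    exact h2.symm

/-- An element of the algebra preserves the image of an atom. -/
theorem IsPiece.apply_stable (hA : Good A) (he : IsPiece ρ A e) {r : Module.End (ZMod 3) V}
    (hr : r ∈ span ρ A) {v : V} (hv : e v = v) : e (r v) = r v := by
  have h : e (r v) = r (e v) := congrArg (fun x => x v) (span_comm hA.comm he.mem hr)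
  rw [h, hv]

/-- Equal on a nonzero vector of an atom, equal on the atom. -/
theorem IsPiece.mul_eq_of_apply [Finite H] [Finite V] (hA : Good A) (he : IsPiece ρ A e)
    {r r' : Module.End (ZMod 3) V} (hr : r ∈ span ρ A) (hr' : r' ∈ span ρ A) {v : V} (hv : e v = v)
    (hv0 : v ≠ 0) (h : r v = r' v) : r * e = r' * e := by
  rw [← sub_eq_zero, ← sub_mul]
  by_contra hne
  exact hv0 (he.apply_eq_zero hA (sub_mem hr hr') hne hv (by rw [LinearMap.sub_apply, h, sub_self]))

theorem IsPiece.exists_apply (he : IsPiece ρ A e) : ∃ v : V, v ≠ 0 ∧ e v = v := by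
  obtain ⟨v, hv⟩ : ∃ v, e v ≠ 0 := by
    by_contra h
    push Not at h
    exact he.ne_zero (LinearMap.ext h)
  exact ⟨e v, hv, congrArg (fun x => x v) he.idem⟩

/-- Elements of the algebra which agree on every atom are equal. -/
theorem eq_of_forall_piece [Finite V] (hA : Good A) {r r' : Module.End (ZMod 3) V} (hr : r ∈ span ρ A)
    (hr' : r' ∈ span ρ A) (h : ∀ e, IsPiece ρ A e → r * e = r' * e) : r = r' := by
  refine LinearMap.ext fun v => sub_eq_zero.1 ?_
  by_contra hne
  obtain ⟨e, he, hev⟩ := exists_piece (ρ := ρ) hA hne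
  have h' : e * r = e * r' := by rw [span_comm hA.comm he.mem hr, span_comm hA.comm he.mem hr', h e he]
  refine hev ?_
  rw [map_sub, sub_eq_zero]
  exact congrArg (fun x => x v) h'

/-- Image and kernel of an element of the algebra meet trivially. -/
theorem eq_zero_of_apply_apply [Finite H] [Finite V] (hA : Good A) {r : Module.End (ZMod 3) V}
    (hr : r ∈ span ρ A) {v : V} (h : r (r v) = 0) : r v = 0 := by
  obtain ⟨N, hN, hF⟩ := exists_frob (ρ := ρ) hA
  obtain ⟨m, hm⟩ : ∃ m, 3 ^ N = m + 1 + 1 := ⟨3 ^ N - 2, by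
    have : 3 ^ 1 ≤ 3 ^ N := Nat.pow_le_pow_right (by norm_num) hN
    omega⟩
  have h1 := hF r hr
  rw [hm, pow_succ, pow_succ] at h1
  have h2 : (r ^ m) (r (r v)) = r v := congrArg (fun x => x v) h1
  rw [h, map_zero] at h2
  exact h2.symm

/-- The algebra modulo the annihilator of an atom is a domain. -/
theorem IsPiece.exists_domain [Finite H] [Finite V] (hA : Good A) (he : IsPiece ρ A e) :
    ∃ (F : Type v) (_ : CommRing F) (_ : IsDomain F) (φ : ↥(span ρ A) →+* F),
      ∀ r : ↥(span ρ A), φ r = 0 ↔ (r : Module.End (ZMod 3) V) * e = 0 := by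
  letI : CommRing ↥(span ρ A) :=
    { (inferInstance : Ring ↥(span ρ A)) with
      mul_comm := fun p q => Subtype.ext (span_comm hA.comm p.2 q.2) }
  let e' : ↥(span ρ A) := ⟨e, he.mem⟩
  let I : Ideal ↥(span ρ A) :=
    { carrier := {r | r * e' = 0}
      zero_mem' := zero_mul _
      add_mem' := fun {p q} hp hq => by
        show (p + q) * e' = 0
        rw [add_mul, show p * e' = 0 from hp, show q * e' = 0 from hq, add_zero]
      smul_mem' := fun c p hp => by
        show c * p * e' = 0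
        rw [mul_assoc, show p * e' = 0 from hp, mul_zero] }
  have hmem : ∀ r, r ∈ I ↔ (r : Module.End (ZMod 3) V) * e = 0 := fun r => Subtype.ext_iff
  haveI : I.IsPrime := by
    refine ⟨fun h => he.ne_zero ?_, fun {p q} hpq => ?_⟩
    · simpa using (hmem 1).1 (h ▸ Submodule.mem_top)
    · by_contra hcon
      push Not at hcon
      rw [hmem] at hpq hcon
      rw [hmem] at hcon
      refine hcon.2 (LinearMap.ext fun v => ?_)
      refine he.apply_eq_zero hA p.2 hcon.1 ?_ (congrArg (fun x => x v) hpq)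
      show e ((q : Module.End (ZMod 3) V) (e v)) = (q : Module.End (ZMod 3) V) (e v)
      exact congrArg (fun x => x v) (show e * (q * e) = q * e by
        rw [← mul_assoc, span_comm hA.comm he.mem q.2, mul_assoc, he.idem])
  exact ⟨↥(span ρ A) ⧸ I, inferInstance, inferInstance, Ideal.Quotient.mk I,
    fun r => Ideal.Quotient.eq_zero_iff_mem.trans (hmem r)⟩

/-- On an atom the elements of prime exponent are the powers of any one that is nontrivial there. -/
theorem IsPiece.exists_pow_of_root [Finite H] [Finite V] (hA : Good A) (he : IsPiece ρ A e) {s : ℕ}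
    (hs : s.Prime) {x y : H} (hx : x ∈ A) (hy : y ∈ A) (hxs : x ^ s = 1) (hys : y ^ s = 1)
    (hye : ρ y * e ≠ e) : ∃ i : ℕ, ρ x * e = ρ (y ^ i) * e := by
  obtain ⟨F, iF, iD, φ, hφ⟩ := he.exists_domain hA
  have heq : ∀ g h : H, ∀ (hg : g ∈ A) (hh : h ∈ A),
      φ ⟨ρ g, mem_span hg⟩ = φ ⟨ρ h, mem_span hh⟩ ↔ ρ g * e = ρ h * e := fun g h hg hh => by
    rw [← sub_eq_zero, ← map_sub, hφ]
    show (ρ g - ρ h) * e = 0 ↔ _
    rw [sub_mul, sub_eq_zero]
  have hpow : ∀ g : H, ∀ hg : g ∈ A, g ^ s = 1 → φ ⟨ρ g, mem_span hg⟩ ^ s = 1 := fun g hg h => by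
    rw [← map_pow, ← map_one φ]
    congr 1
    exact Subtype.ext (by rw [SubmonoidClass.coe_pow, ← map_pow, h, map_one]; rfl)
  have hprim : IsPrimitiveRoot (φ ⟨ρ y, mem_span hy⟩) s := by
    haveI : Fact s.Prime := ⟨hs⟩
    have h1 : φ ⟨ρ y, mem_span hy⟩ ≠ 1 := fun h => hye (by
      have h0 : φ (⟨ρ y, mem_span hy⟩ - 1) = 0 := by rw [map_sub, h, map_one, sub_self]
      have h' := (hφ _).1 h0
      have h'' : (ρ y - 1) * e = 0 := h'
      rwa [sub_mul, one_mul, sub_eq_zero] at h'')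
    exact IsPrimitiveRoot.iff_orderOf.2 (orderOf_eq_prime (hpow y hy hys) h1)
  haveI : NeZero s := ⟨hs.ne_zero⟩
  obtain ⟨i, -, hi⟩ := hprim.eq_pow_of_pow_eq_one (hpow x hx hxs)
  refine ⟨i, (heq x (y ^ i) hx (pow_mem hy i)).1 ?_⟩
  rw [← hi, ← map_pow]
  congr 1
  exact Subtype.ext (by rw [SubmonoidClass.coe_pow, ← map_pow])

/-- Conjugation by an element normalising `A`. -/
theorem conj_mem_span {g : H} (hg : ∀ x ∈ A, g * x * g⁻¹ ∈ A) {r : Module.End (ZMod 3) V}
    (hr : r ∈ span ρ A) : ρ g * r * ρ g⁻¹ ∈ span ρ A := by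
  have h1 : ρ g * ρ g⁻¹ = 1 := by rw [← map_mul, mul_inv_cancel, map_one]
  have h2 : ρ g⁻¹ * ρ g = 1 := by rw [← map_mul, inv_mul_cancel, map_one]
  induction hr using Algebra.adjoin_induction with
  | mem y hy =>
    obtain ⟨x, hx, rfl⟩ := hy
    rw [← map_mul, ← map_mul]
    exact mem_span (hg x hx)
  | algebraMap c => rw [← Algebra.commutes, mul_assoc, h1, mul_one]; exact Subalgebra.algebraMap_mem _ c
  | add y z _ _ ey ez => rw [mul_add, add_mul]; exact add_mem ey ez
  | mul y z _ _ ey ez =>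
    rw [show ρ g * (y * z) * ρ g⁻¹ = (ρ g * y * ρ g⁻¹) * (ρ g * z * ρ g⁻¹) by
      calc ρ g * (y * z) * ρ g⁻¹ = ρ g * y * 1 * z * ρ g⁻¹ := by rw [mul_one]; simp only [mul_assoc]
        _ = ρ g * y * (ρ g⁻¹ * ρ g) * z * ρ g⁻¹ := by rw [h2]
        _ = _ := by simp only [mul_assoc]]
    exact mul_mem ey ez

theorem conj_conj_cancel (g : H) (r : Module.End (ZMod 3) V) :
    ρ g * (ρ g⁻¹ * r * ρ g) * ρ g⁻¹ = r := by
  have h1 : ρ g * ρ g⁻¹ = 1 := by rw [← map_mul, mul_inv_cancel, map_one]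
  calc ρ g * (ρ g⁻¹ * r * ρ g) * ρ g⁻¹ = (ρ g * ρ g⁻¹) * r * (ρ g * ρ g⁻¹) := by simp only [mul_assoc]
    _ = r := by rw [h1, one_mul, mul_one]

theorem IsPiece.conj {g : H} (hg : ∀ x ∈ A, g * x * g⁻¹ ∈ A) (hg' : ∀ x ∈ A, g⁻¹ * x * g ∈ A)
    (he : IsPiece ρ A e) : IsPiece ρ A (ρ g * e * ρ g⁻¹) := by
  have h1 : ρ g * ρ g⁻¹ = 1 := by rw [← map_mul, mul_inv_cancel, map_one]
  have h2 : ρ g⁻¹ * ρ g = 1 := by rw [← map_mul, inv_mul_cancel, map_one]
  refine ⟨conj_mem_span hg he.mem, ?_, fun h => he.ne_zero ?_, fun f hf hff => ?_⟩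
  · calc ρ g * e * ρ g⁻¹ * (ρ g * e * ρ g⁻¹) = ρ g * e * (ρ g⁻¹ * ρ g) * e * ρ g⁻¹ := by
          simp only [mul_assoc]
      _ = ρ g * (e * e) * ρ g⁻¹ := by rw [h2, mul_one]; simp only [mul_assoc]
      _ = _ := by rw [he.idem]
  · calc e = (ρ g⁻¹ * ρ g) * e * (ρ g⁻¹ * ρ g) := by rw [h2, one_mul, mul_one]
      _ = ρ g⁻¹ * (ρ g * e * ρ g⁻¹) * ρ g := by simp only [mul_assoc]
      _ = 0 := by rw [h, mul_zero, zero_mul]
  · have hm : ρ g⁻¹ * f * ρ g ∈ span ρ A := by
      have := conj_mem_span (ρ := ρ) (g := g⁻¹) (by simpa using hg') hf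
      rwa [inv_inv] at this
    have key : f * (ρ g * e * ρ g⁻¹) = ρ g * (ρ g⁻¹ * f * ρ g * e) * ρ g⁻¹ := by
      calc f * (ρ g * e * ρ g⁻¹) = (ρ g * ρ g⁻¹) * f * ρ g * e * ρ g⁻¹ := by
            rw [h1, one_mul]; simp only [mul_assoc]
        _ = _ := by simp only [mul_assoc]
    rcases he.min _ hm (by
      calc ρ g⁻¹ * f * ρ g * (ρ g⁻¹ * f * ρ g) = ρ g⁻¹ * f * (ρ g * ρ g⁻¹) * f * ρ g := by
            simp only [mul_assoc]
        _ = ρ g⁻¹ * (f * f) * ρ g := by rw [h1, mul_one]; simp only [mul_assoc]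
        _ = _ := by rw [hff]) with h | h
    · exact Or.inl (by rw [key, h, mul_zero, zero_mul])
    · exact Or.inr (by rw [key, h])

section Sigma

variable [Finite H] [Finite V]

/-- An element of prime order `s` normalising `A` and fixing an atom on which the algebra has fewer than
`3 ^ s` elements commutes with `A` there. -/
theorem IsPiece.commute_of_card (hA : Good A) (he : IsPiece ρ A e) {g : H} {s : ℕ} (hs : s.Prime)
    (hgs : g ^ s = 1) (hg : ∀ x ∈ A, g * x * g⁻¹ ∈ A) (hge : ρ g * e * ρ g⁻¹ = e)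
    (hcard : Nat.card (Set.range fun r : ↥(span ρ A) => (r : Module.End (ZMod 3) V) * e) < 3 ^ s)
    {x : H} (hx : x ∈ A) : ρ (g * x * g⁻¹) * e = ρ x * e := by
  classical
  haveI : Fact (Nat.Prime 3) := ⟨Nat.prime_three⟩
  haveI : Finite (Module.End (ZMod 3) V) := Finite.of_injective _ DFunLike.coe_injective
  letI : CommRing ↥(span ρ A) :=
    { (inferInstance : Ring ↥(span ρ A)) with
      mul_comm := fun p q => Subtype.ext (span_comm hA.comm p.2 q.2) }
  -- the conjugation
  let σ : ↥(span ρ A) →ₐ[ZMod 3] ↥(span ρ A) :=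
    { toFun := fun r => ⟨ρ g * r * ρ g⁻¹, conj_mem_span hg r.2⟩
      map_one' := Subtype.ext (by simp [← map_mul])
      map_mul' := fun p q => Subtype.ext (by
        have h2 : ρ g⁻¹ * ρ g = 1 := by rw [← map_mul, inv_mul_cancel, map_one]
        show ρ g * (↑p * ↑q) * ρ g⁻¹ = ρ g * ↑p * ρ g⁻¹ * (ρ g * ↑q * ρ g⁻¹)
        calc ρ g * (↑p * ↑q) * ρ g⁻¹ = ρ g * ↑p * 1 * ↑q * ρ g⁻¹ := by rw [mul_one]; simp only [mul_assoc]
          _ = ρ g * ↑p * (ρ g⁻¹ * ρ g) * ↑q * ρ g⁻¹ := by rw [h2]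
          _ = _ := by simp only [mul_assoc])
      map_zero' := Subtype.ext (by simp)
      map_add' := fun p q => Subtype.ext (by simp [mul_add, add_mul])
      commutes' := fun r => Subtype.ext (by
        show ρ g * algebraMap _ _ r * ρ g⁻¹ = algebraMap _ _ r
        rw [← Algebra.commutes, mul_assoc, ← map_mul, mul_inv_cancel, map_one, mul_one]) }
  let e' : ↥(span ρ A) := ⟨e, he.mem⟩
  let I : Ideal ↥(span ρ A) :=
    { carrier := {r | r * e' = 0}
      zero_mem' := zero_mul _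
      add_mem' := fun {p q} hp hq => by
        show (p + q) * e' = 0
        rw [add_mul, show p * e' = 0 from hp, show q * e' = 0 from hq, add_zero]
      smul_mem' := fun c p hp => by
        show c * p * e' = 0
        rw [mul_assoc, show p * e' = 0 from hp, mul_zero] }
  have hmem : ∀ r, r ∈ I ↔ (r : Module.End (ZMod 3) V) * e = 0 := fun r => Subtype.ext_iff
  haveI : I.IsPrime := by
    refine ⟨fun h => he.ne_zero ?_, fun {p q} hpq => ?_⟩
    · simpa using (hmem 1).1 (h ▸ Submodule.mem_top)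
    · by_contra hcon
      push Not at hcon
      rw [hmem] at hpq hcon
      rw [hmem] at hcon
      refine hcon.2 (LinearMap.ext fun v => ?_)
      refine he.apply_eq_zero hA p.2 hcon.1 ?_ (congrArg (fun x => x v) hpq)
      show e ((q : Module.End (ZMod 3) V) (e v)) = (q : Module.End (ZMod 3) V) (e v)
      exact congrArg (fun x => x v) (show e * (q * e) = q * e by
        rw [← mul_assoc, span_comm hA.comm he.mem q.2, mul_assoc, he.idem])
  have hσI : I ≤ I.comap σ := fun p hp => by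
    rw [Ideal.mem_comap, hmem]
    rw [hmem] at hp
    show ρ g * p * ρ g⁻¹ * e = 0
    have h2 : ρ g⁻¹ * ρ g = 1 := by rw [← map_mul, inv_mul_cancel, map_one]
    calc ρ g * p * ρ g⁻¹ * e = ρ g * p * ρ g⁻¹ * (ρ g * e * ρ g⁻¹) := by rw [hge]
      _ = ρ g * p * (ρ g⁻¹ * ρ g) * e * ρ g⁻¹ := by simp only [mul_assoc]
      _ = ρ g * (p * e) * ρ g⁻¹ := by rw [h2, mul_one]; simp only [mul_assoc]
      _ = 0 := by rw [hp, mul_zero, zero_mul]
  let F := ↥(span ρ A) ⧸ I
  let τ : F →ₐ[ZMod 3] F := Ideal.quotientMapₐ I σ hσI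
  set c : F := Ideal.Quotient.mk I ⟨ρ x, mem_span hx⟩ with hc
  suffices τ c = c by
    have h : σ ⟨ρ x, mem_span hx⟩ - ⟨ρ x, mem_span hx⟩ ∈ I := Ideal.Quotient.eq.1 this
    rw [hmem] at h
    have h' : (ρ g * ρ x * ρ g⁻¹ - ρ x) * e = 0 := h
    rw [sub_mul, sub_eq_zero, ← map_mul, ← map_mul] at h'
    exact h'
  -- the orbit of `c`
  by_contra hne
  have hiter : ∀ (n : ℕ) (r : ↥(span ρ A)),
      ((σ^[n] r : ↥(span ρ A)) : Module.End (ZMod 3) V) = ρ (g ^ n) * r * ρ (g ^ n)⁻¹ := by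
    intro n r
    induction n with
    | zero => simp
    | succ n ih =>
      rw [Function.iterate_succ_apply']
      show ρ g * ↑(σ^[n] r) * ρ g⁻¹ = _
      rw [ih, pow_succ', mul_inv_rev, map_mul, map_mul]
      simp only [mul_assoc]
  have hτit : ∀ (n : ℕ) (r : ↥(span ρ A)),
      τ^[n] (Ideal.Quotient.mk I r) = Ideal.Quotient.mk I (σ^[n] r) := by
    intro n r
    induction n with
    | zero => rfl
    | succ n ih => rw [Function.iterate_succ_apply', Function.iterate_succ_apply', ih]; rfl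
  have hper : Function.IsPeriodicPt τ s c := by
    show τ^[s] c = c
    rw [hc, hτit]
    congr 1
    exact Subtype.ext (by rw [hiter, hgs]; simp)
  haveI : Fact s.Prime := ⟨hs⟩
  have hmin : Function.minimalPeriod τ c = s :=
    Function.minimalPeriod_eq_prime hper hne
  haveI : Finite ↥(span ρ A) := Finite.of_injective _ Subtype.val_injective
  haveI : Finite F := Finite.of_surjective _ Ideal.Quotient.mk_surjective
  haveI : FiniteDimensional (ZMod 3) F := Module.Finite.of_finite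
  have hint : IsIntegral (ZMod 3) c := IsIntegral.of_finite (ZMod 3) c
  set P := minpoly (ZMod 3) c
  have hP0 : (P.map (algebraMap (ZMod 3) F)) ≠ 0 := (minpoly.monic hint).map _ |>.ne_zero
  have hroots : ((Finset.range s).image fun n => τ^[n] c) ⊆ (P.map (algebraMap (ZMod 3) F)).roots.toFinset := by
    intro y hy
    obtain ⟨n, -, rfl⟩ := Finset.mem_image.1 hy
    clear hy
    rw [Multiset.mem_toFinset, Polynomial.mem_roots hP0, Polynomial.IsRoot.def,
      Polynomial.eval_map_algebraMap]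
    induction n with
    | zero => exact minpoly.aeval _ _
    | succ n ih => rw [Function.iterate_succ_apply', Polynomial.aeval_algHom_apply, ih, map_zero]
  have hsP : s ≤ P.natDegree := by
    have h1 := Finset.card_le_card hroots
    rw [Finset.card_image_of_injOn, Finset.card_range] at h1
    · exact h1.trans ((Multiset.toFinset_card_le _).trans ((Polynomial.card_roots' _).trans
        (Polynomial.natDegree_map_le)))
    · intro i hi j hj hij
      exact Function.iterate_injOn_Iio_minimalPeriod (by rw [hmin]; simpa using hi)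
        (by rw [hmin]; simpa using hj) hij
  have hfr : P.natDegree ≤ Module.finrank (ZMod 3) F := minpoly.natDegree_le c
  have hF : Nat.card F = 3 ^ Module.finrank (ZMod 3) F := by
    rw [Module.natCard_eq_pow_finrank (K := ZMod 3)]; simp
  have hle : Nat.card F ≤
      Nat.card (Set.range fun r : ↥(span ρ A) => (r : Module.End (ZMod 3) V) * e) := by
    refine Nat.card_le_card_of_surjective (fun y => Ideal.Quotient.mk I y.2.choose) fun q => ?_
    obtain ⟨r, rfl⟩ := Ideal.Quotient.mk_surjective q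
    refine ⟨⟨(r : Module.End (ZMod 3) V) * e, r, rfl⟩, Ideal.Quotient.eq.2 ((hmem _).2 ?_)⟩
    have h := (⟨r, rfl⟩ : ∃ r' : ↥(span ρ A), (r' : Module.End (ZMod 3) V) * e = r * e).choose_spec
    push_cast
    rw [sub_mul, sub_eq_zero]
    exact h
  have := Nat.pow_le_pow_right (show 0 < 3 by norm_num) (hsP.trans hfr)
  omega

/-- An element of `s`-power order fixing an atom commutes there with the elements of order `s`. -/
theorem IsPiece.commute_of_root (hA : Good A) (he : IsPiece ρ A e) {g : H} {s : ℕ} (hs : s.Prime)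
    (hgs : ∃ m, g ^ s ^ m = 1) (hg : ∀ x ∈ A, g * x * g⁻¹ ∈ A) (hge : ρ g * e * ρ g⁻¹ = e)
    {x : H} (hx : x ∈ A) (hxs : x ^ s = 1) : ρ (g * x * g⁻¹) * e = ρ x * e := by
  haveI : Fact s.Prime := ⟨hs⟩
  obtain ⟨m, hm⟩ := hgs
  have h2 : ρ g⁻¹ * ρ g = 1 := by rw [← map_mul, inv_mul_cancel, map_one]
  have conj : ∀ y : H, ρ (g * y * g⁻¹) * e = ρ g * (ρ y * e) * ρ g⁻¹ := fun y => by
    calc ρ (g * y * g⁻¹) * e = ρ g * ρ y * ρ g⁻¹ * (ρ g * e * ρ g⁻¹) := by rw [hge, map_mul, map_mul]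
      _ = ρ g * ρ y * (ρ g⁻¹ * ρ g) * e * ρ g⁻¹ := by simp only [mul_assoc]
      _ = _ := by rw [h2, mul_one]; simp only [mul_assoc]
  by_cases hxe : ρ x * e = e
  · rw [conj, hxe]; exact hge
  obtain ⟨i, hi⟩ := he.exists_pow_of_root hA hs (hg x hx) hx
    (by rw [conj_pow, hxs, mul_one, mul_inv_cancel]) hxs hxe
  have step : ∀ j : ℕ, ρ (g * x ^ j * g⁻¹) * e = ρ (x ^ (i * j)) * e := by
    intro j
    induction j with
    | zero => simp
    | succ j ihj =>
      have hc : e * ρ (x ^ i) = ρ (x ^ i) * e := span_comm hA.comm he.mem (mem_span (pow_mem hx i))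
      calc ρ (g * x ^ (j + 1) * g⁻¹) * e = ρ (g * x ^ j * g⁻¹) * (ρ (g * x * g⁻¹) * e) := by
            rw [← mul_assoc, ← map_mul]; congr 2; rw [pow_succ]; group
        _ = ρ (g * x ^ j * g⁻¹) * e * ρ (x ^ i) := by rw [hi, ← hc, ← mul_assoc]
        _ = ρ (x ^ (i * j)) * (e * ρ (x ^ i)) := by rw [ihj, mul_assoc]
        _ = _ := by rw [hc, ← mul_assoc, ← map_mul, ← pow_add]; rfl
  have it : ∀ n : ℕ, ρ (g ^ n * x * (g ^ n)⁻¹) * e = ρ (x ^ (i ^ n)) * e := by
    intro n
    induction n with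
    | zero => simp
    | succ n ih =>
      calc ρ (g ^ (n + 1) * x * (g ^ (n + 1))⁻¹) * e
          = ρ (g * (g ^ n * x * (g ^ n)⁻¹) * g⁻¹) * e := by congr 2; rw [pow_succ']; group
        _ = ρ g * (ρ (x ^ (i ^ n)) * e) * ρ g⁻¹ := by rw [conj, ih]
        _ = ρ (x ^ (i * i ^ n)) * e := by rw [← conj, step]
        _ = _ := by rw [← pow_succ']
  have hfix := it (s ^ m)
  rw [hm, one_mul, inv_one, mul_one] at hfix
  have hfermat : ((i ^ s ^ m : ℕ) : ZMod s) = (i : ZMod s) := by
    rw [Nat.cast_pow, ZMod.pow_card_pow]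
  rw [hi, hfix]
  congr 2
  rw [pow_eq_pow_mod i hxs, pow_eq_pow_mod (i ^ s ^ m) hxs,
    show i ^ s ^ m % s = i % s from (ZMod.natCast_eq_natCast_iff' _ _ _).1 hfermat]

end Sigma

end CfsgLib.Walter.Field
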