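import Cfsg.Agent.Lib.Recog.Walter.Field.XLevel
import Cfsg.Agent.Lib.Recog.JankoThompson.Ward.BorelMain
import Cfsg.Agent.Lib.Recog.ReeType.Real
import Cfsg.Agent.S0343

/-!
Owner: helper22. Walter, field part, the group `X = O^{2'}(C(f)/⟨f⟩)` for a fixed field of at least eleven elements: its
centralisers of involutions are `Z₂ × PSL(2, q₀)`, so it is of Ree type, and for a prime `p ≥ 5` dividing
`q₀² - q₀ + 1` an element of order three of `C(t)` acts as a scalar on a Sylow `p`-subgroup inverted by `t`.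
-/

set_option autoImplicit false
set_option linter.all false

namespace CfsgLib.Recog.Walter.FieldXLevel

open Subgroup CfsgLib.Recog.JankoThompson

universe u

/-- the scalar action transported along an isomorphism -/
def Scalar.map {X Y : Type*} [Group X] [Group Y] {p : ℕ} {t : X} {t' : Y} (S : Scalar X p t) (φ : X ≃* Y)
    (ht : φ t = t') : Scalar Y p t' where
  P := S.P.map φ.toMonoidHom
  c := φ S.c
  l := S.l
  pgroup := S.pgroup.map _
  card_P := by
    rw [Subgroup.card_map_of_injective φ.injective, S.card_P, Nat.card_congr φ.toEquiv]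
  comm := by
    rintro _ ⟨a, ha, rfl⟩ _ ⟨b, hb, rfl⟩
    simp [← map_mul, S.comm a ha b hb]
  inverted := by
    rintro _ ⟨a, ha, rfl⟩
    simp [← ht, ← map_mul, ← map_inv, S.inverted a ha]
  c_t := by rw [← ht, ← map_mul, S.c_t, map_mul]
  scalar := by
    rintro _ ⟨a, ha, rfl⟩
    simp [← map_mul, ← map_inv, ← map_pow, S.scalar a ha]
  l_cube := S.l_cube
  l_sq := S.l_sq
  two := by
    intro x hxt hP hk
    obtain ⟨y, rfl⟩ := φ.surjective x
    have h1 : y ∈ zpowers t := by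
      refine S.two y (φ.injective (by rw [map_mul, map_mul, ht]; exact hxt)) (fun a ha => ?_) ?_
      · obtain ⟨b, hb, he⟩ := hP (φ a) ⟨a, ha, rfl⟩
        have hb' : b = y * a * y⁻¹ := φ.injective (by simpa using he)
        exact hb' ▸ hb
      · obtain ⟨k, hk⟩ := hk
        exact ⟨k, φ.injective (by rw [map_pow, hk, map_one])⟩
    obtain ⟨j, rfl⟩ := mem_zpowers_iff.1 h1
    exact ⟨j, by rw [map_zpow, ht]⟩

variable {X : Type u} [Group X] [Finite X] [IsSimpleGroup X]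

/-- **the group of Ree type inside the centraliser of a field automorphism** -/
theorem xlocal {F : Type} [Field F] [Fintype F] (hab : ∀ P : Sylow 2 X, ∀ a b : P, a * b = b * a) {t : X}
    (ht : orderOf t = 2)
    (e : ↥(centralizer ({t} : Set X)) ≃* Multiplicative (ZMod 2) × P2 F)
    (h8 : Fintype.card F % 8 = 3 ∨ Fintype.card F % 8 = 5) (hbig : 11 ≤ Fintype.card F) :
    (∃ m : ℕ, 1 ≤ m ∧ Fintype.card F = 3 ^ (2 * m + 1)) ∧
      Nat.card X = Fintype.card F ^ 3 * (Fintype.card F ^ 3 + 1) * (Fintype.card F - 1) ∧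
      ∀ p : ℕ, p.Prime → 5 ≤ p → p ∣ Fintype.card F ^ 2 - Fintype.card F + 1 → Nonempty (Scalar X p t) := by
  classical
  obtain ⟨c⟩ := exists_ctx hab ht e h8 hbig
  obtain ⟨d, ⟨T⟩⟩ := nonempty_tori c
  let _ := Fintype.ofFinite X
  let _ := Fintype.ofFinite (Cfsg.IrrCharacter X)
  obtain ⟨L, J, _, _, K, hKq, hKN⟩ := c.exists_cols T
  obtain ⟨m, hm, hq3, hN⟩ := Cfsg.Agent.S0343.conclusion_nat K hKq hKN
  have hN' : Nat.card X = Fintype.card F ^ 3 * (Fintype.card F ^ 3 + 1) * (Fintype.card F - 1) := by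
    rw [hq3]; exact hN
  refine ⟨⟨m, hm, hq3⟩, hN', fun p hp hp5 hpΦ => ?_⟩
  let S : ReeType.Setup X F := ⟨c, d, T, m, hm, hq3, hN'⟩
  have hC : S.CDeg := S.cDeg
  have huu : S.uu = c.q ^ 2 - c.q + 1 := by
    show c.q * (c.q - 1) + 1 = _
    rw [Nat.mul_sub, mul_one, ← pow_two]
  have hcent : ∀ (r : ℕ) (z : X), r.Prime → r ∣ c.q ^ 2 - c.q + 1 → orderOf z = r →
      ∃ (s : X) (v : ℕ), orderOf s = 2 ∧ c.IsTorusOrder m v ∧ r ∣ v ∧
        Nat.card (centralizer ({z} : Set X)) = v ∧ ∀ a ∈ centralizer ({z} : Set X), s * a * s⁻¹ = a⁻¹ := by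
    intro r z hr hru hz
    obtain ⟨s, σ, hσ, hrσ, hcard, hs, -, hinv⟩ := S.good_structure hC hr (huu ▸ hru) hz
    refine ⟨s, _, hs, ?_, ?_, rfl, hinv⟩
    · have hθ : (3 : ℤ) * (S.θ : ℤ) = 3 ^ (m + 1) := by
        show (3 : ℤ) * ((3 ^ m : ℕ) : ℤ) = _
        push_cast; rw [pow_succ']
      unfold Ctx.IsTorusOrder
      rw [hcard]
      show (S.q : ℤ) + 1 + 3 * S.θ * σ = _ ∨ (S.q : ℤ) + 1 + 3 * S.θ * σ = _
      rcases hσ with rfl | rfl
      · left; rw [← hθ, mul_one]; rfl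
      · right; rw [← hθ]; show _ = ((c.q : ℤ) + 1) - _; rw [show S.q = c.q from rfl]; ring
    · exact Int.natCast_dvd_natCast.1 (hcard ▸ hrσ)
  obtain ⟨v, hv, hpv, hvΦ, ⟨TD⟩⟩ := c.exists_torus hq3 S.q_ge hN' hcent hp hpΦ
  have hfree : ∀ (x z : X) (r : ℕ), r.Prime → r ≠ 2 → r ≠ 3 → orderOf x = r → orderOf z = 3 → x * z ≠ z * x := by
    intro x z r hr r2 r3 hx hz h
    have h1 : z = 1 := S.three_free hC hr r2 r3 hx ⟨1, by rw [hz, pow_one]⟩ h.symm
    rw [h1, orderOf_one] at hz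
    omega
  have hfour : ∀ D : Subgroup X, IsPGroup 3 D → ∀ a b : X, orderOf a = 2 → orderOf b = 2 → a ≠ b → a * b = b * a →
      a ∈ normalizer (D : Set X) → b ∈ normalizer (D : Set X) → D = ⊥ := fun D hD a b ha hb hne hab' hna hnb =>
    S.no_four hD ha hb hab' hne.symm (fun x hx => (mem_normalizer_iff.1 hna x).1 hx)
      (fun x hx => (mem_normalizer_iff.1 hnb x).1 hx)
  obtain ⟨BD⟩ := c.exists_borel T hq3 S.q_mod hN' hfree hfour
  -- the full `p`-part lies in the torus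
  obtain ⟨v', hv'⟩ := hvΦ
  have hv0 : v ≠ 0 := fun e0 => Nat.card_pos.ne' (TD.card_M.trans e0)
  obtain ⟨p2, p3, pq, pm, pp, -⟩ := S.r_facts hp (huu ▸ hpΦ)
  have hv'0 : v' ≠ 0 := fun e0 => by rw [e0, mul_zero] at hv'; exact Nat.succ_ne_zero _ hv'
  have hsum : (v : ℤ) + v' = 2 * ((c.q : ℤ) + 1) := by
    have h9 : ((3 : ℤ) ^ (m + 1)) ^ 2 = 3 * c.q := by
      rw [show c.q = 3 ^ (2 * m + 1) from hq3]; push_cast; rw [← pow_mul, ← pow_succ']; congr 1; ring
    have hprod : (v : ℤ) * v' = (c.q : ℤ) ^ 2 - c.q + 1 := by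
      have h2 : c.q ≤ c.q ^ 2 := Nat.le_self_pow two_ne_zero _
      have := congrArg (Nat.cast (R := ℤ)) hv'
      push_cast [Nat.cast_sub h2] at this
      linarith
    rcases hv with e1 | e1
    · have hne : (c.q : ℤ) + 1 + 3 ^ (m + 1) ≠ 0 := by positivity
      have hv2 : (v' : ℤ) = (c.q : ℤ) + 1 - 3 ^ (m + 1) := by
        refine mul_left_cancel₀ hne ?_
        rw [← e1, hprod, e1]; linear_combination h9
      linarith
    · have hne : (c.q : ℤ) + 1 - 3 ^ (m + 1) ≠ 0 := by rw [← e1]; exact_mod_cast hv0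
      have hv2 : (v' : ℤ) = (c.q : ℤ) + 1 + 3 ^ (m + 1) := by
        refine mul_left_cancel₀ hne ?_
        rw [← e1, hprod, e1]; linear_combination h9
      linarith
  have hpv' : ¬ p ∣ v' := fun h => by
    have h1 : (p : ℤ) ∣ 2 * ((c.q : ℤ) + 1) :=
      hsum ▸ dvd_add (Int.natCast_dvd_natCast.2 hpv) (Int.natCast_dvd_natCast.2 h)
    rcases (Nat.Prime.dvd_mul hp).1 (show p ∣ 2 * (c.q + 1) by exact_mod_cast h1) with h2 | h2
    · exact p2 ((Nat.prime_dvd_prime_iff_eq hp Nat.prime_two).1 h2)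
    · exact pp h2
  have hfull : (Nat.card X).factorization p = v.factorization p := by
    have hA : ¬ p ∣ S.q ^ 3 * (S.q - 1) * (S.q + 1) := fun h => by
      rcases (Nat.Prime.dvd_mul hp).1 h with h | h
      · rcases (Nat.Prime.dvd_mul hp).1 h with h | h
        exacts [pq (hp.dvd_of_dvd_pow h), pm h]
      · exact pp h
    have hA0 : S.q ^ 3 * (S.q - 1) * (S.q + 1) ≠ 0 := fun h => hA (h ▸ dvd_zero p)
    rw [S.card_eq, huu, hv', Nat.factorization_mul hA0 (mul_ne_zero hv0 hv'0), Nat.factorization_mul hv0 hv'0,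
      Finsupp.add_apply, Finsupp.add_apply, Nat.factorization_eq_zero_of_not_dvd hA,
      Nat.factorization_eq_zero_of_not_dvd hpv', zero_add, add_zero]
  obtain ⟨R⟩ := exists_scalar (q := c.q) (n := 2 * m + 1) BD TD hq3 (by omega) c.ht hp hp5 hpv
    (hv' ▸ dvd_mul_right _ _) hfull
  obtain ⟨g, hg⟩ := isConj_iff.1 (c.one_class t ht)
  exact ⟨R.map (MulAut.conj g) hg⟩

end CfsgLib.Recog.Walter.FieldXLevel
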