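import Cfsg.Agent.Lib.Recog.Walter.Field.SylowKey.Fusion
import Mathlib.GroupTheory.Transfer

/-!
Owner: helper21. Walter, field part (B): the key lemma on Sylow subgroups.

`z` of order `p ^ (b + 1)` not fused inside `⟨z⟩`, with an abelian Sylow `p`-subgroup `A` of `C(z)` of order
`p |z|` and an element of odd prime order `r ≠ p` of `C(z)` acting nontrivially on `A`: there is a
homomorphism to `ZMod p` which does not vanish at `z`.
-/

set_option autoImplicit false
set_option linter.style.haveILetI false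
set_option linter.unusedSectionVars false

namespace CfsgLib.Walter.Field.SylowKey

open Subgroup MulAction

universe u

variable {G : Type u} [Group G] [Finite G] {p r M : ℕ} [Fact p.Prime] {z c ρ : G} {A : Subgroup G}

theorem good_start (h : Data p r M z c ρ A) : Good p z c A A c where
  pr := h.A_p
  le := le_rfl
  cen := h.c_cen
  act := fun _ _ => rfl
  norm := by
    refine mem_normalizer_iff.2 fun x => ⟨h.c_norm x, fun hx => ?_⟩
    have hn : ∀ n : ℕ, c ^ n * (c * x * c⁻¹) * (c ^ n)⁻¹ ∈ A := by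
      intro n
      induction n with
      | zero => simpa using hx
      | succ m ih =>
        rw [pow_succ', mul_inv_rev, show c * c ^ m * (c * x * c⁻¹) * ((c ^ m)⁻¹ * c⁻¹)
          = c * (c ^ m * (c * x * c⁻¹) * (c ^ m)⁻¹) * c⁻¹ by group]
        exact h.c_norm _ ih
    have h1 := hn (r - 1)
    rwa [show c ^ (r - 1) * (c * x * c⁻¹) * (c ^ (r - 1))⁻¹ = c ^ r * x * (c ^ r)⁻¹ by
      conv_rhs => rw [← Nat.sub_add_cancel h.r_prime.one_lt.le, pow_succ]
      group, h.c_pow, one_mul, inv_one, mul_one] at h1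
  coprime := fun hd => h.r_ne ((Nat.prime_dvd_prime_iff_eq Fact.out h.r_prime).1
    (hd.trans (orderOf_dvd_of_pow_eq_one h.c_pow))).symm

/-- A larger good subgroup. -/
theorem good_step (h : Data p r M z c ρ A) {D : Subgroup G} {c' : G} (hG : Good p z c A D c')
    (hns : ∀ S : Sylow p G, (S : Subgroup G) ≠ D) :
    ∃ (D' : Subgroup G) (c'' : G), D < D' ∧ Good p z c A D' c'' := by
  obtain ⟨S, hS⟩ := hG.pr.exists_le_sylow
  haveI := S.isPGroup'.isNilpotent
  have hnc : NormalizerCondition (S : Subgroup G) := Group.normalizerCondition_of_isNilpotent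
  have hlt : D.subgroupOf (S : Subgroup G) < ⊤ := lt_top_iff_ne_top.2 fun h1 =>
    hns S (le_antisymm (subgroupOf_eq_top.1 h1) hS)
  obtain ⟨⟨x, hxS⟩, hxN, hxD⟩ := SetLike.exists_of_lt (hnc _ hlt)
  have hxN' : x ∈ normalizer (D : Set G) := by
    refine mem_normalizer_iff.2 fun y => ⟨fun hy => ?_, fun hy => ?_⟩
    · have h1 := (mem_normalizer_iff.1 hxN ⟨y, hS hy⟩).1 (mem_subgroupOf.2 hy)
      simpa [mem_subgroupOf] using h1
    · have hyS : y ∈ (S : Subgroup G) := by
        have h1 := mul_mem (mul_mem (inv_mem hxS) (hS hy)) hxS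
        rwa [show x⁻¹ * (x * y * x⁻¹) * x = y by group] at h1
      exact mem_subgroupOf.1 ((mem_normalizer_iff.1 hxN ⟨y, hyS⟩).2 (mem_subgroupOf.2 hy))
  -- a Sylow subgroup of the normalizer above `⟨D, x⟩`
  set N : Subgroup G := normalizer (D : Set G) with hN
  set Q : Subgroup G := (S : Subgroup G) ⊓ N with hQ
  obtain ⟨R, hR⟩ := ((S.isPGroup'.to_le (inf_le_left : Q ≤ S)).of_equiv
    (subgroupOfEquivOfLe (inf_le_right : Q ≤ N)).symm).exists_le_sylow
  set w : N := ⟨c', hG.norm⟩ with hw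
  obtain ⟨n, hnC, hn⟩ := sylow_conj h hG (w • R) R
  set D' : Subgroup G := (R : Subgroup N).map N.subtype with hD'
  have hDD' : D ≤ D' := fun y hy =>
    ⟨⟨y, le_normalizer hy⟩, hR (mem_subgroupOf.2 ⟨hS hy, le_normalizer hy⟩), rfl⟩
  set c2 : G := (n : G) * c' with hc2
  have hnA : ∀ a ∈ A, (n : G) * a * (n : G)⁻¹ = a := fun a ha => by
    rw [← mem_centralizer_iff.1 hnC a (hG.le ha), mul_inv_cancel_right]
  have hnorm : c2 ∈ normalizer (D' : Set G) := by
    have key : ∀ y : N, y ∈ (R : Subgroup N) ↔ (n * w)⁻¹ * y * (n * w) ∈ (R : Subgroup N) := fun y => by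
      rw [hn y, Sylow.coe_subgroup_smul, Subgroup.mem_pointwise_smul_iff_inv_smul_mem]
      simp [MulAut.smul_def, mul_assoc]
    refine mem_normalizer_iff.2 fun y => ⟨?_, ?_⟩
    · rintro ⟨y', hy', rfl⟩
      exact ⟨(n * w) * y' * (n * w)⁻¹, (key _).2 (by
        rw [show (n * w)⁻¹ * ((n * w) * y' * (n * w)⁻¹) * (n * w) = y' by group]
        exact hy'), by simp [hc2, hw]⟩
    · rintro ⟨y', hy', hy''⟩
      refine ⟨(n * w)⁻¹ * y' * (n * w), (key y').1 hy', ?_⟩
      have h1 : (y' : G) = c2 * y * c2⁻¹ := hy''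
      show ((n : G) * c')⁻¹ * (y' : G) * ((n : G) * c') = y
      rw [h1, hc2]; group
  have hcen2 : c2 * z = z * c2 := by
    have h1 := hnA z h.z_mem
    rw [mul_inv_eq_iff_eq_mul] at h1
    rw [hc2, mul_assoc, hG.cen, ← mul_assoc, h1, mul_assoc]
  have hact2 : ∀ a ∈ A, c2 * a * c2⁻¹ = c * a * c⁻¹ := fun a ha => by
    rw [hc2, show (n : G) * c' * a * ((n : G) * c')⁻¹ = n * (c' * a * c'⁻¹) * (n : G)⁻¹ by group,
      hG.act a ha, hnA _ (h.c_norm a ha)]
  -- the `p'`-part
  obtain ⟨i, m, hm, hm2⟩ := Nat.exists_eq_pow_mul_and_not_dvd (orderOf_pos c2).ne' p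
    (Fact.out : p.Prime).one_lt.ne'
  obtain ⟨e, he1, he2⟩ := Nat.chineseRemainder
    ((((Nat.coprime_primes Fact.out h.r_prime).2 h.r_ne.symm)).pow_left i) 0 1
  have hcpow : ∀ (k : ℕ), ∀ a ∈ A, c2 ^ k * a * (c2 ^ k)⁻¹ = c ^ k * a * (c ^ k)⁻¹ ∧
      c ^ k * a * (c ^ k)⁻¹ ∈ A := by
    intro k
    induction k with
    | zero => intro a ha; simpa using ha
    | succ j ih =>
      intro a ha
      obtain ⟨e1, e2⟩ := ih a ha
      rw [pow_succ', pow_succ' c, mul_inv_rev c2 (c2 ^ j), mul_inv_rev c (c ^ j),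
        show c2 * c2 ^ j * a * ((c2 ^ j)⁻¹ * c2⁻¹) = c2 * (c2 ^ j * a * (c2 ^ j)⁻¹) * c2⁻¹ by group,
        show c * c ^ j * a * ((c ^ j)⁻¹ * c⁻¹) = c * (c ^ j * a * (c ^ j)⁻¹) * c⁻¹ by group, e1]
      exact ⟨hact2 _ e2, h.c_norm _ e2⟩
  refine ⟨D', c2 ^ e, lt_of_le_of_ne hDD' fun h1 => hxD ?_, ⟨?_, hG.le.trans hDD', ?_, ?_, ?_, ?_⟩⟩
  · refine mem_subgroupOf.2 ?_
    have hxD' : x ∈ D' := ⟨⟨x, hxN'⟩, hR (mem_subgroupOf.2 ⟨hxS, hxN'⟩), rfl⟩
    exact h1 ▸ hxD'
  · exact R.isPGroup'.map _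
  · exact (Commute.pow_left (show Commute c2 z from hcen2) e).eq
  · intro a ha
    have hce : c ^ e = c := by
      conv_rhs => rw [← pow_one c]
      exact pow_eq_pow_iff_modEq.2 (he2.of_dvd (orderOf_dvd_of_pow_eq_one h.c_pow))
    rw [(hcpow e a ha).1, hce]
  · exact pow_mem hnorm e
  · intro hd
    refine hm (hd.trans (orderOf_dvd_of_pow_eq_one ?_))
    rw [← pow_mul]
    exact orderOf_dvd_iff_pow_eq_one.1 (hm2 ▸ mul_dvd_mul (Nat.modEq_zero_iff_dvd.1 he1) dvd_rfl)

/-- A Sylow subgroup of `G` over `A`, normalised by a conjugate of the action of `c`. -/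
theorem exists_good_sylow (h : Data p r M z c ρ A) :
    ∃ (P : Sylow p G) (c' : G), Good p z c A (P : Subgroup G) c' := by
  suffices ∀ (D : Subgroup G) (c' : G), Good p z c A D c' →
      ∃ (P : Sylow p G) (c' : G), Good p z c A (P : Subgroup G) c' from this A c (good_start h)
  intro D
  induction hn : Nat.card G - Nat.card D using Nat.strong_induction_on generalizing D with
  | _ k ih =>
  intro c' hG
  by_cases hs : ∃ S : Sylow p G, (S : Subgroup G) = D
  · obtain ⟨S, hS⟩ := hs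
    exact ⟨S, c', hS.symm ▸ hG⟩
  push Not at hs
  obtain ⟨D', c'', hlt, hG'⟩ := good_step h hG hs
  have h1 : Nat.card D < Nat.card D' := lt_of_le_of_ne (card_le_of_le hlt.le)
    fun h1 => hlt.ne (eq_of_le_of_card_ge hlt.le h1.ge)
  exact ih _ (by have := card_le_card_group D'; omega) D' rfl c'' hG'

theorem good_of_le (h : Data p r M z c ρ A) {P : Subgroup G} {c' : G} (hG : Good p z c A P c')
    {D : Subgroup G} (hDP : D ≤ P) (hAD : A ≤ D) : Good p z c A D c' := by
  have hc : ∀ x ∈ D, c' * x * c'⁻¹ ∈ D := by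
    intro x hx
    obtain ⟨K, -, hKγ, -, hKs⟩ := split (hG.conf h)
    obtain ⟨k, hk, a, ha, hx'⟩ := hKs ⟨x, hDP hx⟩
    obtain ⟨i, rfl⟩ := mem_zpowers_iff.1 ha
    have hzD : z ∈ D := hAD h.z_mem
    have hkD : (k : G) ∈ D := by
      have h1 : (k : G) = x * (z ^ i)⁻¹ := by
        have h2 := congrArg Subtype.val hx'
        simp only [Subgroup.coe_mul, SubgroupClass.coe_zpow] at h2
        rw [h2, mul_inv_cancel_right]
      rw [h1]
      exact mul_mem hx (inv_mem (zpow_mem hzD i))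
    have h2 : c' * x * c'⁻¹ = (k : G) ^ M * z ^ i := by
      have h3 := congrArg (fun y => ((hG.aut y : P) : G)) hx'
      simp only [map_mul, map_zpow, hKγ k hk, (hG.conf h).γz, Subgroup.coe_mul,
        SubgroupClass.coe_pow, SubgroupClass.coe_zpow] at h3
      exact h3
    rw [h2]
    exact mul_mem (pow_mem hkD M) (zpow_mem hzD i)
  refine ⟨hG.pr.to_le hDP, hAD, hG.cen, hG.act, ?_, hG.coprime⟩
  refine mem_normalizer_iff.2 fun x => ⟨hc x, fun hx => ?_⟩
  have hn : ∀ n : ℕ, c' ^ n * (c' * x * c'⁻¹) * (c' ^ n)⁻¹ ∈ D := by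
    intro n
    induction n with
    | zero => simpa using hx
    | succ m ih =>
      rw [pow_succ', mul_inv_rev, show c' * c' ^ m * (c' * x * c'⁻¹) * ((c' ^ m)⁻¹ * c'⁻¹)
        = c' * (c' ^ m * (c' * x * c'⁻¹) * (c' ^ m)⁻¹) * c'⁻¹ by group]
      exact hc _ ih
  have h1 := hn (orderOf c' - 1)
  rwa [show c' ^ (orderOf c' - 1) * (c' * x * c'⁻¹) * (c' ^ (orderOf c' - 1))⁻¹
      = c' ^ orderOf c' * x * (c' ^ orderOf c')⁻¹ by
    conv_rhs => rw [← Nat.sub_add_cancel (orderOf_pos c'), pow_succ]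
    group, pow_orderOf_eq_one, one_mul, inv_one, mul_one] at h1

/-- The Sylow subgroups over `A` are conjugate under `C(A)`. -/
theorem exists_centralizer_conj (h : Data p r M z c ρ A) {P : Sylow p G} {c' : G}
    (hG : Good p z c A (P : Subgroup G) c') (P1 : Sylow p G) (hA : A ≤ (P1 : Subgroup G)) :
    ∃ n ∈ centralizer (A : Set G), ∀ x, x ∈ (P1 : Subgroup G) ↔ n * x * n⁻¹ ∈ (P : Subgroup G) := by
  induction hn : Nat.card (P : Subgroup G) - Nat.card ((P1 : Subgroup G) ⊓ P : Subgroup G)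
    using Nat.strong_induction_on generalizing P1 with
  | _ k ih =>
  set D : Subgroup G := (P1 : Subgroup G) ⊓ P with hD
  have hcardPP : Nat.card (P1 : Subgroup G) = Nat.card (P : Subgroup G) := by
    rw [P1.card_eq_multiplicity, P.card_eq_multiplicity]
  by_cases hDP : D = (P : Subgroup G)
  · refine ⟨1, one_mem _, fun x => ?_⟩
    have h1 : (P : Subgroup G) ≤ P1 := hDP ▸ inf_le_left
    rw [← eq_of_le_of_card_ge h1 hcardPP.le]
    simp
  have hlt : D < (P : Subgroup G) := lt_of_le_of_ne inf_le_right hDP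
  have hlt1 : D < (P1 : Subgroup G) := lt_of_le_of_ne inf_le_left fun h1 => hDP
    (eq_of_le_of_card_ge hlt.le (by rw [h1, hcardPP]))
  have hAD : A ≤ D := le_inf hA hG.le
  have hGD := good_of_le h hG hlt.le hAD
  set N : Subgroup G := normalizer (D : Set G) with hN
  have hgrow : ∀ S : Sylow p G, D < (S : Subgroup G) → D < (S : Subgroup G) ⊓ N := fun S hS => by
    haveI := S.isPGroup'.isNilpotent
    have hnc : NormalizerCondition (S : Subgroup G) := Group.normalizerCondition_of_isNilpotent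
    have hlt' : D.subgroupOf (S : Subgroup G) < ⊤ := lt_top_iff_ne_top.2 fun h1 =>
      hS.ne (le_antisymm hS.le (subgroupOf_eq_top.1 h1))
    obtain ⟨⟨x, hxS⟩, hxN, hxD⟩ := SetLike.exists_of_lt (hnc _ hlt')
    refine lt_of_le_of_ne (le_inf hS.le le_normalizer) fun h1 => hxD (mem_subgroupOf.2 (h1 ▸ ⟨hxS, ?_⟩))
    refine mem_normalizer_iff.2 fun y => ⟨fun hy => ?_, fun hy => ?_⟩
    · have h1 := (mem_normalizer_iff.1 hxN ⟨y, hS.le hy⟩).1 (mem_subgroupOf.2 hy)
      simpa [mem_subgroupOf] using h1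
    · have hyS : y ∈ (S : Subgroup G) := by
        have h1 := mul_mem (mul_mem (inv_mem hxS) (hS.le hy)) hxS
        rwa [show x⁻¹ * (x * y * x⁻¹) * x = y by group] at h1
      exact mem_subgroupOf.1 ((mem_normalizer_iff.1 hxN ⟨y, hyS⟩).2 (mem_subgroupOf.2 hy))
  obtain ⟨R0, hR0⟩ := ((P.isPGroup'.to_le (inf_le_left : (P : Subgroup G) ⊓ N ≤ P)).of_equiv
    (subgroupOfEquivOfLe (inf_le_right : (P : Subgroup G) ⊓ N ≤ N)).symm).exists_le_sylow
  obtain ⟨R1, hR1⟩ := ((P1.isPGroup'.to_le (inf_le_left : (P1 : Subgroup G) ⊓ N ≤ P1)).of_equiv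
    (subgroupOfEquivOfLe (inf_le_right : (P1 : Subgroup G) ⊓ N ≤ N)).symm).exists_le_sylow
  obtain ⟨n, hnC, hn'⟩ := sylow_conj h hGD R0 R1
  obtain ⟨P2, hP2⟩ := (R0.isPGroup'.map N.subtype).exists_le_sylow
  have hsub : ∀ S : Sylow p G, A ≤ (S : Subgroup G) → D < (S : Subgroup G) ⊓ P →
      ∃ m ∈ centralizer (A : Set G), ∀ x, x ∈ (S : Subgroup G) ↔ m * x * m⁻¹ ∈ (P : Subgroup G) := by
    intro S hS hlt2
    have h1 : Nat.card D < Nat.card ((S : Subgroup G) ⊓ P : Subgroup G) :=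
      lt_of_le_of_ne (card_le_of_le hlt2.le) fun h1 => hlt2.ne (eq_of_le_of_card_ge hlt2.le h1.ge)
    exact ih _ (by have := card_le_of_le (inf_le_right : (S : Subgroup G) ⊓ P ≤ P); omega) S hS rfl
  have h20 : D < (P2 : Subgroup G) ⊓ P := lt_of_lt_of_le (hgrow P hlt)
    (le_inf (fun x hx => hP2 ⟨⟨x, hx.2⟩, hR0 (mem_subgroupOf.2 hx), rfl⟩) inf_le_left)
  obtain ⟨m, hm, hmP⟩ := hsub P2 (hAD.trans (h20.le.trans inf_le_left)) h20
  set g : G := m * (n : G)⁻¹ with hg
  have hgA : g ∈ centralizer (A : Set G) :=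
    mul_mem hm (inv_mem (mem_centralizer_iff.2 fun a ha => mem_centralizer_iff.1 hnC a (hAD ha)))
  have hmove : ∀ x ∈ (P1 : Subgroup G) ⊓ N, g * x * g⁻¹ ∈ (P : Subgroup G) := fun x hx => by
    have h1 := (hn' ⟨x, hx.2⟩).1 (hR1 (mem_subgroupOf.2 hx))
    have h2 := (hmP _).1 (hP2 ⟨_, h1, rfl⟩)
    rwa [show m * N.subtype (n⁻¹ * ⟨x, hx.2⟩ * n) * m⁻¹ = g * x * g⁻¹ by simp [hg, mul_assoc]] at h2
  have hgA' : ∀ a ∈ A, g * a * g⁻¹ = a := fun a ha => by
    rw [← mem_centralizer_iff.1 hgA a ha, mul_inv_cancel_right]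
  have hS : A ≤ ((g • P1 : Sylow p G) : Subgroup G) := fun a ha => by
    rw [Sylow.coe_subgroup_smul, Subgroup.mem_pointwise_smul_iff_inv_smul_mem, MulAut.smul_def,
      ← map_inv, MulAut.conj_apply, inv_inv]
    have e : g⁻¹ * a * g = a := by
      conv_lhs => rw [← hgA' a ha]
      group
    rw [e]
    exact hA ha
  have hle : ((P1 : Subgroup G) ⊓ N).map (MulAut.conj g).toMonoidHom ≤
      ((g • P1 : Sylow p G) : Subgroup G) ⊓ P := by
    rintro _ ⟨x, hx, rfl⟩
    refine ⟨?_, hmove x hx⟩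
    rw [Sylow.coe_subgroup_smul]
    exact Subgroup.smul_mem_pointwise_smul x (MulAut.conj g) _ hx.1
  have hc : Nat.card D < Nat.card (((g • P1 : Sylow p G) : Subgroup G) ⊓ P : Subgroup G) := by
    refine lt_of_lt_of_le ?_ (card_le_of_le hle)
    rw [card_map_of_injective (MulAut.conj g).injective]
    have h5 := hgrow P1 hlt1
    exact lt_of_le_of_ne (card_le_of_le h5.le) fun h1 => h5.ne (eq_of_le_of_card_ge h5.le h1.ge)
  obtain ⟨m', hm', hm'P⟩ := ih _ (by
    have := card_le_of_le (inf_le_right : ((g • P1 : Sylow p G) : Subgroup G) ⊓ P ≤ P)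
    omega) (g • P1) hS rfl
  refine ⟨m' * g, mul_mem hm' hgA, fun x => ?_⟩
  rw [show m' * g * x * (m' * g)⁻¹ = m' * (g * x * g⁻¹) * m'⁻¹ by group, ← hm'P,
    Sylow.coe_subgroup_smul, ← MulAut.conj_apply, ← MulAut.smul_def,
    Subgroup.smul_mem_pointwise_smul_iff]

/-- The second coordinate is invariant under the normalizer of a good Sylow subgroup. -/
theorem coord_invariant (h : Data p r M z c ρ A) {P : Sylow p G} {c' : G}
    (hG : Good p z c A (P : Subgroup G) c')
    (K : Coord p M hG.aut (⟨z, hG.le h.z_mem⟩ : (P : Subgroup G)))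
    (g : normalizer ((P : Subgroup G) : Set G)) :
    K.H ((P : Subgroup G).normalizerMonoidHom g ⟨z, hG.le h.z_mem⟩) = Multiplicative.ofAdd 1 := by
  set φ := (P : Subgroup G).normalizerMonoidHom with hφ
  set f := K.rep.comp φ with hf
  have hp : ¬ p ∣ Nat.card f.range := by
    intro hd
    rw [← index_ker] at hd
    have hPk : (P : Subgroup G).subgroupOf (normalizer ((P : Subgroup G) : Set G)) ≤ f.ker := fun u hu => by
      rw [MonoidHom.mem_ker, hf, MonoidHom.comp_apply]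
      refine Units.ext ?_
      rw [K.rep_coe, Units.val_one]
      have h1 : ∀ (q : (P : Subgroup G) →* Multiplicative (ZMod p)) (y : (P : Subgroup G)), q (φ u y) = q y :=
        fun q y => by
          rw [show φ u y = (⟨(u : G), hu⟩ : (P : Subgroup G)) * y * (⟨(u : G), hu⟩ : (P : Subgroup G))⁻¹ from
            Subtype.ext rfl, map_mul, map_mul, map_inv, mul_comm (q _), mul_inv_cancel_right]
      ext i j
      fin_cases i <;> fin_cases j <;> simp [Coord.mat, h1, K.Xk, K.Xz, K.Hk, K.Hz]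
    have h2 : p ∣ (P : Subgroup G).index :=
      hd.trans ((index_dvd_of_le hPk).trans (Dvd.intro _ (relIndex_mul_index le_normalizer)))
    exact P.not_dvd_index h2
  have h3 := ((auto h hG K).second_row hp (g := f g) ⟨g, rfl⟩).2
  have h4 : ((f g : GL (Fin 2) (ZMod p)) : Matrix (Fin 2) (Fin 2) (ZMod p)) = K.mat (φ g) := rfl
  rw [h4] at h3
  exact Multiplicative.toAdd.injective (by simpa [Coord.mat] using h3)

/-- A product over an invariant function with values of exponent `p`. -/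
theorem prod_eq_pow_card {B : Type u} [Group B] (hB : IsPGroup p B) {α : Type u} [Fintype α]
    [MulAction B α] (F : α → Multiplicative (ZMod p)) (hF : ∀ (b : B) (a : α), F (b • a) = F a)
    (c0 : Multiplicative (ZMod p)) (hfix : ∀ a : α, (∀ b : B, b • a = a) → F a = c0) :
    ∏ a, F a = c0 ^ Fintype.card α := by
  classical
  have hexp : ∀ (x : Multiplicative (ZMod p)) (n : ℕ), p ∣ n → x ^ n = 1 := fun x n hn => by
    refine Multiplicative.toAdd.injective ?_
    rw [toAdd_pow, nsmul_eq_mul, (ZMod.natCast_eq_zero_iff n p).2 hn, zero_mul, toAdd_one]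
  rw [← Finset.card_univ, ← Finset.prod_const,
    ← Finset.prod_fiberwise Finset.univ (Quotient.mk (orbitRel B α)) F,
    ← Finset.prod_fiberwise Finset.univ (Quotient.mk (orbitRel B α)) (fun _ => c0)]
  refine Finset.prod_congr rfl fun ω _ => ?_
  induction ω using Quotient.inductionOn with
  | _ a =>
  have hset : (Finset.univ.filter fun x => Quotient.mk (orbitRel B α) x = Quotient.mk _ a)
      = (orbit B a).toFinset := by
    ext x
    simp only [Finset.mem_filter, Finset.mem_univ, true_and, Set.mem_toFinset, Quotient.eq]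
    exact Iff.rfl
  rw [hset, Finset.prod_const, Finset.prod_eq_pow_card (b := F a) fun x hx => by
    obtain ⟨b, rfl⟩ := Set.mem_toFinset.1 hx
    exact hF b a]
  obtain ⟨k, hk⟩ := hB.card_orbit a
  rw [Set.toFinset_card, ← Nat.card_eq_fintype_card, hk]
  rcases k with - | j
  · refine congrArg (· ^ _) (hfix a fun b => ?_)
    have h1 : Subsingleton (orbit B a) := (Nat.card_eq_one_iff_unique.1 (by rw [hk, pow_zero])).1
    exact congrArg Subtype.val (Subsingleton.elim (⟨b • a, mem_orbit a b⟩ : orbit B a) ⟨a, mem_orbit_self a⟩)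
  · rw [hexp _ _ (dvd_pow_self p j.succ_ne_zero), hexp _ _ (dvd_pow_self p j.succ_ne_zero)]

open scoped Classical in
/-- **The key lemma.** -/
theorem exists_hom (h0 : Hyp p r z c A) : ∃ φ : G →* Multiplicative (ZMod p), φ z ≠ 1 := by
  obtain ⟨M, ρ, h⟩ := h0.exists_data
  obtain ⟨P, c', hG⟩ := exists_good_sylow h
  obtain ⟨K⟩ := (hG.conf h).nonempty_coord (fun e => h.z_ne (congrArg Subtype.val e))
  set zP : (P : Subgroup G) := ⟨z, hG.le h.z_mem⟩
  letI : Fintype (G ⧸ (P : Subgroup G)) := Fintype.ofFinite _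
  refine ⟨MonoidHom.transfer K.H, ?_⟩
  set c0 : Multiplicative (ZMod p) := Multiplicative.ofAdd 1 with hc0
  let Fx : G → Multiplicative (ZMod p) := fun g =>
    if hg : g⁻¹ * z * g ∈ (P : Subgroup G) then K.H ⟨_, hg⟩ else c0
  have hFx : ∀ (g : G) (u : (P : Subgroup G)), Fx (g * u) = Fx g := fun g u => by
    have he : (g * u)⁻¹ * z * (g * u) = (u : G)⁻¹ * (g⁻¹ * z * g) * u := by group
    simp only [Fx]
    by_cases hg : g⁻¹ * z * g ∈ (P : Subgroup G)
    · have hg' : (g * u)⁻¹ * z * (g * u) ∈ (P : Subgroup G) := by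
        rw [he]; exact mul_mem (mul_mem (inv_mem u.2) hg) u.2
      rw [dif_pos hg, dif_pos hg', show (⟨_, hg'⟩ : (P : Subgroup G)) = u⁻¹ * ⟨_, hg⟩ * u from Subtype.ext he,
        map_mul, map_mul, map_inv, mul_comm _ (K.H u), mul_inv_cancel_left]
    · have hg' : (g * u)⁻¹ * z * (g * u) ∉ (P : Subgroup G) := fun h1 => hg (by
        rw [he] at h1
        have h2 := mul_mem (mul_mem u.2 h1) (inv_mem u.2)
        rwa [show (u : G) * ((u : G)⁻¹ * (g⁻¹ * z * g) * u) * (u : G)⁻¹ = g⁻¹ * z * g by group] at h2)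
      rw [dif_neg hg, dif_neg hg']
  let F : G ⧸ (P : Subgroup G) → Multiplicative (ZMod p) := fun q =>
    Quotient.liftOn' q Fx fun a b hab => by
      have h1 := QuotientGroup.leftRel_apply.1 hab
      rw [← hFx a ⟨_, h1⟩, mul_inv_cancel_left]
  have hFmk : ∀ g : G, F (g : G ⧸ (P : Subgroup G)) = Fx g := fun g => rfl
  have hFA : ∀ (a : A) (q : G ⧸ (P : Subgroup G)), F (a • q) = F q := fun a q => by
    obtain ⟨g, rfl⟩ := QuotientGroup.mk_surjective q
    show Fx ((a : G) * g) = Fx g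
    have he : ((a : G) * g)⁻¹ * z * ((a : G) * g) = g⁻¹ * z * g := by
      rw [mul_inv_rev, show g⁻¹ * (a : G)⁻¹ * z * ((a : G) * g) = g⁻¹ * ((a : G)⁻¹ * z * a) * g by group,
        mul_assoc ((a : G)⁻¹), h.A_comm z h.z_mem a a.2, inv_mul_cancel_left]
    simp only [Fx, he]
  have hfix : ∀ q : G ⧸ (P : Subgroup G), (∀ a : A, a • q = q) → F q = c0 := fun q hq => by
    obtain ⟨g, rfl⟩ := QuotientGroup.mk_surjective q
    have hAg : ∀ a ∈ A, g⁻¹ * a * g ∈ (P : Subgroup G) := fun a ha => by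
      have h1 : ((a * g : G) : G ⧸ (P : Subgroup G)) = (g : G ⧸ (P : Subgroup G)) := hq ⟨a, ha⟩
      rw [eq_comm, QuotientGroup.eq, ← mul_assoc] at h1
      exact h1
    have hS : A ≤ ((g • P : Sylow p G) : Subgroup G) := fun a ha => by
      rw [Sylow.coe_subgroup_smul, Subgroup.mem_pointwise_smul_iff_inv_smul_mem, MulAut.smul_def,
        ← map_inv, MulAut.conj_apply, inv_inv]
      exact hAg a ha
    obtain ⟨n, hn, hnP⟩ := exists_centralizer_conj h hG (g • P) hS
    have hN : n * g ∈ normalizer ((P : Subgroup G) : Set G) := mem_normalizer_iff.2 fun x => by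
      rw [show n * g * x * (n * g)⁻¹ = n * (g * x * g⁻¹) * n⁻¹ by group, ← hnP,
        Sylow.coe_subgroup_smul, ← MulAut.conj_apply, ← MulAut.smul_def,
        Subgroup.smul_mem_pointwise_smul_iff]
    have h1 := coord_invariant h hG K ⟨n * g, hN⟩⁻¹
    have hnz : n⁻¹ * z * n = z := by
      rw [mul_assoc, mem_centralizer_iff.1 hn z h.z_mem, inv_mul_cancel_left]
    rw [hFmk]
    simp only [Fx, dif_pos (hAg z h.z_mem)]
    refine Eq.trans (congrArg K.H (Subtype.ext ?_)) h1
    show g⁻¹ * z * g = (n * g)⁻¹ * z * ((n * g)⁻¹)⁻¹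
    rw [inv_inv, show (n * g)⁻¹ * z * (n * g) = g⁻¹ * (n⁻¹ * z * n) * g by group, hnz]
  have hzA : zpowers z ≤ A := zpowers_le.2 h.z_mem
  have htot := prod_eq_pow_card (p := p) h.A_p F hFA c0 hfix
  have horder : ∃ b, orderOf z = p ^ (b + 1) := by
    obtain ⟨k, hk⟩ := h.A_p ⟨z, h.z_mem⟩
    obtain ⟨i, -, hi⟩ := (Nat.dvd_prime_pow Fact.out).1
      (orderOf_dvd_of_pow_eq_one (congrArg Subtype.val hk : z ^ p ^ k = 1))
    rcases i with - | b
    · exact absurd (orderOf_eq_one_iff.1 (by rw [hi, pow_zero])) h.z_ne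
    · exact ⟨b, hi⟩
  obtain ⟨b, hb⟩ := horder
  have htr : MonoidHom.transfer K.H z = ∏ q, F q := by
    rw [MonoidHom.transfer_eq_prod_quotient_orbitRel_zpowers_quot,
      ← Finset.prod_fiberwise Finset.univ (Quotient.mk (orbitRel (zpowers z) (G ⧸ (P : Subgroup G)))) F]
    refine Finset.prod_congr rfl fun ω _ => ?_
    set q := ω.out with hq
    have hω : Quotient.mk _ q = ω := Quotient.out_eq ω
    have hset : (Finset.univ.filter fun x => Quotient.mk (orbitRel (zpowers z) (G ⧸ (P : Subgroup G))) x = ω)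
        = (orbit (zpowers z) q).toFinset := by
      ext x
      simp only [Finset.mem_filter, Finset.mem_univ, true_and, Set.mem_toFinset]
      rw [← hω, Quotient.eq]
      exact Iff.rfl
    rw [hset, Finset.prod_eq_pow_card (b := F q) fun x hx => by
      obtain ⟨a, rfl⟩ := Set.mem_toFinset.1 hx
      exact hFA ⟨a, hzA a.2⟩ q, Set.toFinset_card, ← Nat.card_eq_fintype_card,
      show Nat.card (orbit (zpowers z) q) = Function.minimalPeriod (z • ·) q by
        exact Nat.card_eq_fintype_card.trans (MulAction.minimalPeriod_eq_card (a := z) (b := q)).symm]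
    obtain ⟨k, hk⟩ : ∃ k, k = Function.minimalPeriod (z • ·) q := ⟨_, rfl⟩
    simp only [← hk]
    have hqg : F q = Fx q.out := by rw [← hFmk, QuotientGroup.out_eq']
    rcases eq_or_ne k 1 with h1 | h1
    · subst h1
      simp only [pow_one]
      rw [hqg]
      have hmem := QuotientGroup.out_conj_pow_minimalPeriod_mem (P : Subgroup G) z q
      rw [← hk, pow_one] at hmem
      simp only [Fx, dif_pos hmem]
    · have hkd : k ∣ p ^ (b + 1) := hb ▸ hk ▸ Function.IsPeriodicPt.minimalPeriod_dvd (by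
        show (z • ·)^[orderOf z] q = q
        rw [smul_iterate, pow_orderOf_eq_one]
        exact one_smul _ q)
      obtain ⟨i, -, hi⟩ := (Nat.dvd_prime_pow Fact.out).1 hkd
      rcases i with - | i
      · exact absurd (by rw [hi, pow_zero]) h1
      have hr : ∀ x : Multiplicative (ZMod p), x ^ k = 1 := fun x => by
        refine Multiplicative.toAdd.injective ?_
        rw [toAdd_pow, nsmul_eq_mul, (ZMod.natCast_eq_zero_iff k p).2 (hi ▸ dvd_pow_self p i.succ_ne_zero),
          zero_mul, toAdd_one]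
      rw [hr]
      by_contra hne
      have h2 := K.small _ (p ^ b) (Subtype.ext ?_) hne
      · rw [← Subgroup.orderOf_coe] at h2
        change orderOf z ∣ p ^ b at h2
        rw [hb, Nat.pow_dvd_pow_iff_le_right (Fact.out : p.Prime).one_lt] at h2
        omega
      · show (q.out⁻¹ * z ^ k * q.out) ^ p ^ b = 1
        have h3 : (q.out⁻¹ * z ^ k * q.out) ^ p ^ b = q.out⁻¹ * (z ^ k) ^ p ^ b * q.out := by
          have h4 := conj_pow (a := q.out⁻¹) (b := z ^ k) (i := p ^ b)
          rwa [inv_inv] at h4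
        rw [h3, ← pow_mul, orderOf_dvd_iff_pow_eq_one.1 (?_ : orderOf z ∣ k * p ^ b), mul_one,
          inv_mul_cancel]
        rw [hb, hi, ← pow_add]
        exact pow_dvd_pow p (by omega)
  rw [htr, htot, hc0, ← ofAdd_nsmul, nsmul_eq_mul, mul_one, Ne, ofAdd_eq_one,
    ZMod.natCast_eq_zero_iff, ← Nat.card_eq_fintype_card]
  exact P.not_dvd_index

end CfsgLib.Walter.Field.SylowKey
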