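import Cfsg.Agent.Lib.Recog.Walter.Field.Setting
import Cfsg.Agent.Lib.GW.KFactsProof.Auto

/-!
Owner: helper21. Walter, field part: the group of field automorphisms inside `E`.

* `Galois h Φ S₀`: a cyclic complement `Φ` of `L` in `E`, of order `n`, fixing a four-group `S₀` of `L`, in which
  every element `f` centralizes a subgroup `PSL(2, q₀)` of `L`, `q = q₀ ^ orderOf f`;
* `Setting.exists_galois`.
-/

set_option autoImplicit false
set_option linter.style.haveILetI false
set_option linter.unusedSectionVars false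

namespace CfsgLib.Walter.Field

open Subgroup Matrix
open CfsgLib.Known.AutPSL
open CfsgLib.GW.KFactsProof (fld fld_semilin fld_conj Four)

universe u

/-- A complement of field automorphisms. -/
structure Galois {G : Type u} [Group G] {t : G} {E L : Subgroup G} {F : Type} [Field F] [Fintype F]
    (h : Setting t E L F) (Φ : Subgroup G) (s₁ s₂ : G) : Prop where
  le : Φ ≤ E
  cyclic : IsCyclic ↥Φ
  card : Nat.card Φ = h.n
  inf : Φ ⊓ L = ⊥
  cover : ∀ e ∈ E, ∃ l ∈ L, ∃ f ∈ Φ, e = l * f
  mem₁ : s₁ ∈ L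
  mem₂ : s₂ ∈ L
  four : Four s₁ s₂
  fix : ∀ f ∈ Φ, f * s₁ = s₁ * f ∧ f * s₂ = s₂ * f
  fixed : ∀ f ∈ Φ, ∃ (F₀ : Type) (_ : Field F₀) (_ : Fintype F₀),
    Fintype.card F = Fintype.card F₀ ^ orderOf f ∧
      Nonempty (↥(L ⊓ centralizer ({f} : Set G)) ≃* ProjectiveSpecialLinearGroup (Fin 2) F₀)

section PSL

variable {F : Type*} [Field F]

/-- The inclusion `PSL(2, K) → PSL(2, F)` of a subfield. -/
noncomputable def pslIncl (K : Subfield F) : PSL 2 K →* PSL 2 F :=
  QuotientGroup.lift _ ((proj 2 F).comp (SpecialLinearGroup.map K.subtype)) fun x hx => by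
    rw [MonoidHom.mem_ker, MonoidHom.comp_apply, eq_comm, ← map_one (proj 2 F), proj_eq_iff]
    obtain ⟨c, hc, hx'⟩ : ∃ c : K, c ≠ 0 ∧ (x : Matrix (Fin 2) (Fin 2) K) = c • (1 : Matrix (Fin 2) (Fin 2) K) := by
      have h1 : proj 2 K 1 = proj 2 K x := by
        rw [map_one]; exact ((QuotientGroup.eq_one_iff x).2 hx).symm
      obtain ⟨c, hc, hx'⟩ := (proj_eq_iff _ _).1 h1
      exact ⟨c, hc, hx'⟩
    refine ⟨(c : F), fun e => hc (Subtype.ext e), ?_⟩
    ext i j
    have h2 := congrArg (K.subtype) (congrFun (congrFun hx' i) j)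
    simpa [Matrix.one_apply, apply_ite K.subtype] using h2

theorem pslIncl_proj (K : Subfield F) (s : SL 2 K) :
    pslIncl K (proj 2 K s) = proj 2 F (SpecialLinearGroup.map K.subtype s) := rfl

theorem pslIncl_injective (K : Subfield F) : Function.Injective (pslIncl K) := by
  refine (injective_iff_map_eq_one _).2 fun x hx => ?_
  obtain ⟨s, rfl⟩ := proj_surjective x
  rw [pslIncl_proj, eq_comm, ← map_one (proj 2 F), proj_eq_iff] at hx
  obtain ⟨c, -, hc⟩ := hx
  have h00 : (c : F) = ((s : Matrix (Fin 2) (Fin 2) K) 0 0 : F) := by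
    have := congrFun (congrFun hc 0) 0
    simpa [eq_comm] using this
  rw [eq_comm, ← map_one (proj 2 K), proj_eq_iff]
  refine ⟨(s : Matrix (Fin 2) (Fin 2) K) 0 0, fun e => ?_, ?_⟩
  · have h1 := (SpecialLinearGroup.map K.subtype s).2
    rw [hc, h00, e, K.coe_zero, zero_smul, Matrix.det_zero] at h1
    exact zero_ne_one h1
  · ext i j
    refine Eq.trans (congrFun (congrFun hc i) j) ?_
    fin_cases i <;> fin_cases j <;> simp [h00]

/-- The fixed points of a field automorphism of odd order. -/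
theorem mem_range_of_fixed (σ : F ≃+* F) {r : ℕ} (hr : Odd r) (hσ : σ ^ r = 1) (h2 : (2 : F) ≠ 0)
    {x : PSL 2 F} (hx : fieldHom 2 F σ x = x) :
    x ∈ (pslIncl (σ.toRingHom.eqLocusField (RingHom.id F))).range := by
  obtain ⟨s, rfl⟩ := proj_surjective x
  rw [fieldHom_apply, semilin_proj, proj_eq_iff] at hx
  obtain ⟨c, -, hc⟩ := hx
  have hmap : (slConjHom 1 σ s : Matrix (Fin 2) (Fin 2) F) = (s : Matrix (Fin 2) (Fin 2) F).map σ := by
    simp
  rw [hmap] at hc
  set X : Matrix (Fin 2) (Fin 2) F := (s : Matrix (Fin 2) (Fin 2) F) with hX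
  have hdet : X.det = 1 := s.2
  have hc2 : c * c = 1 := by
    have h1 := congrArg Matrix.det hc
    rw [Matrix.det_smul, ← RingEquiv.mapMatrix_apply, ← RingEquiv.map_det, hdet, map_one, mul_one,
      Fintype.card_fin] at h1
    rw [← pow_two]; exact h1.symm
  have hfix : ∀ i j, σ (X i j) = X i j := by
    rcases mul_self_eq_one_iff.1 hc2 with rfl | rfl
    · intro i j
      have := congrFun (congrFun hc i) j
      simpa [eq_comm] using this
    · exfalso
      have hneg : ∀ i j, σ (X i j) = -X i j := fun i j => by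
        have := congrFun (congrFun hc i) j
        simp at this
        linear_combination this
      have h0 : ∀ i j, X i j = 0 := fun i j => by
        have hit : ∀ n : ℕ, (σ ^ n) (X i j) = (-1) ^ n * X i j := by
          intro n
          induction n with
          | zero => simp
          | succ m ih =>
            rw [pow_succ', RingAut.mul_apply, ih, map_mul, map_pow, map_neg, map_one, hneg, pow_succ']
            ring
        have h1 := hit r
        rw [hσ, hr.neg_one_pow, RingAut.one_apply] at h1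
        refine (mul_eq_zero.1 (?_ : (2 : F) * X i j = 0)).resolve_left h2
        linear_combination h1
      rw [Matrix.det_fin_two, h0, h0, h0, h0] at hdet
      simp at hdet
  set K := σ.toRingHom.eqLocusField (RingHom.id F) with hK
  let s₀ : SL 2 K := ⟨Matrix.of fun i j => (⟨X i j, hfix i j⟩ : K), by
    refine K.subtype.injective ?_
    rw [RingHom.map_det, map_one]
    exact hdet⟩
  exact ⟨proj 2 K s₀, (pslIncl_proj K s₀).trans (congrArg _ (Subtype.ext rfl))⟩

theorem fixed_of_mem_range (σ : F ≃+* F) {x : PSL 2 F}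
    (hx : x ∈ (pslIncl (σ.toRingHom.eqLocusField (RingHom.id F))).range) : fieldHom 2 F σ x = x := by
  obtain ⟨y, rfl⟩ := hx
  obtain ⟨s, rfl⟩ := proj_surjective y
  rw [pslIncl_proj, fieldHom_apply, semilin_proj]
  congr 1
  refine Subtype.ext ?_
  rw [coe_slConjHom]
  ext i j
  simp only [Units.val_one, inv_one, one_mul, mul_one, Matrix.map_apply]
  simp
  exact (s.1 i j).2

end PSL

variable {G : Type u} [Group G] [Finite G] {t : G} {E L : Subgroup G} {F : Type} [Field F] [Fintype F]

theorem Setting.exists_galois (h : Setting t E L F) :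
    ∃ (Φ : Subgroup G) (s₁ s₂ : G), Galois h Φ s₁ s₂ := by
  classical
  obtain ⟨e⟩ := h.iso
  let cj : ↥E →* MulAut ↥L := L.normalizerMonoidHom.comp (Subgroup.inclusion h.normal)
  have hcj : ∀ (x : E) (l : L), ((cj x l : L) : G) = x * l * (x : G)⁻¹ := fun x l => rfl
  let α : ↥E →* MulAut (PSL 2 F) := (MulAut.congr e).toMonoidHom.comp cj
  have hα : ∀ (x : E) (l : L), α x (e l) = e (cj x l) := fun x l => by
    show e (cj x (e.symm (e l))) = _
    rw [e.symm_apply_apply]
  have hinj : Function.Injective α := (injective_iff_map_eq_one α).2 fun x hx => by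
    refine Subtype.ext (h.cen x x.2 fun y hy => ?_)
    have h1 : cj x ⟨y, hy⟩ = ⟨y, hy⟩ := e.injective (by rw [← hα, hx, MulAut.one_apply])
    exact mul_inv_eq_iff_eq_mul.1 ((hcj x ⟨y, hy⟩).symm.trans (congrArg Subtype.val h1))
  have hαL : ∀ l : L, α ⟨l, h.le l.2⟩ = MulAut.conj (e l) := fun l => MulEquiv.ext fun y => by
    obtain ⟨m, rfl⟩ := e.surjective y
    rw [hα, MulAut.conj_apply, ← map_inv, ← map_mul, ← map_mul]
    exact congrArg e (Subtype.ext rfl)
  let fl : ↥E →* (F ≃+* F) := fld.comp α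
  have hfl : ∀ x : E, fl x = fld (α x) := fun x => rfl
  have hflL : ∀ x : E, (x : G) ∈ L → fl x = 1 := fun x hx => by
    rw [hfl, show x = ⟨((⟨x, hx⟩ : L) : G), h.le hx⟩ from rfl, hαL, fld_conj]
  have hInn : ∀ β ∈ Cfsg.Inn (PSL 2 F), ∃ x : E, (x : G) ∈ L ∧ α x = β := by
    rintro β ⟨y, rfl⟩
    obtain ⟨l, rfl⟩ := e.surjective y
    exact ⟨⟨l, h.le l.2⟩, l.2, hαL l⟩
  haveI := h.normal_subgroupOf
  have hker : ∀ x : E, fl x = 1 → (x : G) ∈ L := fun x hx => by
    obtain ⟨i, m, hm, hxm⟩ := Nat.exists_eq_two_pow_mul_odd (orderOf_pos x).ne'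
    have hodd : (x : G) ^ 2 ^ i ∈ L := by
      obtain ⟨y, hy, hyx⟩ := hInn _ (CfsgLib.GW.KFactsProof.mem_inn_of_odd hm
        (α := α (x ^ 2 ^ i)) (by rw [← map_pow, ← pow_mul, ← hxm, pow_orderOf_eq_one, map_one])
        (by rw [← hfl, map_pow, hx, one_pow]))
      have h1 := congrArg Subtype.val (hinj hyx)
      rw [SubgroupClass.coe_pow] at h1
      exact h1 ▸ hy
    have htwo : (x : G) ^ m ∈ L := by
      refine h.mem_L_of_two (pow_mem x.2 m) ⟨i, ?_⟩
      rw [orderOf_pow, Subgroup.orderOf_coe, hxm, Nat.gcd_eq_right (dvd_mul_left m _),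
        Nat.mul_div_cancel _ hm.pos]
    have hg := Nat.gcd_eq_gcd_ab (2 ^ i) m
    rw [(Nat.coprime_two_left.2 hm).pow_left i |>.gcd_eq_one] at hg
    rw [← zpow_one (x : G), show (1 : ℤ) = _ from hg, _root_.zpow_add, _root_.zpow_mul, _root_.zpow_mul, zpow_natCast,
      zpow_natCast]
    exact mul_mem (zpow_mem hodd _) (zpow_mem htwo _)
  have hcard : Nat.card fl.range = h.n := by
    rw [← index_ker]
    show fl.ker.index = (L.subgroupOf E).index
    exact congrArg Subgroup.index (Subgroup.ext fun x => ⟨fun hx => hker x hx, fun hx => hflL x hx⟩)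
  have hrangeodd : ∀ σ ∈ fl.range, σ ^ h.n = 1 := fun σ hσ => by
    have h1 : (⟨σ, hσ⟩ : fl.range) ^ Nat.card fl.range = 1 := pow_card_eq_one'
    rw [hcard] at h1
    exact congrArg Subtype.val h1
  -- the field automorphisms lie in the range
  have hkey : ∀ x : E, ∃ f : E, α f = fieldHom 2 F (fl x) := fun x => by
    obtain ⟨g, σ, hg⟩ := CfsgLib.GW.KFactsProof.exists_semilin (α x)
    have hσ : fl x = σ := by rw [hfl, hg, fld_semilin]
    rw [hσ]
    have hsplit : α x = innDiag 2 F g * fieldHom 2 F σ := by rw [hg, semilin_split]; rfl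
    let π : MulAut (PSL 2 F) →* Cfsg.Out (PSL 2 F) := QuotientGroup.mk' _
    have hι : π (innDiag 2 F g) = π (α x) * (π (fieldHom 2 F σ))⁻¹ := by
      rw [← map_inv, ← map_mul, hsplit, mul_inv_cancel_right]
    have hc : Commute (π (α x)) (π (fieldHom 2 F σ))⁻¹ := by
      refine Commute.inv_right ?_
      show _ = _
      rw [← mul_inv_eq_one, _root_.mul_inv_rev, ← mul_assoc, ← map_inv π, ← map_inv π, ← map_mul π,
        ← map_mul π, ← map_mul π]
      exact (QuotientGroup.eq_one_iff _).2 (CfsgLib.GW.KFactsProof.commutator_mem_inn _ _)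
    have hn : π (innDiag 2 F g) ^ h.n = 1 := by
      rw [hι, hc.mul_pow, inv_pow, ← map_pow, ← map_pow, ← map_pow, ← map_pow,
        hrangeodd σ ⟨x, hσ⟩, map_one, map_one, inv_one, mul_one]
      obtain ⟨y, hy⟩ : ∃ y : E, (y : G) ∈ L ∧ y = x ^ h.n :=
        ⟨x ^ h.n, (L.subgroupOf E).pow_index_mem x, rfl⟩
      refine (QuotientGroup.eq_one_iff _).2 ?_
      rw [← hy.2, show y = ⟨((⟨y, hy.1⟩ : L) : G), h.le hy.1⟩ from rfl, hαL]
      exact ⟨_, rfl⟩
    have h2 : π (innDiag 2 F g) ^ 2 = 1 := by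
      rw [← map_pow, ← map_pow]
      refine (QuotientGroup.eq_one_iff _).2 ?_
      rw [innDiag_apply, ← mkAut_false, mem_inn_iff le_rfl _ _ _ (fun _ => rfl)]
      exact ⟨rfl, rfl, GeneralLinearGroup.det g, by rw [map_pow]⟩
    have h1 : π (innDiag 2 F g) = 1 := orderOf_eq_one_iff.1 (Nat.eq_one_of_dvd_coprimes
      (Nat.coprime_two_left.2 h.odd_n) (orderOf_dvd_of_pow_eq_one h2) (orderOf_dvd_of_pow_eq_one hn))
    obtain ⟨y, -, hy⟩ := hInn _ ((QuotientGroup.eq_one_iff _).1 h1)
    exact ⟨y⁻¹ * x, by rw [map_mul, map_inv, hy, hsplit, inv_mul_cancel_left]⟩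
  set P : Subgroup ↥E := ((fieldHom 2 F).range).comap α with hP
  have hPfix : ∀ f : E, f ∈ P → α f = fieldHom 2 F (fl f) := fun f hf => by
    obtain ⟨σ, hσ⟩ := hf
    rw [← hσ, hfl, ← hσ, fieldHom_apply, fld_semilin, fieldHom_apply]
  have hflP : Function.Injective (fl.comp P.subtype) := fun a b hab => by
    refine Subtype.ext (hinj ?_)
    rw [hPfix _ a.2, hPfix _ b.2]
    exact congrArg _ hab
  have hcover : ∀ x : E, ∃ f ∈ P, fl f = fl x := fun x => by
    obtain ⟨f, hf⟩ := hkey x
    exact ⟨f, ⟨fl x, hf.symm⟩, by rw [hfl f, hf, fieldHom_apply, fld_semilin]⟩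
  obtain ⟨v, w, hvw, hfix⟩ := CfsgLib.GW.KFactsProof.exists_four_fixed h.two_ne
  let Φ : Subgroup G := P.map E.subtype
  refine ⟨Φ, ((e.symm v : L) : G), ((e.symm w : L) : G),
    { le := map_subtype_le _
      cyclic := ?_
      card := ?_
      inf := ?_
      cover := ?_
      mem₁ := (e.symm v).2
      mem₂ := (e.symm w).2
      four := (hvw.map e.symm.toMonoidHom e.symm.injective).map L.subtype L.subtype_injective
      fix := ?_
      fixed := ?_ }⟩
  · haveI : IsCyclic (F ≃+* F) := CfsgLib.GW.KFactsProof.isCyclic_ringAut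
    haveI : IsCyclic ↥P := isCyclic_of_injective _ hflP
    exact isCyclic_of_surjective (P.equivMapOfInjective E.subtype E.subtype_injective).toMonoidHom
      (P.equivMapOfInjective E.subtype E.subtype_injective).surjective
  · rw [card_map_of_injective E.subtype_injective, ← hcard, Nat.card_congr (MonoidHom.ofInjective hflP).toEquiv]
    refine congrArg (fun S : Subgroup (F ≃+* F) => Nat.card S) (Subgroup.ext fun σ => ⟨?_, ?_⟩)
    · rintro ⟨f, rfl⟩; exact ⟨_, rfl⟩
    · rintro ⟨x, rfl⟩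
      obtain ⟨f, hf, hfx⟩ := hcover x
      exact ⟨⟨f, hf⟩, hfx⟩
  · refine eq_bot_iff.2 fun y hy => ?_
    obtain ⟨f, hf, rfl⟩ := hy.1
    refine mem_bot.2 ?_
    have h1 : (⟨f, hf⟩ : P) = 1 := hflP (by simpa using hflL f hy.2)
    rw [show f = 1 from congrArg Subtype.val h1]; rfl
  · intro x hx
    obtain ⟨f, hf, hfx⟩ := hcover ⟨x, hx⟩
    refine ⟨x * (f : G)⁻¹, ?_, f, ⟨f, hf, rfl⟩, (inv_mul_cancel_right _ _).symm⟩
    exact hker (⟨x, hx⟩ * f⁻¹) (by rw [map_mul, map_inv, hfx, mul_inv_cancel])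
  · rintro _ ⟨f, hf, rfl⟩
    have key : ∀ y, fieldHom 2 F (fl f) y = y →
        (f : G) * ((e.symm y : L) : G) = ((e.symm y : L) : G) * f := fun y hy => by
      have h1 : cj f (e.symm y) = e.symm y := e.injective (by rw [← hα, hPfix f hf, e.apply_symm_apply, hy])
      exact mul_inv_eq_iff_eq_mul.1 ((hcj f _).symm.trans (congrArg Subtype.val h1))
    exact ⟨key v (hfix _).1, key w (hfix _).2⟩
  · rintro _ ⟨f, hf, rfl⟩
    set σ := fl f with hσ
    set K := σ.toRingHom.eqLocusField (RingHom.id F) with hK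
    haveI : Fintype K := Fintype.ofFinite K
    have hord : orderOf σ = orderOf (f : G) := by
      have h1 := orderOf_injective _ hflP ⟨f, hf⟩
      rw [Subgroup.orderOf_mk] at h1
      rw [Subgroup.orderOf_coe]
      exact h1
    obtain ⟨p, k, hp, -, -, -, hq⟩ := h.field
    haveI : Fact p.Prime := ⟨hp⟩
    have hk1 : 1 ≤ k := by
      refine Nat.one_le_iff_ne_zero.2 fun h0 => ?_
      have := h.five
      rw [hq, h0, pow_zero] at this
      omega
    refine ⟨K, inferInstance, inferInstance, ?_, ⟨?_⟩⟩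
    · obtain ⟨hdvd, hKc⟩ := exists_fixed_field hq hk1 σ rfl
      rw [← Nat.card_eq_fintype_card (α := K), hKc, ← pow_mul]
      show Fintype.card F = p ^ (k / orderOf σ * orderOf (f : G))
      rw [← hord, Nat.div_mul_cancel hdvd, hq]
    · have hodd : Odd (h.n) := h.odd_n
      let ι : ↥(pslIncl K).range →* G := L.subtype.comp (e.symm.toMonoidHom.comp (pslIncl K).range.subtype)
      have hιinj : Function.Injective ι :=
        L.subtype_injective.comp (e.symm.injective.comp (pslIncl K).range.subtype_injective)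
      have himg : L ⊓ centralizer ({(f : G)} : Set G) = ι.range := by
        ext y
        constructor
        · rintro ⟨hyL, hyc⟩
          have h1 : cj f ⟨y, hyL⟩ = ⟨y, hyL⟩ := Subtype.ext (by
            rw [hcj]; show (f : G) * y * (f : G)⁻¹ = y
            rw [mul_inv_eq_iff_eq_mul]
            exact (mem_centralizer_singleton_iff.1 hyc).symm)
          refine ⟨⟨e ⟨y, hyL⟩, mem_range_of_fixed σ hodd (hrangeodd σ ⟨f, rfl⟩) h.two_ne ?_⟩, ?_⟩
          · rw [← hPfix f hf, hα, h1]
          · show ((e.symm (e ⟨y, hyL⟩) : L) : G) = y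
            rw [e.symm_apply_apply]
        · rintro ⟨⟨x, hx⟩, rfl⟩
          refine ⟨(e.symm x).2, mem_centralizer_singleton_iff.2 ?_⟩
          have h1 : cj f (e.symm x) = e.symm x :=
            e.injective (by rw [← hα, hPfix f hf, e.apply_symm_apply, fixed_of_mem_range σ hx])
          exact (mul_inv_eq_iff_eq_mul.1 ((hcj f _).symm.trans (congrArg Subtype.val h1))).symm
      exact ((MulEquiv.subgroupCongr himg).trans (MonoidHom.ofInjective hιinj).symm).trans
        (MonoidHom.ofInjective (pslIncl_injective K)).symm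

end CfsgLib.Walter.Field
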