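import Cfsg.Agent.Lib.Recog.Walter.Field.MainDef
import Cfsg.Agent.Lib.Recog.Walter.Field.Galois

/-!
Owner: helper12. Walter, field part: `PrimeStep` from the cases by the fixed field
(notes/walter_field_helper12.md SPLIT).

* `Top h p f F₀`: `f` generates the `p`-part of the Galois complement and `F₀` is its fixed field;
* `StepFive`, `StepThree`, `StepChar`, `StepBig`: the four cases;
* `primeStep_of_cases`.
-/

set_option autoImplicit false
set_option linter.style.haveILetI false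

namespace CfsgLib.Walter.Field

open Subgroup

universe u

/-- `f` generates the `p`-part of a Galois complement `Φ`, and `F₀` is its fixed field. -/
structure Top {G : Type u} [Group G] {t : G} {E L : Subgroup G} {F : Type} [Field F] [Fintype F]
    (h : Setting t E L F) (Φ : Subgroup G) (s₁ s₂ : G) (p b : ℕ) (f : G) (F₀ : Type) [Field F₀] [Fintype F₀] :
    Prop where
  galois : Galois h Φ s₁ s₂
  prime : p.Prime
  pos : 0 < b
  mem : f ∈ Φ
  order : orderOf f = p ^ b
  part : ∃ m : ℕ, h.n = p ^ b * m ∧ ¬ p ∣ m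
  card : Fintype.card F = Fintype.card F₀ ^ p ^ b
  iso : Nonempty (↥(L ⊓ centralizer ({f} : Set G)) ≃* Matrix.ProjectiveSpecialLinearGroup (Fin 2) F₀)

/-- A case of the step, cut out by a condition on the prime and on the size of the fixed field. -/
def StepCase (cond : ℕ → ℕ → Prop) : Prop :=
  ∀ (G : Type u) [Group G] [Finite G] (t : G) (E L : Subgroup G) (F : Type) [Field F] [Fintype F]
    (h : Setting t E L F) (Φ : Subgroup G) (s₁ s₂ : G) (p b : ℕ) (f : G) (F₀ : Type) [Field F₀] [Fintype F₀],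
    Top h Φ s₁ s₂ p b f F₀ → cond p (Fintype.card F₀) → Below G → False

/-- Fixed field of five elements. -/
def StepFive : Prop := StepCase.{u} fun _ q₀ => q₀ = 5

/-- Fixed field of three elements. -/
def StepThree : Prop := StepCase.{u} fun p q₀ => p ≠ 3 ∧ q₀ = 3

/-- Larger fixed fields have characteristic three. -/
def StepChar : Prop :=
  ∀ (G : Type u) [Group G] [Finite G] (t : G) (E L : Subgroup G) (F : Type) [Field F] [Fintype F]
    (h : Setting t E L F) (Φ : Subgroup G) (s₁ s₂ : G) (p b : ℕ) (f : G) (F₀ : Type) [Field F₀] [Fintype F₀],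
    Top h Φ s₁ s₂ p b f F₀ → 11 ≤ Fintype.card F₀ → Below G → CharP F 3

/-- Larger fixed field, prime at least five. -/
def StepBig : Prop := StepCase.{u} fun p q₀ => 5 ≤ p ∧ 11 ≤ q₀

/-- Powers with odd exponent of an odd number keep their residue modulo eight. -/
theorem mod_eight_of_odd_pow {a e : ℕ} (he : Odd e) (ha : a % 2 = 1) : a ^ e % 8 = a % 8 := by
  obtain ⟨j, rfl⟩ := he
  have h2 : a * a % 8 = 1 := by
    rw [Nat.mul_mod]
    have : a % 8 = 1 ∨ a % 8 = 3 ∨ a % 8 = 5 ∨ a % 8 = 7 := by omega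
    rcases this with h | h | h | h <;> rw [h]
  rw [pow_succ, pow_mul, pow_two, Nat.mul_mod, Nat.pow_mod, h2]
  simp

/-- **`PrimeStep` from the cases.** -/
theorem primeStep_of_cases (h5 : StepFive.{u}) (h3 : StepThree.{u}) (hc : StepChar.{u}) (hb : StepBig.{u}) :
    PrimeStep.{u} := by
  intro G _ _ t E L F _ _ h p hp hpn hchar hbelow
  classical
  haveI := Fact.mk hp
  obtain ⟨Φ, s₁, s₂, g⟩ := h.exists_galois
  obtain ⟨P⟩ : Nonempty (Sylow p ↥Φ) := inferInstance
  haveI := g.cyclic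
  haveI : IsCyclic ↥(P : Subgroup ↥Φ) := inferInstance
  obtain ⟨f, hf⟩ := IsCyclic.exists_generator (α := ↥(P : Subgroup ↥Φ))
  set b := (Nat.card Φ).factorization p with hb'
  have hord : orderOf ((f : ↥Φ) : G) = p ^ b := by
    rw [Subgroup.orderOf_coe, Subgroup.orderOf_coe, orderOf_eq_card_of_forall_mem_zpowers hf, P.card_eq_multiplicity]
  have hb0 : 0 < b := hp.factorization_pos_of_dvd Nat.card_pos.ne' (g.card ▸ hpn)
  obtain ⟨F₀, i₀, i₁, hcard, hiso⟩ := g.fixed _ (f : ↥Φ).2
  rw [hord] at hcard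
  have htop : Top h Φ s₁ s₂ p b ((f : ↥Φ) : G) F₀ := by
    refine ⟨g, hp, hb0, (f : ↥Φ).2, hord, ⟨Nat.card Φ / p ^ b, ?_, ?_⟩, hcard, hiso⟩
    · rw [← g.card, Nat.mul_div_cancel' (Nat.ordProj_dvd _ _)]
    · exact Nat.not_dvd_ordCompl hp Nat.card_pos.ne'
  -- the size of the fixed field
  have hq2 : Fintype.card F₀ % 2 = 1 := by
    by_contra hne
    have he : Even (Fintype.card F) := hcard ▸ (Nat.even_iff.2 (by omega)).pow_of_ne_zero (pow_ne_zero _ hp.ne_zero)
    exact (Nat.not_even_iff_odd.2 h.odd_card) he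
  have hpodd : Odd (p ^ b) := h.odd_n.of_dvd_nat (g.card ▸ Nat.ordProj_dvd (Nat.card Φ) p)
  have hq8 : Fintype.card F₀ % 8 = 3 ∨ Fintype.card F₀ % 8 = 5 := by
    have h8 := h.mod8
    rwa [hcard, mod_eight_of_odd_pow hpodd hq2] at h8
  rcases (by omega : Fintype.card F₀ = 3 ∨ Fintype.card F₀ = 5 ∨ 11 ≤ Fintype.card F₀) with hq | hq | hq
  · refine h3 G t E L F h Φ s₁ s₂ p b _ F₀ htop ⟨fun hp3 => hchar hp3 ?_, hq⟩ hbelow
    haveI : Fact (Nat.Prime 3) := ⟨Nat.prime_three⟩
    exact charP_of_card_eq_prime_pow (f := p ^ b) (by rw [hcard, hq])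
  · exact h5 G t E L F h Φ s₁ s₂ p b _ F₀ htop hq hbelow
  · have hF3 := hc G t E L F h Φ s₁ s₂ p b _ F₀ htop hq hbelow
    refine hb G t E L F h Φ s₁ s₂ p b _ F₀ htop ⟨?_, hq⟩ hbelow
    have h2 : p ≠ 2 := fun h2 => by
      rw [h2, Nat.odd_pow_iff hb0.ne'] at hpodd
      exact absurd hpodd (by decide)
    have := hp.two_le
    by_contra hlt
    exact hchar (by interval_cases p <;> first | rfl | omega | exact absurd hp (by decide)) hF3

end CfsgLib.Walter.Field
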