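import Cfsg.Agent.Lib.Recog.Walter.Field.CoreLemmas
import Cfsg.Agent.Lib.Core.Cores
import Cfsg.Agent.Lib.PGroups.Basic

/-!
Owner: helper12. Walter, field part (A): `s ≠ 3`, and `a` is central in every `τ`-invariant `s`-subgroup of `K`
that contains it.
-/

set_option autoImplicit false
set_option linter.unusedSectionVars false

namespace CfsgLib.Walter.Field

universe u v

open Subgroup

/-- A subgroup generated by commuting elements is abelian. -/
theorem comm_closure {H : Type u} [Group H] {S : Set H} (hS : ∀ x ∈ S, ∀ y ∈ S, x * y = y * x) :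
    ∀ x ∈ closure S, ∀ y ∈ closure S, x * y = y * x := by
  have h1 : closure S ≤ centralizer S :=
    (closure_le _).2 fun x hx => mem_centralizer_iff.2 fun y hy => hS y hy x hx
  have h2 : closure S ≤ centralizer (closure S : Set H) :=
    (closure_le _).2 fun y hy => mem_centralizer_iff.2 fun x hx => (mem_centralizer_iff.1 (h1 hx) y hy).symm
  exact fun x hx y hy => mem_centralizer_iff.1 (h2 hy) x hx

namespace Core

variable {H : Type u} {V : Type v} [Group H] [AddCommGroup V] [Module (ZMod 3) V] (c : Core H V)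
  [Finite H] [Finite V]

/-- The prime is not `3`. -/
theorem s_ne_three : c.s ≠ 3 := by
  classical
  intro h
  haveI : Fact c.s.Prime := ⟨c.prime_s⟩
  haveI : Finite c.Fx := Subtype.finite
  haveI : Fintype c.Fx := Fintype.ofFinite _
  let σ : Function.End c.Fx := fun v => ⟨c.ρ c.a v.1, c.fixed_rho c.a_τ v.2⟩
  have hit : ∀ (i : ℕ) (v : c.Fx), ((σ ^ i) v).1 = c.ρ (c.a ^ i) v.1 := by
    intro i
    induction i with
    | zero => intro v; rw [pow_zero, pow_zero, map_one]; rfl
    | succ i ih =>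
      intro v
      rw [pow_succ', pow_succ', rho_mul, ← ih]
      rfl
  have hσ : σ ^ c.s ^ 1 = 1 := by
    funext v
    refine Subtype.ext ?_
    rw [pow_one, hit, c.a_pow_s, map_one]
    rfl
  have hmod := Equiv.Perm.card_fixedPoints_modEq (p := c.s) (n := 1) hσ
  let z0 : c.Fx := ⟨0, map_zero _⟩
  have hfix : Function.fixedPoints σ = {z0} := by
    ext v
    refine ⟨fun hv => Subtype.ext (c.a_free v.1 v.2 (congrArg Subtype.val hv)), ?_⟩
    rintro rfl
    exact Subtype.ext (map_zero _)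
  rw [← Nat.card_eq_fintype_card, ← Nat.card_eq_fintype_card, hfix,
    show Nat.card c.Fx = 3 ^ c.k from c.card_fixed, Nat.card_unique, h] at hmod
  rcases Nat.eq_zero_or_pos c.k with hk | hk
  swap
  · have h0 : 3 ^ c.k % 3 = 0 := Nat.dvd_iff_mod_eq_zero.1 (dvd_pow_self 3 hk.ne')
    rw [Nat.ModEq, h0] at hmod
    omega
  -- no fixed vectors: `τ` is central, so `⟨a⟩` is normal
  have hsub : ∀ v : c.Fx, v = z0 := fun v => by
    have h1 : Nat.card c.Fx = 1 := by rw [show Nat.card c.Fx = 3 ^ c.k from c.card_fixed, hk, pow_zero]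
    haveI := (Nat.card_eq_one_iff_unique.1 h1).1
    exact Subsingleton.elim _ _
  have hneg : ∀ v, c.ρ c.τ v = -v := fun v =>
    eq_neg_of_add_eq_zero_right (congrArg Subtype.val (hsub ⟨_, c.fixed_add v⟩))
  have hτ : ∀ g : H, g * c.τ = c.τ * g := fun g => c.faithful (LinearMap.ext fun v => by
    rw [rho_mul, rho_mul, hneg, hneg, map_neg])
  haveI := c.normal
  haveI hn : ((zpowers c.a).subgroupOf c.K).Normal := by
    refine ⟨fun x hx k => ?_⟩
    rw [mem_subgroupOf] at hx ⊢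
    obtain ⟨i, hi⟩ := mem_zpowers_iff.1 hx
    show (k : H) * x * (k : H)⁻¹ ∈ zpowers c.a
    rw [← hi, ← conj_zpow]
    exact zpow_mem (c.fixed_norm k k.2 (hτ k)) i
  have hp : IsPGroup 3 ((zpowers c.a).subgroupOf c.K) :=
    (IsPGroup.of_card (G := zpowers c.a) (n := 1) (by rw [Nat.card_zpowers, c.order_a, h, pow_one])).of_equiv
      (subgroupOfEquivOfLe (zpowers_le.2 c.a_mem)).symm
  haveI : ((Cfsg.pCore 3 c.K).map c.K.subtype).Normal := ConjAct.normal_of_characteristic_of_normal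
  have hbot := c.core_three _ (map_subtype_le _) inferInstance ((CfsgLib.Core.isPGroup_pCore 3 c.K).map _)
  have ha : c.a ∈ (Cfsg.pCore 3 c.K).map c.K.subtype :=
    ⟨⟨c.a, c.a_mem⟩, CfsgLib.Core.le_pCore hp (mem_subgroupOf.2 (mem_zpowers _)), rfl⟩
  rw [hbot, mem_bot] at ha
  exact c.a_ne_one ha

theorem five_le_s : 5 ≤ c.s := by
  have h2 := c.prime_s.two_le
  have h3 := c.s_ne_three
  obtain ⟨j, hj⟩ := c.s_odd
  omega

theorem coprime_s {i : ℕ} (hi : 0 < i) (hi5 : i < 5) : Nat.Coprime i c.s :=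
  ((c.prime_s.coprime_iff_not_dvd).2 fun h => by
    have := Nat.le_of_dvd hi h
    have := c.five_le_s
    omega).symm

/-- **The `s`-part.** -/
theorem comm_sgroup {X : Subgroup H} (hXK : X ≤ c.K) (hX : IsPGroup c.s X) (ha : c.a ∈ X)
    (hτX : ∀ x ∈ X, c.τ * x * c.τ ∈ X) {y : H} (hy : y ∈ X) : c.a * y = y * c.a := by
  classical
  haveI : Fact c.s.Prime := ⟨c.prime_s⟩
  have hpow : ∀ {g : H}, g ∈ X → ∃ m, g ^ c.s ^ m = 1 := fun hg => by
    obtain ⟨m, hm⟩ := hX ⟨_, hg⟩
    exact ⟨m, congrArg Subtype.val hm⟩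
  have h3 : ∀ g ∈ X, ¬ 3 ∣ orderOf g := fun g hg h => by
    obtain ⟨m, hm⟩ := hpow hg
    exact c.s_ne_three ((Nat.prime_dvd_prime_iff_eq Nat.prime_three c.prime_s).1
      (Nat.prime_three.dvd_of_dvd_pow (h.trans (orderOf_dvd_of_pow_eq_one hm)))).symm
  -- a maximal abelian normal `τ`-invariant subgroup
  let Ok : Subgroup H → Prop := fun A => A ≤ X ∧ (∀ g ∈ A, ∀ h ∈ A, g * h = h * g) ∧
    (∀ x ∈ X, ∀ g ∈ A, x * g * x⁻¹ ∈ A) ∧ ∀ g ∈ A, c.τ * g * c.τ ∈ A
  haveI : Fintype (Subgroup H) := Fintype.ofFinite _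
  obtain ⟨A, hAok, hmax⟩ := Finset.exists_max_image (Finset.univ.filter Ok) (fun A => Nat.card A)
    ⟨⊥, Finset.mem_filter.2 ⟨Finset.mem_univ _, bot_le,
      fun g hg h hh => by rw [mem_bot.1 hg, mem_bot.1 hh],
      fun x _ g hg => by rw [mem_bot.1 hg, mul_one, mul_inv_cancel]; exact one_mem _,
      fun g hg => by rw [mem_bot.1 hg, mul_one, c.τ_sq]; exact one_mem _⟩⟩
  obtain ⟨hAX, hAc, hAn, hAτ⟩ := (Finset.mem_filter.1 hAok).2
  have hAK : A ≤ c.K := hAX.trans hXK
  have hgood : Good A := ⟨hAc, fun g hg => h3 g (hAX hg)⟩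
  have haA' : ∀ g ∈ A, c.a * g = g * c.a := fun g hg =>
    c.comm_of_abelian hAK hgood (fun x hx => hAn _ ha x hx) hAτ hg
  have hττ : ∀ g : H, c.τ * (c.τ * g * c.τ) * c.τ = g := fun g => by
    calc c.τ * (c.τ * g * c.τ) * c.τ = (c.τ * c.τ) * g * (c.τ * c.τ) := by group
      _ = g := by rw [c.τ_sq, one_mul, mul_one]
  have hτmul : ∀ g k : H, c.τ * (g * k) * c.τ = (c.τ * g * c.τ) * (c.τ * k * c.τ) := fun g k => by
    calc c.τ * (g * k) * c.τ = c.τ * g * 1 * k * c.τ := by group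
      _ = c.τ * g * (c.τ * c.τ) * k * c.τ := by rw [c.τ_sq]
      _ = _ := by group
  have haA : c.a ∈ A := by
    by_contra hna
    let N : Subgroup X := A.subgroupOf X
    haveI : N.Normal := ⟨fun g hg x => mem_subgroupOf.2 (hAn x x.2 g (mem_subgroupOf.1 hg))⟩
    let C : Subgroup X := (centralizer (A : Set H)).subgroupOf X
    haveI : C.Normal := ⟨fun g hg x => mem_subgroupOf.2 (mem_centralizer_iff.2 fun k hk => by
      have hk' : (x : H)⁻¹ * k * x ∈ A := by
        have := hAn _ (inv_mem x.2) k hk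
        rwa [inv_inv] at this
      have h := mem_centralizer_iff.1 (mem_subgroupOf.1 hg) _ hk'
      show k * ((x : H) * g * (x : H)⁻¹) = (x : H) * g * (x : H)⁻¹ * k
      calc k * ((x : H) * g * (x : H)⁻¹) = x * ((x : H)⁻¹ * k * x * g) * (x : H)⁻¹ := by group
        _ = x * (g * ((x : H)⁻¹ * k * x)) * (x : H)⁻¹ := by rw [h]
        _ = _ := by group)⟩
    haveI : (C.map (QuotientGroup.mk' N)).Normal :=
      Subgroup.Normal.map inferInstance _ (QuotientGroup.mk'_surjective N)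
    have hne : C.map (QuotientGroup.mk' N) ≠ ⊥ := fun h => by
      have hm : QuotientGroup.mk' N ⟨c.a, ha⟩ ∈ C.map (QuotientGroup.mk' N) :=
        mem_map_of_mem _ (mem_subgroupOf.2 (mem_centralizer_iff.2 fun k hk => (haA' k hk).symm))
      rw [h, mem_bot, QuotientGroup.mk'_apply, QuotientGroup.eq_one_iff, mem_subgroupOf] at hm
      exact hna hm
    obtain ⟨q, hq, hq1⟩ := (Subgroup.ne_bot_iff_exists_ne_one.1
      (CfsgLib.PGroups.inf_center_ne_bot (hX.to_quotient N) hne)) |> fun ⟨⟨q, hq⟩, hq1⟩ =>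
      (⟨q, hq, fun h => hq1 (Subtype.ext h)⟩ : ∃ q, q ∈ C.map (QuotientGroup.mk' N) ⊓ center _ ∧ q ≠ 1)
    obtain ⟨⟨y0, hy0, rfl⟩, hcen⟩ := mem_inf.1 hq
    have hyA : (y0 : H) ∉ A := fun h => hq1 ((QuotientGroup.eq_one_iff _).2 (mem_subgroupOf.2 h))
    have hyC : ∀ g ∈ A, g * y0 = y0 * g := fun g hg => mem_centralizer_iff.1 (mem_subgroupOf.1 hy0) g hg
    have hyX : ∀ x ∈ X, x * y0 * x⁻¹ * (y0 : H)⁻¹ ∈ A := fun x hx => by
      have h := mem_center_iff.1 hcen (QuotientGroup.mk' N ⟨x, hx⟩)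
      have h1 : QuotientGroup.mk' N (⟨x, hx⟩ * y0 * ⟨x, hx⟩⁻¹ * y0⁻¹) = 1 := by
        rw [map_mul, map_mul, map_mul, map_inv, map_inv, h, mul_inv_cancel_right, mul_inv_cancel]
      exact mem_subgroupOf.1 ((QuotientGroup.eq_one_iff _).1 h1)
    have hτyX : c.τ * y0 * c.τ ∈ X := hτX _ y0.2
    have hτyC : ∀ g ∈ A, g * (c.τ * y0 * c.τ) = c.τ * y0 * c.τ * g := fun g hg => by
      calc g * (c.τ * y0 * c.τ) = c.τ * (c.τ * g * c.τ * y0) * c.τ := by rw [hτmul, hττ]
        _ = c.τ * (y0 * (c.τ * g * c.τ)) * c.τ := by rw [hyC _ (hAτ g hg)]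
        _ = _ := by rw [hτmul, hττ]
    obtain ⟨u, huX, huC, huA, hun, huτ⟩ : ∃ u ∈ X, (∀ g ∈ A, g * u = u * g) ∧ u ∉ A ∧
        (∀ x ∈ X, x * u * x⁻¹ * u⁻¹ ∈ A) ∧ c.τ * u * c.τ ∈ closure ((A : Set H) ∪ {u}) := by
      by_cases hcase : (y0 : H) * (c.τ * y0 * c.τ) ∈ A
      · refine ⟨y0, y0.2, hyC, hyA, hyX, ?_⟩
        rw [show c.τ * y0 * c.τ = (y0 : H)⁻¹ * ((y0 : H) * (c.τ * y0 * c.τ)) by group]
        exact mul_mem (inv_mem (subset_closure (Or.inr rfl))) (subset_closure (Or.inl hcase))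
      · set y1 := c.τ * (y0 : H) * c.τ with hy1
        refine ⟨(y0 : H) * y1, mul_mem y0.2 hτyX, fun g hg => ?_, hcase, fun x hx => ?_, ?_⟩
        · exact ((show Commute g (y0 : H) from hyC g hg).mul_right (show Commute g y1 from hτyC g hg)).eq
        · have h1 : c.τ * ((c.τ * x * c.τ) * y0 * (c.τ * x * c.τ)⁻¹ * (y0 : H)⁻¹) * c.τ ∈ A :=
            hAτ _ (hyX _ (hτX x hx))
          have e1 : c.τ * ((c.τ * x * c.τ) * y0 * (c.τ * x * c.τ)⁻¹ * (y0 : H)⁻¹) * c.τ =
              x * y1 * x⁻¹ * y1⁻¹ := by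
            rw [hy1, mul_inv_rev, mul_inv_rev, mul_inv_rev, mul_inv_rev, c.τ_inv]
            calc _ = (c.τ * c.τ) * x * c.τ * y0 * c.τ * x⁻¹ * c.τ * (y0 : H)⁻¹ * c.τ := by group
              _ = _ := by rw [c.τ_sq]; group
          rw [e1] at h1
          have h2 := mul_mem (hyX x hx) (hAn _ y0.2 _ h1)
          rwa [show x * y0 * x⁻¹ * (y0 : H)⁻¹ * (y0 * (x * y1 * x⁻¹ * y1⁻¹) * (y0 : H)⁻¹) =
            x * (y0 * y1) * x⁻¹ * ((y0 : H) * y1)⁻¹ by group] at h2
        · rw [hτmul, hy1, hττ, ← hy1,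
            show y1 * y0 = y1 * y0 * y1⁻¹ * (y0 : H)⁻¹ * (y0 * y1) by group]
          exact mul_mem (subset_closure (Or.inl (hyX y1 hτyX))) (subset_closure (Or.inr rfl))
    let D : Subgroup H := closure ((A : Set H) ∪ {u})
    have hD : Ok D := by
      refine ⟨(closure_le _).2 (Set.union_subset hAX (Set.singleton_subset_iff.2 huX)),
        comm_closure ?_, fun x hx => map_closure_le' ?_, fun g hg => ?_⟩
      · rintro g (hg | rfl) k (hk | rfl)
        · exact hAc g hg k hk
        · exact huC g hg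
        · exact (huC k hk).symm
        · rfl
      · rintro g (hg | rfl)
        · exact subset_closure (Or.inl (hAn x hx g hg))
        · rw [show x * g * x⁻¹ = x * g * x⁻¹ * g⁻¹ * g by group]
          exact mul_mem (subset_closure (Or.inl (hun x hx))) (subset_closure (Or.inr rfl))
      · have h := map_closure_le' (g := c.τ) (R := D) (S := (A : Set H) ∪ {u}) ?_ g hg
        · rwa [c.τ_inv] at h
        rintro k (hk | rfl)
        · rw [c.τ_inv]; exact subset_closure (Or.inl (hAτ k hk))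
        · rw [c.τ_inv]; exact huτ
    have hle := hmax D (Finset.mem_filter.2 ⟨Finset.mem_univ _, hD⟩)
    have hsub : A ≤ D := fun g hg => subset_closure (Or.inl hg)
    exact huA ((Subgroup.eq_of_le_of_card_ge hsub hle).symm ▸ subset_closure (Or.inr rfl))
  -- inverted elements of `X` fix every atom
  have hinv : ∀ x ∈ X, c.τ * x * c.τ = x⁻¹ → c.a * x = x * c.a := by
    intro x hx hxτ
    have hnorm : ∀ g ∈ X, ∀ k ∈ A, g⁻¹ * k * g ∈ A := fun g hg k hk => by
      have := hAn _ (inv_mem hg) k hk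
      rwa [inv_inv] at this
    have hafix : ∀ e, IsPiece c.ρ A e → c.cj c.a e = e := fun e he => by
      show c.ρ c.a * e * c.ρ c.a⁻¹ = e
      rw [span_comm hAc (mem_span haA) he.mem, mul_assoc, ← map_mul, mul_inv_cancel, map_one, mul_one]
    have hfixe : ∀ e, IsPiece c.ρ A e → c.cj x e = e := by
      intro e he
      by_contra hxe
      have hstab : ∀ {i : ℕ}, Nat.Coprime i c.s → c.cj (x ^ i) e ≠ e := by
        intro i hi h
        obtain ⟨m, hm⟩ := hpow hx
        obtain ⟨l, hl⟩ := exists_pow_eq_self_of_coprime (x := x) (n := i)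
          (Nat.Coprime.coprime_dvd_right (orderOf_dvd_of_pow_eq_one hm) (hi.pow_right m))
        refine hxe ?_
        rw [← hl]
        clear hl
        induction l with
        | zero => rw [pow_zero, cj_one]
        | succ l ih => rw [pow_succ', ← cj_cj, ih, h]
      let f : Fin 5 → Module.End (ZMod 3) V := fun j => c.cj (x ^ (j : ℕ)) e
      have hf : ∀ j, IsPiece c.ρ A (f j) := fun j =>
        c.piece_cj (hAn _ (pow_mem hx _)) (hnorm _ (pow_mem hx _)) he
      have hinj : Function.Injective f := by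
        intro i j hij
        wlog hle : i ≤ j generalizing i j
        · exact (this hij.symm (le_of_not_ge hle)).symm
        rcases hle.lt_or_eq with hlt | heq
        swap
        · exact heq
        exfalso
        have hlt' : (i : ℕ) < j := hlt
        refine hstab (c.coprime_s (by omega : 0 < (j : ℕ) - i) (by omega)) ?_
        have h := congrArg (c.cj ((x ^ (i : ℕ))⁻¹)) hij
        simp only [f, cj_cj, inv_mul_cancel, cj_one] at h
        refine (congrArg (fun g => c.cj g e) ?_).trans h.symm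
        rw [eq_inv_mul_iff_mul_eq, ← pow_add]; congr 1; omega
      -- among five atoms at most one is fixed by `τ`
      have hτxj : ∀ n : ℕ, c.τ * x ^ n = (x ^ n)⁻¹ * c.τ := fun n => by
        have h : c.τ * x ^ n * c.τ⁻¹ = (x ^ n)⁻¹ := by
          rw [← conj_pow, c.τ_inv, hxτ, inv_pow]
        rw [← h, inv_mul_cancel_right]
      have hone : ∀ i j : Fin 5, c.cj c.τ (f i) = f i → c.cj c.τ (f j) = f j → i = j := by
        have key : ∀ j : Fin 5, c.cj c.τ (f j) = f j → c.cj c.τ e = c.cj (x ^ (2 * (j : ℕ))) e := by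
          intro j hj
          have h := congrArg (c.cj (x ^ (j : ℕ))) hj
          simp only [f, cj_cj] at h
          rw [hτxj, mul_inv_cancel_left, ← pow_add, ← two_mul] at h
          exact h
        intro i j hi hj
        wlog hle : i ≤ j generalizing i j
        · exact (this j i hj hi (le_of_not_ge hle)).symm
        rcases hle.lt_or_eq with hlt | heq
        swap
        · exact heq
        exfalso
        have hlt' : (i : ℕ) < j := hlt
        refine hstab (Nat.Coprime.mul_left (c.coprime_s (by norm_num : 0 < 2) (by norm_num))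
          (c.coprime_s (by omega : 0 < (j : ℕ) - i) (by omega))) ?_
        have h := congrArg (c.cj ((x ^ (2 * (i : ℕ)))⁻¹)) ((key i hi).symm.trans (key j hj))
        simp only [cj_cj, inv_mul_cancel, cj_one] at h
        refine (congrArg (fun g => c.cj g e) ?_).trans h.symm
        rw [eq_inv_mul_iff_mul_eq, ← pow_add]; congr 1; omega
      let S := Finset.univ.filter fun j => c.cj c.τ (f j) = f j
      have hS : S.card ≤ 1 := Finset.card_le_one.2 fun i hi j hj =>
        hone i j (Finset.mem_filter.1 hi).2 (Finset.mem_filter.1 hj).2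
      have hSc : 4 ≤ Sᶜ.card := by
        rw [Finset.card_compl, Fintype.card_fin]; omega
      obtain ⟨g, hg⟩ := Finset.card_pos.1 (by omega : 0 < Sᶜ.card)
      have hm : ∀ {j}, j ∈ Sᶜ → c.cj c.τ (f j) ≠ f j := fun hj h =>
        Finset.mem_compl.1 hj (Finset.mem_filter.2 ⟨Finset.mem_univ _, h⟩)
      have hsub : Sᶜ.image f ⊆ {f g, c.cj c.τ (f g)} := by
        intro w hw
        obtain ⟨j, hj, rfl⟩ := Finset.mem_image.1 hw
        rcases c.pair hgood hAτ (hf g) (hf j) (hafix _ (hf g)) (hafix _ (hf j)) (hm hg) (hm hj) with h | h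
        · rw [h]; exact Finset.mem_insert_self _ _
        · rw [h]; exact Finset.mem_insert_of_mem (Finset.mem_singleton_self _)
      have h2 := (Finset.card_le_card hsub).trans Finset.card_le_two
      rw [Finset.card_image_of_injective _ hinj] at h2
      omega
    have h : c.ρ (x * c.a * x⁻¹) = c.ρ c.a :=
      eq_of_forall_piece hgood (mem_span (hAn x hx _ haA)) (mem_span haA) fun e he =>
        he.commute_of_root hgood c.prime_s (hpow hx) (hAn x hx) (hfixe e he) haA c.a_pow_s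
    calc c.a * x = x * c.a * x⁻¹ * x := by rw [c.faithful h]
      _ = x * c.a := by group
  -- every element is an inverted one times a fixed one
  set z := y * (c.τ * y * c.τ)⁻¹ with hz
  have hzX : z ∈ X := mul_mem hy (inv_mem (hτX y hy))
  obtain ⟨m, hm⟩ := c.exists_sqrt (hXK hzX)
  have hτinv : ∀ g : H, (c.τ * g * c.τ)⁻¹ = c.τ * g⁻¹ * c.τ := fun g => by
    rw [mul_inv_rev, mul_inv_rev, c.τ_inv, mul_assoc]
  have hzτ : c.τ * z * c.τ = z⁻¹ := by rw [hz, hτmul, ← hτinv (c.τ * y * c.τ), hττ]; group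
  have hvτ : c.τ * z ^ m * c.τ = (z ^ m)⁻¹ := by
    have h : c.τ * z ^ m * c.τ⁻¹ = (z ^ m)⁻¹ := by rw [← conj_pow, c.τ_inv, hzτ, inv_pow]
    rwa [c.τ_inv] at h
  set w := (z ^ m)⁻¹ * y with hw
  have hwX : w ∈ X := mul_mem (inv_mem (pow_mem hzX m)) hy
  have hwfix : c.τ * w * c.τ = w := by
    have hzy : c.τ * y * c.τ = z⁻¹ * y := by rw [hz]; group
    rw [hw, hτmul, ← hτinv, hvτ, inv_inv, hzy]
    calc z ^ m * (z⁻¹ * y) = z ^ m * ((z ^ m * z ^ m)⁻¹ * y) := by rw [hm]
      _ = _ := by group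
  have hwτ : w * c.τ = c.τ * w := by
    calc w * c.τ = c.τ * w * c.τ * c.τ := by rw [hwfix]
      _ = c.τ * w := by rw [mul_assoc _ c.τ c.τ, c.τ_sq, mul_one]
  have h1 : Commute c.a (z ^ m) := hinv _ (pow_mem hzX m) hvτ
  have h2 : Commute c.a w := (c.comm_of_fixed_pow (hXK hwX) hwτ (hpow hwX)).symm
  rw [show y = z ^ m * w by rw [hw]; group]
  exact (h1.mul_right h2).eq
where
  map_closure_le' {S : Set H} {R : Subgroup H} {g : H} (h : ∀ x ∈ S, g * x * g⁻¹ ∈ R) :
      ∀ x ∈ closure S, g * x * g⁻¹ ∈ R := fun x hx =>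
    ((closure_le _).2 fun y hy => h y hy : closure S ≤ R.comap (MulAut.conj g).toMonoidHom) hx

end Core

end CfsgLib.Walter.Field
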