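import Cfsg.Agent.Lib.Recog.Walter.Field.CorePGroup
import Cfsg.Agent.Lib.Recog.Walter.Field.CoreSGroup
import Cfsg.Agent.Lib.OddLocal.Final.OddOrder
import Cfsg.Agent.Lib.Components.FStar

/-!
Owner: helper12. Walter, field part (A): **the core** (`core_conclusion`).

`a` is central in the Fitting subgroup of `K`, so its conjugates generate an elementary abelian `s`-group `A`.
On every atom on which `A` is not trivial `a` is not trivial either, and there is at most one pair of atoms moved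
by `τ`; so `A` has order at most `s ^ 2`, `z` is scalar on it, and the determinant is the homomorphism.
-/

set_option autoImplicit false
set_option linter.unusedSectionVars false

namespace CfsgLib.Walter.Field

universe u v

open Subgroup

/-- The determinant of an action on a vector space over `ZMod p`. -/
theorem exists_det_hom {p : ℕ} [Fact p.Prime] {M : Type u} [AddCommGroup M] [Module (ZMod p) M] [Finite M]
    {N : Type v} [Group N] (f : N →* AddMonoid.End M) : ∃ (ψ : N →* (ZMod p)ˣ) (r : ℕ), Nat.card M = p ^ r ∧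
      ∀ (g : N) (j : ℕ), (∀ x, f g x = j • x) → (ψ g : ZMod p) = (j : ZMod p) ^ r := by
  let D : N →* ZMod p :=
    { toFun := fun g => LinearMap.det (AddMonoidHom.toZModLinearMap p (f g))
      map_one' := by
        rw [map_one, show AddMonoidHom.toZModLinearMap p (1 : AddMonoid.End M) = LinearMap.id from
          LinearMap.ext fun _ => rfl, LinearMap.det_id]
      map_mul' := fun g h => by
        rw [map_mul, show AddMonoidHom.toZModLinearMap p (f g * f h) =
          (AddMonoidHom.toZModLinearMap p (f g)).comp (AddMonoidHom.toZModLinearMap p (f h)) from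
          LinearMap.ext fun _ => rfl, LinearMap.det_comp] }
  refine ⟨D.toHomUnits, Module.finrank (ZMod p) M,
    (Module.natCard_eq_pow_finrank (K := ZMod p) (V := M)).trans (by simp), fun g j h => ?_⟩
  have hL : AddMonoidHom.toZModLinearMap p (f g) = (j : ZMod p) • (LinearMap.id : M →ₗ[ZMod p] M) := by
    refine LinearMap.ext fun x => ?_
    rw [LinearMap.smul_apply, LinearMap.id_apply, Nat.cast_smul_eq_nsmul]
    exact h x
  show LinearMap.det (AddMonoidHom.toZModLinearMap p (f g)) = _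
  rw [hL, LinearMap.det_smul, LinearMap.det_id, mul_one]

namespace Core

variable {H : Type u} {V : Type v} [Group H] [AddCommGroup V] [Module (ZMod 3) V] (c : Core H V)
  [Finite H] [Finite V]

/-- `a` centralises the cores of `K`. -/
theorem comm_pCore (p : ℕ) [hp : Fact p.Prime] {x : c.K} (hx : x ∈ Cfsg.pCore p c.K) :
    c.a * (x : H) = x * c.a := by
  haveI := c.normal
  let Q : Subgroup H := (Cfsg.pCore p c.K).map c.K.subtype
  haveI hQn : Q.Normal := ConjAct.normal_of_characteristic_of_normal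
  have hQp : IsPGroup p Q := (CfsgLib.Core.isPGroup_pCore p c.K).map _
  have hQK : Q ≤ c.K := map_subtype_le _
  have hxQ : (x : H) ∈ Q := mem_map_of_mem _ hx
  have hτQ : ∀ g ∈ Q, c.τ * g * c.τ ∈ Q := fun g hg => by
    have h := hQn.conj_mem g hg c.τ
    rwa [c.τ_inv] at h
  by_cases hp3 : p = 3
  · subst hp3
    have hbot := c.core_three Q hQK hQn hQp
    rw [hbot, mem_bot] at hxQ
    rw [hxQ, mul_one, one_mul]
  by_cases hps : p = c.s
  · subst hps
    let X : Subgroup H := zpowers c.a ⊔ Q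
    have hXK : X ≤ c.K := sup_le (zpowers_le.2 c.a_mem) hQK
    have hXp : IsPGroup c.s X :=
      (IsPGroup.of_card (G := zpowers c.a) (n := 1) (by rw [Nat.card_zpowers, c.order_a, pow_one])).to_sup_of_normal_right'
        hQp (by rw [normalizer_eq_top_iff.2 hQn]; exact le_top)
    refine c.comm_sgroup hXK hXp (le_sup_left (a := zpowers c.a) (mem_zpowers _)) ?_
      (le_sup_right (a := zpowers c.a) hxQ)
    intro g hg
    have hle : X ≤ X.comap (MulAut.conj c.τ).toMonoidHom := by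
      refine sup_le (zpowers_le.2 ?_) (fun y hy => ?_)
      · show c.τ * c.a * c.τ⁻¹ ∈ X
        rw [← c.a_τ, mul_inv_cancel_right]
        exact le_sup_left (a := zpowers c.a) (mem_zpowers _)
      · exact le_sup_right (a := zpowers c.a) (hQn.conj_mem y hy c.τ)
    have h : c.τ * g * c.τ⁻¹ ∈ X := hle hg
    rwa [c.τ_inv] at h
  exact c.comm_pgroup hp3 hps (Nat.card Q) Q le_rfl hQK hQp (fun g hg => hQn.conj_mem g hg c.a) hτQ _ hxQ

/-- `a` lies in the centre of the Fitting subgroup of `K`. -/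
theorem a_central_fitting : (⟨c.a, c.a_mem⟩ : c.K) ∈ Cfsg.fittingSubgroup c.K ∧
    ∀ x ∈ Cfsg.fittingSubgroup c.K, c.a * (x : H) = x * c.a := by
  have hle : Cfsg.fittingSubgroup c.K ≤ centralizer ({⟨c.a, c.a_mem⟩} : Set c.K) := by
    rw [CfsgLib.Core.fittingSubgroup_eq_iSup_pCore]
    refine iSup_le fun p x hx => ?_
    haveI : Fact (p : ℕ).Prime := ⟨p.2⟩
    exact mem_centralizer_singleton_iff.2 (Subtype.ext (c.comm_pCore p hx).symm)
  haveI : Group.IsSolvable c.K := CfsgLib.OddLocal.FTFinal.odd_order_solvable c.odd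
  refine ⟨CfsgLib.Components.centralizer_fitting_le_of_isSolvable ?_, fun x hx => ?_⟩
  · exact mem_centralizer_iff.2 fun x hx => mem_centralizer_singleton_iff.1 (hle hx)
  · exact (congrArg Subtype.val (mem_centralizer_singleton_iff.1 (hle hx))).symm

/-- The normal closure of `a` in `K`. -/
def aClosure : Subgroup H := closure ((fun k => k * c.a * k⁻¹) '' (c.K : Set H))

theorem a_mem_aClosure : c.a ∈ c.aClosure := subset_closure ⟨1, one_mem _, by group⟩

theorem aClosure_le : c.aClosure ≤ c.K := by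
  refine (closure_le _).2 ?_
  rintro _ ⟨k, hk, rfl⟩
  exact mul_mem (mul_mem hk c.a_mem) (inv_mem hk)

theorem aClosure_comm : ∀ x ∈ c.aClosure, ∀ y ∈ c.aClosure, x * y = y * x := by
  refine comm_closure ?_
  rintro _ ⟨k, hk, rfl⟩ _ ⟨l, hl, rfl⟩
  obtain ⟨hmem, hcom⟩ := c.a_central_fitting
  have hk' : (k : H) ∈ c.K := hk
  have hl' : (l : H) ∈ c.K := hl
  let w : c.K := ⟨k, hk'⟩⁻¹ * (⟨l, hl'⟩ * ⟨c.a, c.a_mem⟩ * ⟨l, hl'⟩⁻¹) * ⟨k, hk'⟩
  have hw : w ∈ Cfsg.fittingSubgroup c.K := by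
    have hn := CfsgLib.Core.normal_fittingSubgroup c.K
    have h1 := hn.conj_mem _ (hn.conj_mem _ hmem ⟨l, hl'⟩) (⟨k, hk'⟩ : c.K)⁻¹
    rwa [inv_inv] at h1
  have h : c.a * (k⁻¹ * (l * c.a * l⁻¹) * k) = k⁻¹ * (l * c.a * l⁻¹) * k * c.a := hcom w hw
  calc k * c.a * k⁻¹ * (l * c.a * l⁻¹) = k * (c.a * (k⁻¹ * (l * c.a * l⁻¹) * k)) * k⁻¹ := by group
    _ = k * (k⁻¹ * (l * c.a * l⁻¹) * k * c.a) * k⁻¹ := by rw [h]
    _ = _ := by group

theorem aClosure_pow {x : H} (hx : x ∈ c.aClosure) : x ^ c.s = 1 := by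
  refine Subgroup.closure_induction (p := fun x _ => x ^ c.s = 1) ?_ (one_pow _) ?_ ?_ hx
  · rintro _ ⟨k, -, rfl⟩
    rw [conj_pow, c.a_pow_s, mul_one, mul_inv_cancel]
  · intro x y hx hy ex ey
    rw [(show Commute x y from c.aClosure_comm x hx y hy).mul_pow, ex, ey, one_mul]
  · intro x _ ex
    rw [inv_pow, ex, inv_one]

theorem aClosure_conj {k : H} (hk : k ∈ c.K) : ∀ x ∈ c.aClosure, k * x * k⁻¹ ∈ c.aClosure := by
  refine map_closure_le ?_
  rintro _ ⟨l, hl, rfl⟩
  exact subset_closure ⟨k * l, mul_mem hk hl, by group⟩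

theorem aClosure_τ : ∀ x ∈ c.aClosure, c.τ * x * c.τ ∈ c.aClosure := by
  intro x hx
  have h := map_closure_le (g := c.τ) (R := c.aClosure) ?_ x hx
  · rwa [c.τ_inv] at h
  rintro _ ⟨l, hl, rfl⟩
  refine subset_closure ⟨c.τ * l * c.τ⁻¹, c.normal.conj_mem l hl c.τ, ?_⟩
  calc c.τ * l * c.τ⁻¹ * c.a * (c.τ * l * c.τ⁻¹)⁻¹ = c.τ * l * (c.τ⁻¹ * c.a) * c.τ * l⁻¹ * c.τ⁻¹ := by group
    _ = c.τ * l * (c.a * c.τ⁻¹) * c.τ * l⁻¹ * c.τ⁻¹ := by rw [c.τ_inv, c.a_τ]
    _ = _ := by group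

theorem aClosure_good : Good c.aClosure := by
  refine ⟨c.aClosure_comm, fun x hx h => c.s_ne_three ?_⟩
  exact ((Nat.prime_dvd_prime_iff_eq Nat.prime_three c.prime_s).1
    (h.trans (orderOf_dvd_of_pow_eq_one (c.aClosure_pow hx)))).symm

/-- Decomposition into an inverted and a fixed part. -/
theorem decompose {x : H} (hx : x ∈ c.aClosure) : ∃ u ∈ c.aClosure, ∃ w ∈ c.aClosure,
    c.τ * u * c.τ = u⁻¹ ∧ w ∈ zpowers c.a ∧ x = u * w := by
  set z := x * (c.τ * x * c.τ)⁻¹ with hz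
  have hzA : z ∈ c.aClosure := mul_mem hx (inv_mem (c.aClosure_τ x hx))
  obtain ⟨m, hm⟩ := c.exists_sqrt (c.aClosure_le hzA)
  have hττ : c.τ * (c.τ * x * c.τ) * c.τ = x := by
    calc c.τ * (c.τ * x * c.τ) * c.τ = (c.τ * c.τ) * x * (c.τ * c.τ) := by group
      _ = x := by rw [c.τ_sq, one_mul, mul_one]
  have hτmul : ∀ g k : H, c.τ * (g * k) * c.τ = (c.τ * g * c.τ) * (c.τ * k * c.τ) := fun g k => by
    calc c.τ * (g * k) * c.τ = c.τ * g * 1 * k * c.τ := by group
      _ = c.τ * g * (c.τ * c.τ) * k * c.τ := by rw [c.τ_sq]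
      _ = _ := by group
  have hτinv : ∀ g : H, (c.τ * g * c.τ)⁻¹ = c.τ * g⁻¹ * c.τ := fun g => by
    rw [mul_inv_rev, mul_inv_rev, c.τ_inv, mul_assoc]
  have hzτ : c.τ * z * c.τ = z⁻¹ := by rw [hz, hτmul, ← hτinv (c.τ * x * c.τ), hττ]; group
  have hvτ : c.τ * z ^ m * c.τ = (z ^ m)⁻¹ := by
    have h : c.τ * z ^ m * c.τ⁻¹ = (z ^ m)⁻¹ := by rw [← conj_pow, c.τ_inv, hzτ, inv_pow]
    rwa [c.τ_inv] at h
  set w := (z ^ m)⁻¹ * x with hw
  have hwA : w ∈ c.aClosure := mul_mem (inv_mem (pow_mem hzA m)) hx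
  have hwfix : c.τ * w * c.τ = w := by
    have hzy : c.τ * x * c.τ = z⁻¹ * x := by rw [hz]; group
    rw [hw, hτmul, ← hτinv, hvτ, inv_inv, hzy]
    calc z ^ m * (z⁻¹ * x) = z ^ m * ((z ^ m * z ^ m)⁻¹ * x) := by rw [hm]
      _ = _ := by group
  refine ⟨z ^ m, pow_mem hzA m, w, hwA, hvτ, c.mem_zpowers_of_T ((c.T_eq w).2 ⟨c.aClosure_le hwA, ?_,
    c.aClosure_comm w hwA c.a c.a_mem_aClosure⟩) (c.aClosure_pow hwA), by rw [hw]; group⟩
  calc w * c.τ = c.τ * w * c.τ * c.τ := by rw [hwfix]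
    _ = c.τ * w := by rw [mul_assoc _ c.τ c.τ, c.τ_sq, mul_one]

section Atoms

variable {e : Module.End (ZMod 3) V}

theorem a_fix_atom (he : IsPiece c.ρ c.aClosure e) : c.cj c.a e = e := by
  show c.ρ c.a * e * c.ρ c.a⁻¹ = e
  rw [span_comm c.aClosure_comm (mem_span c.a_mem_aClosure) he.mem, mul_assoc, ← map_mul, mul_inv_cancel,
    map_one, mul_one]

/-- On an atom moved by `τ` the element `a` is not trivial. -/
theorem a_moved (he : IsPiece c.ρ c.aClosure e) (hne : c.cj c.τ e ≠ e) : c.ρ c.a * e ≠ e := by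
  intro h
  obtain ⟨v, hv0, hv⟩ := he.exists_apply
  have hav : c.ρ c.a v = v := by
    have := congrArg (fun r => r v) h
    simp only [Module.End.mul_apply, hv] at this
    exact this
  refine hv0 (c.add_ne_zero c.aClosure_good c.aClosure_τ he hne hv (c.a_free _ (c.fixed_add v) ?_))
  rw [map_add, hav, ← rho_mul, c.a_τ, rho_mul, hav]

/-- An inverted element is trivial on every atom fixed by `τ`. -/
theorem inverted_trivial (he : IsPiece c.ρ c.aClosure e) (hte : c.cj c.τ e = e) {u : H}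
    (hu : u ∈ c.aClosure) (huτ : c.τ * u * c.τ = u⁻¹) : c.ρ u * e = e := by
  have hconj : ∀ g : H, c.ρ (c.τ * g * c.τ) * e = c.cj c.τ (c.ρ g * e) := fun g => by
    rw [cj_mul, hte, cj_rho, c.τ_inv]
  have key : c.ρ u⁻¹ * e = c.ρ u * e := by
    rw [← huτ]
    by_cases hae : c.ρ c.a * e = e
    · -- `τ = -1` on this atom
      have hneg : ∀ v, e v = v → c.ρ c.τ v = -v := fun v hv => by
        refine eq_neg_of_add_eq_zero_right (c.a_free _ (c.fixed_add v) ?_)
        have hav : c.ρ c.a v = v := by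
          have := congrArg (fun r => r v) hae
          simp only [Module.End.mul_apply, hv] at this
          exact this
        rw [map_add, hav, ← rho_mul, c.a_τ, rho_mul, hav]
      refine LinearMap.ext fun w => ?_
      show c.ρ (c.τ * u * c.τ) (e w) = c.ρ u (e w)
      have hw : e (e w) = e w := congrArg (fun r => r w) he.idem
      rw [rho_mul, rho_mul, hneg _ hw, map_neg, map_neg,
        hneg _ (he.apply_stable c.aClosure_good (mem_span hu) hw), neg_neg]
    · obtain ⟨i, hi⟩ := he.exists_pow_of_root c.aClosure_good c.prime_s hu c.a_mem_aClosure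
        (c.aClosure_pow hu) c.a_pow_s hae
      rw [hconj, hi, ← hconj]
      congr 2
      rw [← c.pow_a_τ, mul_assoc, c.τ_sq, mul_one]
  obtain ⟨m, hm⟩ := c.exists_sqrt (c.aClosure_le hu)
  have h2 : c.ρ (u * u) * e = e := by
    rw [map_mul, mul_assoc, ← key, ← mul_assoc, ← map_mul, mul_inv_cancel, map_one, one_mul]
  have h3 : ∀ n : ℕ, c.ρ ((u * u) ^ n) * e = e := by
    intro n
    induction n with
    | zero => rw [pow_zero, map_one, one_mul]
    | succ n ih => rw [pow_succ, map_mul, mul_assoc, h2, ih]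
  have h4 := h3 m
  rwa [(Commute.refl u).mul_pow, hm] at h4

theorem pow_mul_atom {x y : H} (hx : x ∈ c.aClosure) (hy : y ∈ c.aClosure) (he : IsPiece c.ρ c.aClosure e)
    (h : c.ρ x * e = c.ρ y * e) (n : ℕ) : c.ρ (x ^ n) * e = c.ρ (y ^ n) * e := by
  induction n with
  | zero => simp
  | succ n ih =>
    rw [pow_succ, pow_succ, map_mul, map_mul, mul_assoc, h, ← mul_assoc]
    rw [mul_assoc, span_comm c.aClosure_comm (mem_span hy) he.mem, ← mul_assoc, ih, mul_assoc,
      ← span_comm c.aClosure_comm (mem_span hy) he.mem, ← mul_assoc]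

/-- An element trivial on a pair is trivial. -/
theorem eq_one_of_pair (he : IsPiece c.ρ c.aClosure e) (hne : c.cj c.τ e ≠ e) {d : H}
    (hd : d ∈ c.aClosure) (h1 : c.ρ d * e = e) (h2 : c.ρ d * c.cj c.τ e = c.cj c.τ e) : d = 1 := by
  obtain ⟨u, hu, w, hw, huτ, hwa, hdw⟩ := c.decompose hd
  have hd' : c.ρ (c.τ * d * c.τ) * e = e := by
    have := congrArg (c.cj c.τ) h2
    rwa [cj_mul, cj_τ_τ, cj_rho, c.τ_inv] at this
  have hd'' : c.ρ (c.τ * d * c.τ) * c.cj c.τ e = c.cj c.τ e := by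
    have := congrArg (c.cj c.τ) h1
    rwa [cj_mul, cj_rho, c.τ_inv] at this
  have hww : c.τ * w * c.τ = w := by
    obtain ⟨i, hi⟩ := mem_powers_iff_mem_zpowers.2 hwa
    rw [← hi, ← c.pow_a_τ, mul_assoc, c.τ_sq, mul_one]
  have hu2 : u * u = d * (c.τ * d * c.τ)⁻¹ := by
    have hsplit : c.τ * (u * w) * c.τ = u⁻¹ * w := by
      calc c.τ * (u * w) * c.τ = c.τ * u * 1 * w * c.τ := by group
        _ = c.τ * u * (c.τ * c.τ) * w * c.τ := by rw [c.τ_sq]
        _ = (c.τ * u * c.τ) * (c.τ * w * c.τ) := by group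
        _ = _ := by rw [huτ, hww]
    rw [hdw, hsplit]; group
  have huu : u * u = 1 := by
    refine c.faithful ((eq_of_forall_piece c.aClosure_good (mem_span (mul_mem hu hu)) (one_mem _)
      fun f hf => ?_).trans (map_one c.ρ).symm)
    rw [one_mul]
    by_cases hft : c.cj c.τ f = f
    · rw [map_mul, mul_assoc, c.inverted_trivial hf hft hu huτ, c.inverted_trivial hf hft hu huτ]
    · have hinv : ∀ g : H, c.ρ g * f = f → c.ρ g⁻¹ * f = f := fun g hg => by
        conv_lhs => rw [← hg, ← mul_assoc, ← map_mul, inv_mul_cancel, map_one, one_mul]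
      rw [hu2, map_mul, mul_assoc]
      rcases c.pair c.aClosure_good c.aClosure_τ he hf (c.a_fix_atom he) (c.a_fix_atom hf) hne hft with h | h
      · subst h; rw [hinv _ hd', h1]
      · subst h; rw [hinv _ hd'', h2]
  have hu1 : u = 1 := c.eq_one_of_sq (c.aClosure_le hu) huu
  rw [hu1, one_mul] at hdw
  subst hdw
  by_contra hd1
  refine c.a_moved he hne ?_
  haveI : Fact c.s.Prime := ⟨c.prime_s⟩
  have htop := zpowers_eq_top_of_prime_card (p := c.s) (by rw [Nat.card_zpowers, c.order_a])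
    (g := (⟨d, hwa⟩ : zpowers c.a)) (fun h => hd1 (congrArg Subtype.val h))
  obtain ⟨i, hi⟩ := mem_powers_iff_mem_zpowers.2 (htop ▸ mem_top (⟨c.a, mem_zpowers c.a⟩ : zpowers c.a))
  have hi' : d ^ i = c.a := congrArg Subtype.val hi
  rw [← hi']
  clear hi hi'
  induction i with
  | zero => rw [pow_zero, map_one, one_mul]
  | succ i ih => rw [pow_succ, map_mul, mul_assoc, h1, ih]

end Atoms

/-- `A` is small and `z` is scalar on it. -/
theorem card_and_scalar : Nat.card c.aClosure ≤ c.s ^ 2 ∧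
    ∃ j : ℕ, c.z * c.a * c.z⁻¹ = c.a ^ j ∧ ∀ x ∈ c.aClosure, c.z * x * c.z⁻¹ = x ^ j := by
  classical
  haveI : Fact c.s.Prime := ⟨c.prime_s⟩
  obtain ⟨j, hj⟩ := mem_powers_iff_mem_zpowers.2 (c.fixed_norm c.z c.z_mem c.z_τ)
  have hj' : c.z * c.a * c.z⁻¹ = c.a ^ j := hj.symm
  by_cases hpair : ∃ e, IsPiece c.ρ c.aClosure e ∧ c.cj c.τ e ≠ e
  swap
  · push Not at hpair
    have hall : ∀ x ∈ c.aClosure, x ∈ zpowers c.a := by
      intro x hx
      obtain ⟨u, hu, w, hw, huτ, hwa, rfl⟩ := c.decompose hx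
      have hu1 : u = 1 := c.faithful ((eq_of_forall_piece c.aClosure_good (mem_span hu) (one_mem _)
        fun e he => by rw [one_mul, c.inverted_trivial he (hpair e he) hu huτ]).trans (map_one c.ρ).symm)
      rwa [hu1, one_mul]
    refine ⟨?_, j, hj', fun x hx => ?_⟩
    · have h := Nat.card_le_card_of_injective (fun x : c.aClosure => (⟨x, hall x x.2⟩ : zpowers c.a))
        fun x y h => Subtype.ext (congrArg (fun q : zpowers c.a => (q : H)) h)
      rw [Nat.card_zpowers, c.order_a] at h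
      exact h.trans (Nat.le_self_pow two_ne_zero _)
    · obtain ⟨i, rfl⟩ := mem_powers_iff_mem_zpowers.2 (hall x hx)
      show c.z * c.a ^ i * c.z⁻¹ = (c.a ^ i) ^ j
      rw [← conj_pow, hj', ← pow_mul, ← pow_mul, mul_comm]
  obtain ⟨e, he, hne⟩ := hpair
  set e' := c.cj c.τ e with he'def
  have he' : IsPiece c.ρ c.aClosure e' := c.piece_cj_τ c.aClosure_τ he
  have hne' : c.cj c.τ e' ≠ e' := by rw [he'def, cj_τ_τ]; exact Ne.symm hne
  have coord : ∀ f, IsPiece c.ρ c.aClosure f → c.cj c.τ f ≠ f → ∀ x ∈ c.aClosure,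
      ∃ i : Fin c.s, c.ρ x * f = c.ρ (c.a ^ (i : ℕ)) * f := by
    intro f hf hft x hx
    obtain ⟨i, hi⟩ := hf.exists_pow_of_root c.aClosure_good c.prime_s hx c.a_mem_aClosure
      (c.aClosure_pow hx) c.a_pow_s (c.a_moved hf hft)
    exact ⟨⟨i % c.s, Nat.mod_lt _ c.prime_s.pos⟩, by rw [hi, ← pow_eq_pow_mod i c.a_pow_s]⟩
  have hsame : ∀ x ∈ c.aClosure, ∀ y ∈ c.aClosure, c.ρ x * e = c.ρ y * e → c.ρ x * e' = c.ρ y * e' →
      x = y := by
    intro x hx y hy h1 h2
    refine (inv_mul_eq_one.1 (c.eq_one_of_pair he hne (mul_mem (inv_mem hy) hx) ?_ ?_)).symm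
    · rw [map_mul, mul_assoc, h1, ← mul_assoc, ← map_mul, inv_mul_cancel, map_one, one_mul]
    · rw [map_mul, mul_assoc, h2, ← mul_assoc, ← map_mul, inv_mul_cancel, map_one, one_mul]
  refine ⟨?_, j, hj', ?_⟩
  · choose i₁ h₁ using fun x : c.aClosure => coord e he hne x x.2
    choose i₂ h₂ using fun x : c.aClosure => coord e' he' hne' x x.2
    have h := Nat.card_le_card_of_injective (fun x : c.aClosure => (i₁ x, i₂ x)) fun x y h => by
      obtain ⟨e1, e2⟩ := Prod.mk.injEq _ _ _ _ ▸ h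
      exact Subtype.ext (hsame x x.2 y y.2 (by rw [h₁ x, h₁ y, e1]) (by rw [h₂ x, h₂ y, e2]))
    rwa [Nat.card_prod, Nat.card_fin, ← pow_two] at h
  have hzn : ∀ x ∈ c.aClosure, c.z * x * c.z⁻¹ ∈ c.aClosure := c.aClosure_conj c.z_mem
  have hzn' : ∀ x ∈ c.aClosure, c.z⁻¹ * x * c.z ∈ c.aClosure := fun x hx => by
    have := c.aClosure_conj (inv_mem c.z_mem) x hx
    rwa [inv_inv] at this
  have hzτ : ∀ f, c.cj c.z (c.cj c.τ f) = c.cj c.τ (c.cj c.z f) := fun f => by
    rw [cj_cj, cj_cj, c.z_τ]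
  have hzf : IsPiece c.ρ c.aClosure (c.cj c.z e) := c.piece_cj hzn hzn' he
  have hzne : c.cj c.τ (c.cj c.z e) ≠ c.cj c.z e := fun h => by
    rw [← hzτ] at h
    have := congrArg (c.cj c.z⁻¹) h
    simp only [cj_cj, ← mul_assoc, inv_mul_cancel, one_mul, cj_one] at this
    exact hne this
  have hze : c.cj c.z e = e := by
    rcases c.pair c.aClosure_good c.aClosure_τ he hzf (c.a_fix_atom he) (c.a_fix_atom hzf) hne hzne with h | h
    · exact h
    · exfalso
      have h2 : c.cj (c.z * c.z) e = e := by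
        rw [← cj_cj, h, hzτ, h, cj_τ_τ]
      obtain ⟨m, hm⟩ := c.exists_sqrt c.z_mem
      have h3 : ∀ n : ℕ, c.cj ((c.z * c.z) ^ n) e = e := by
        intro n
        induction n with
        | zero => rw [pow_zero, cj_one]
        | succ n ih => rw [pow_succ, ← cj_cj, h2, ih]
      have h4 := h3 m
      rw [(Commute.refl c.z).mul_pow, hm, h] at h4
      exact hne h4
  have hze' : c.cj c.z e' = e' := by rw [he'def, hzτ, hze]
  intro x hx
  have scal : ∀ f, IsPiece c.ρ c.aClosure f → c.cj c.τ f ≠ f → c.cj c.z f = f →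
      c.ρ (c.z * x * c.z⁻¹) * f = c.ρ (x ^ j) * f := by
    intro f hf hft hfz
    obtain ⟨i, hi⟩ := coord f hf hft x hx
    have h1 := congrArg (c.cj c.z) hi
    simp only [cj_mul, cj_rho, hfz] at h1
    rw [h1, ← conj_pow, hj', c.pow_mul_atom hx (pow_mem c.a_mem_aClosure _) hf hi j, ← pow_mul, ← pow_mul,
      mul_comm]
  exact hsame _ (hzn x hx) _ (pow_mem hx j) (scal e he hne hze) (scal e' he' hne' hze')

/-- **The core**. -/
theorem core_conclusion : c.Conclusion := by
  classical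
  haveI : Fact c.s.Prime := ⟨c.prime_s⟩
  obtain ⟨hcard, j, hja, hjx⟩ := c.card_and_scalar
  set A := c.aClosure with hA
  let N : Subgroup H := normalizer (A : Set H)
  have hKN : c.K ≤ N := fun k hk => mem_normalizer_iff.2 fun x => ⟨c.aClosure_conj hk x, fun h => by
    have h' := c.aClosure_conj (inv_mem hk) _ h
    rwa [show k⁻¹ * (k * x * k⁻¹) * k⁻¹⁻¹ = x by group] at h'⟩
  have hτN : c.τ ∈ N := mem_normalizer_iff.2 fun x => by
    rw [c.τ_inv]
    refine ⟨c.aClosure_τ x, fun h => ?_⟩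
    have h' := c.aClosure_τ _ h
    rwa [show c.τ * (c.τ * x * c.τ) * c.τ = (c.τ * c.τ) * x * (c.τ * c.τ) by group, c.τ_sq, one_mul,
      mul_one] at h'
  letI iA : CommGroup A :=
    { (inferInstance : Group A) with mul_comm := fun x y => Subtype.ext (c.aClosure_comm x x.2 y y.2) }
  letI iM : Module (ZMod c.s) (Additive A) := AddCommGroup.zmodModule fun x => by
    have h : (Additive.toMul x) ^ c.s = 1 := Subtype.ext (by
      rw [SubmonoidClass.coe_pow]; exact c.aClosure_pow (Additive.toMul x).2)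
    exact congrArg Additive.ofMul h
  haveI : Finite (Additive A) := Finite.of_equiv A Additive.ofMul
  let act : N → AddMonoid.End (Additive A) := fun g =>
    MonoidHom.toAdditive (MonoidHom.mk' (fun x : A =>
      (⟨(g : H) * x * (g : H)⁻¹, (mem_normalizer_iff.1 g.2 x).1 x.2⟩ : A))
      fun x y => Subtype.ext (by
        show (g : H) * (x * y) * (g : H)⁻¹ = g * x * (g : H)⁻¹ * (g * y * (g : H)⁻¹)
        group))
  let actHom : N →* AddMonoid.End (Additive A) :=
    { toFun := act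
      map_one' := AddMonoidHom.ext fun x => Additive.toMul.injective (Subtype.ext (by
        show (1 : H) * (Additive.toMul x : A) * (1 : H)⁻¹ = (Additive.toMul x : A)
        group))
      map_mul' := fun g h => AddMonoidHom.ext fun x => Additive.toMul.injective (Subtype.ext (by
        show (g : H) * h * (Additive.toMul x : A) * ((g : H) * h)⁻¹ =
          g * ((h : H) * (Additive.toMul x : A) * (h : H)⁻¹) * (g : H)⁻¹
        group)) }
  obtain ⟨ψ, r, hcardr, hψ⟩ := exists_det_hom (p := c.s) actHom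
  refine ⟨ULift.{u} (ZMod c.s)ˣ, inferInstance,
    (MulEquiv.ulift.symm.toMonoidHom.comp ψ).comp (Subgroup.inclusion hKN), fun x => ?_, fun hz => ?_⟩
  · refine congrArg MulEquiv.ulift.symm ?_
    have hx : (⟨c.τ * x * c.τ⁻¹, hKN (c.normal.conj_mem x x.2 c.τ)⟩ : N) =
        ⟨c.τ, hτN⟩ * Subgroup.inclusion hKN x * ⟨c.τ, hτN⟩⁻¹ := rfl
    show ψ ⟨c.τ * x * c.τ⁻¹, _⟩ = ψ (Subgroup.inclusion hKN x)
    rw [hx, map_mul, map_mul, map_inv, mul_comm (ψ _) (ψ (Subgroup.inclusion hKN x)), mul_inv_cancel_right]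
  -- `z` is the scalar `j`
  have hdet : ψ (Subgroup.inclusion hKN ⟨c.z, c.z_mem⟩) = 1 := congrArg MulEquiv.ulift hz
  have hjr : (j : ZMod c.s) ^ r = 1 := by
    rw [← hψ (Subgroup.inclusion hKN ⟨c.z, c.z_mem⟩) j fun x => ?_, hdet, Units.val_one]
    show Additive.ofMul (⟨c.z * (Additive.toMul x : A) * c.z⁻¹, _⟩ : A) = Additive.ofMul ((Additive.toMul x) ^ j)
    refine congrArg Additive.ofMul (Subtype.ext ?_)
    rw [SubmonoidClass.coe_pow]
    exact hjx _ (Additive.toMul x).2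
  have hAr : Nat.card A = c.s ^ r := by
    rw [← hcardr]; exact Nat.card_congr Additive.ofMul
  have hr2 : r ≤ 2 := (Nat.pow_le_pow_iff_right c.prime_s.one_lt).1 (hAr ▸ hcard)
  have hr0 : r ≠ 0 := fun h => by
    rw [h, pow_zero] at hAr
    haveI := (Nat.card_eq_one_iff_unique.1 hAr).1
    exact c.a_ne_one (congrArg Subtype.val (Subsingleton.elim (⟨c.a, c.a_mem_aClosure⟩ : A) 1))
  have hj2 : (j : ZMod c.s) ^ 2 = 1 := by
    rcases (by omega : r = 1 ∨ r = 2) with h | h
    · rw [h, pow_one] at hjr; rw [hjr, one_pow]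
    · rw [h] at hjr; exact hjr
  -- `j` has `3`-power order
  obtain ⟨i, hi⟩ := c.z_three
  have it : ∀ n : ℕ, c.z ^ n * c.a * (c.z ^ n)⁻¹ = c.a ^ j ^ n := by
    intro n
    induction n with
    | zero => simp
    | succ n ih =>
      rw [show c.z ^ (n + 1) * c.a * (c.z ^ (n + 1))⁻¹ = c.z * (c.z ^ n * c.a * (c.z ^ n)⁻¹) * c.z⁻¹ by
        rw [pow_succ']; group, ih, ← conj_pow, hja, ← pow_mul, ← pow_succ']
  have h3 := it (3 ^ i)
  rw [hi, one_mul, inv_one, mul_one] at h3
  have hj3 : (j : ZMod c.s) ^ 3 ^ i = 1 := by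
    have := pow_eq_pow_iff_modEq.1 ((pow_one c.a).trans h3)
    rw [c.order_a, ← ZMod.natCast_eq_natCast_iff] at this
    rw [← Nat.cast_pow, ← this, Nat.cast_one]
  have hj1 : (j : ZMod c.s) = 1 := by
    obtain ⟨o, ho⟩ : Odd (3 ^ i) := Odd.pow (by decide)
    rwa [ho, pow_succ, pow_mul, hj2, one_pow, one_mul] at hj3
  refine c.z_moves ?_
  rw [hja]
  conv_rhs => rw [← pow_one c.a]
  refine pow_eq_pow_iff_modEq.2 ?_
  rw [c.order_a, ← ZMod.natCast_eq_natCast_iff, hj1, Nat.cast_one]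

end Core

end CfsgLib.Walter.Field
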