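import Mathlib

/-!
Owner: helper12. Walter, field part (A): groups whose commutators lie in one central subgroup of prime order.
-/

set_option autoImplicit false
set_option linter.unusedSectionVars false

namespace CfsgLib.Walter.Field

universe u

open Subgroup

variable {G : Type u} [Group G] [Finite G] {p : ℕ} [hp : Fact p.Prime]

/-- In a cyclic group an element of prime order generates the elements of that exponent. -/
theorem mem_zpowers_of_cyclic [IsCyclic G] {C g : G} (hC : orderOf C = p) (hg : g ^ p = 1) :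
    g ∈ zpowers C := by
  classical
  haveI : Fintype G := Fintype.ofFinite _
  have hcard := IsCyclic.card_pow_eq_one_le (α := G) hp.out.pos
  let S : Finset G := (Finset.range p).image fun i => C ^ i
  have hS : S = Finset.univ.filter fun x : G => x ^ p = 1 := by
    refine Finset.eq_of_subset_of_card_le ?_ ?_
    · intro x hx
      obtain ⟨i, -, rfl⟩ := Finset.mem_image.1 hx
      refine Finset.mem_filter.2 ⟨Finset.mem_univ _, ?_⟩
      rw [← pow_mul, mul_comm, pow_mul, ← hC, pow_orderOf_eq_one, one_pow]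
    · refine le_trans hcard ?_
      rw [Finset.card_image_of_injOn, Finset.card_range]
      intro i hi j hj h
      exact pow_injOn_Iio_orderOf (by rw [hC]; simpa using hi) (by rw [hC]; simpa using hj) h
  obtain ⟨i, -, hi⟩ := Finset.mem_image.1 (hS ▸ Finset.mem_filter.2 ⟨Finset.mem_univ g, hg⟩ : g ∈ S)
  exact hi ▸ npow_mem_zpowers _ _

/-- The index of the centre is the square of a power of `p`. -/
theorem index_center_sq : ∀ (n : ℕ) (G : Type u) [Group G] [Finite G], Nat.card G ≤ n →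
    ∀ C : G, C ∈ center G → orderOf C = p → (∀ g k : G, g * k * g⁻¹ * k⁻¹ ∈ zpowers C) →
    ∃ d : ℕ, (center G).index = (p ^ d) ^ 2 := by
  intro n
  induction n with
  | zero =>
    intro G _ _ h
    have := Nat.card_pos (α := G)
    omega
  | succ n ih =>
    intro G _ _ hn C hC hord hcomm
    by_cases hab : ∀ g k : G, g * k = k * g
    · exact ⟨0, by simp [index_eq_one, eq_top_iff', mem_center_iff, hab]⟩
    push Not at hab
    obtain ⟨x, y, hxy⟩ := hab
    have hz : ∀ g k m : G, m * (g * k * g⁻¹ * k⁻¹) = g * k * g⁻¹ * k⁻¹ * m := fun g k m =>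
      mem_center_iff.1 ((zpowers_le.2 hC) (hcomm g k)) m
    let ψ : G → G →* zpowers C := fun a => MonoidHom.mk' (fun g => ⟨_, hcomm a g⟩) fun g h => by
      refine Subtype.ext ?_
      show a * (g * h) * a⁻¹ * (g * h)⁻¹ = a * g * a⁻¹ * g⁻¹ * (a * h * a⁻¹ * h⁻¹)
      calc a * (g * h) * a⁻¹ * (g * h)⁻¹ = (a * g * a⁻¹) * (a * h * a⁻¹ * h⁻¹) * g⁻¹ := by group
        _ = (a * h * a⁻¹ * h⁻¹) * (a * g * a⁻¹) * g⁻¹ := by rw [hz a h (a * g * a⁻¹)]
        _ = (a * h * a⁻¹ * h⁻¹) * (a * g * a⁻¹ * g⁻¹) := by group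
        _ = _ := (hz a h _).symm
    have hψ : ∀ a g, ψ a g = 1 ↔ a * g = g * a := fun a g => by
      show (⟨_, _⟩ : zpowers C) = 1 ↔ _
      rw [Subtype.ext_iff]
      show a * g * a⁻¹ * g⁻¹ = 1 ↔ _
      rw [mul_inv_eq_one, mul_inv_eq_iff_eq_mul]
    let φ : G →* zpowers C × zpowers C := (ψ x).prod (ψ y)
    have hcard : Nat.card (zpowers C) = p := by rw [Nat.card_zpowers, hord]
    have hgen : ∀ w : zpowers C, w ≠ 1 → ∀ u, u ∈ zpowers w := fun w hw u => by
      rw [zpowers_eq_top_of_prime_card hcard hw]; exact mem_top u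
    have hsurj : Function.Surjective φ := by
      rintro ⟨a, b⟩
      obtain ⟨i, hi⟩ := mem_zpowers_iff.1 (hgen (ψ x y) (fun h => hxy ((hψ x y).1 h)) a)
      obtain ⟨j, hj⟩ := mem_zpowers_iff.1 (hgen (ψ y x) (fun h => hxy ((hψ y x).1 h).symm) b)
      refine ⟨y ^ i * x ^ j, ?_⟩
      have h1 : ψ x x = 1 := (hψ x x).2 rfl
      have h2 : ψ y y = 1 := (hψ y y).2 rfl
      show (ψ x (y ^ i * x ^ j), ψ y (y ^ i * x ^ j)) = (a, b)
      rw [map_mul, map_mul, map_zpow, map_zpow, map_zpow, map_zpow, h1, h2, one_zpow, one_zpow,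
        mul_one, one_mul, hi, hj]
    have hker : ∀ g, g ∈ φ.ker ↔ x * g = g * x ∧ y * g = g * y := fun g => by
      rw [MonoidHom.mem_ker, ← hψ, ← hψ]
      exact Prod.ext_iff
    have hidx : φ.ker.index = p ^ 2 := by
      rw [index_ker, MonoidHom.range_eq_top.2 hsurj, card_top, Nat.card_prod, hcard, pow_two]
    have hCk : C ∈ φ.ker := (hker C).2 ⟨mem_center_iff.1 hC x, mem_center_iff.1 hC y⟩
    have hcen : center φ.ker = (center G).subgroupOf φ.ker := by
      ext z
      rw [mem_subgroupOf, mem_center_iff, mem_center_iff]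
      refine ⟨fun h g => ?_, fun h k => Subtype.ext (h k)⟩
      obtain ⟨hzx, hzy⟩ := (hker _).1 z.2
      have hker2 : ∀ g : G, ∃ k ∈ φ.ker, ∃ i j : ℤ, g = k * (y ^ i * x ^ j) := fun g => by
        obtain ⟨i, hi⟩ := mem_zpowers_iff.1 (hgen (ψ x y) (fun h => hxy ((hψ x y).1 h)) (ψ x g))
        obtain ⟨j, hj⟩ := mem_zpowers_iff.1 (hgen (ψ y x) (fun h => hxy ((hψ y x).1 h).symm) (ψ y g))
        refine ⟨g * (y ^ i * x ^ j)⁻¹, ?_, i, j, by group⟩
        have h1 : ψ x x = 1 := (hψ x x).2 rfl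
        have h2 : ψ y y = 1 := (hψ y y).2 rfl
        refine MonoidHom.mem_ker.2 (Prod.ext ?_ ?_)
        · show ψ x _ = 1
          rw [map_mul, map_inv, map_mul, map_zpow, map_zpow, h1, one_zpow, mul_one, hi, mul_inv_cancel]
        · show ψ y _ = 1
          rw [map_mul, map_inv, map_mul, map_zpow, map_zpow, h2, one_zpow, one_mul, hj, mul_inv_cancel]
      obtain ⟨k, hk, i, j, rfl⟩ := hker2 g
      have hk' : k * (z : G) = z * k := congrArg Subtype.val (h ⟨k, hk⟩)
      exact ((show Commute k (z : G) from hk').mul_left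
        (((show Commute y (z : G) from hzy).zpow_left i).mul_left
          ((show Commute x (z : G) from hzx).zpow_left j))).eq
    have hlt : Nat.card φ.ker ≤ n := by
      have h := φ.ker.card_mul_index
      rw [hidx] at h
      have h4 : 4 ≤ p ^ 2 := by nlinarith [hp.out.two_le]
      have := Nat.card_pos (α := φ.ker)
      nlinarith
    obtain ⟨d, hd⟩ := ih φ.ker hlt ⟨C, hCk⟩
      (mem_center_iff.2 fun k => Subtype.ext (mem_center_iff.1 hC k))
      (by rw [orderOf_mk]; exact hord) fun g k => by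
        obtain ⟨i, hi⟩ := mem_zpowers_iff.1 (hcomm g k)
        exact mem_zpowers_iff.2 ⟨i, Subtype.ext hi⟩
    refine ⟨d + 1, ?_⟩
    have hle : center G ≤ φ.ker := fun g hg =>
      (hker g).2 ⟨mem_center_iff.1 hg x, mem_center_iff.1 hg y⟩
    rw [← relIndex_mul_index hle, hidx, relIndex, ← hcen, hd]
    ring

end CfsgLib.Walter.Field
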