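import Mathlib

/-!
Owner: helper12. Walter, field part, case `3 ∣ n` (notes/walter_field_helper12.md, UPDATE (A)):
the abstract core. In the application `H` is the image of `N(Z(J(P))) = O ⋊ ⟨t⟩` in the automorphisms of
`V = R/Φ(R)`, `R` the `O_3` of `O / O_{3'}(O)`, `τ` the image of `t`, `K` that of `O`,
`a` an element of the torus of a primitive prime order `s` of `3 ^ k - 1`, `T` the image of the torus.
-/

set_option autoImplicit false

namespace CfsgLib.Walter.Field

universe u v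

/-- The core configuration. -/
structure Core (H : Type u) (V : Type v) [Group H] [AddCommGroup V] [Module (ZMod 3) V] where
  ρ : Representation (ZMod 3) H V
  faithful : Function.Injective ρ
  K : Subgroup H
  normal : K.Normal
  odd : Odd (Nat.card K)
  core_three : ∀ Q : Subgroup H, Q ≤ K → Q.Normal → IsPGroup 3 Q → Q = ⊥
  τ : H
  τ_sq : τ * τ = 1
  τ_not : τ ∉ K
  k : ℕ
  /-- the fixed space of `τ` has dimension `k` -/
  card_fixed : Nat.card {v : V // ρ τ v = v} = 3 ^ k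
  a : H
  a_mem : a ∈ K
  a_τ : a * τ = τ * a
  s : ℕ
  prime_s : s.Prime
  big : 2 * k < s
  order_a : orderOf a = s
  /-- `a` has no fixed point on the fixed space of `τ` -/
  a_free : ∀ v : V, ρ τ v = v → ρ a v = v → v = 0
  /-- `a` is irreducible on the fixed space of `τ` -/
  a_irred : ∀ U : Submodule (ZMod 3) V, (∀ v ∈ U, ρ τ v = v) → (∀ v ∈ U, ρ a v ∈ U) →
    U = ⊥ ∨ ∀ v : V, ρ τ v = v → v ∈ U
  /-- the centraliser of `a` among the fixed elements -/
  T : Subgroup H
  T_eq : ∀ c : H, c ∈ T ↔ c ∈ K ∧ c * τ = τ * c ∧ c * a = a * c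
  T_cyclic : IsCyclic T
  T_free : ∀ c ∈ T, c ≠ 1 → ∀ v : V, ρ τ v = v → ρ c v = v → v = 0
  /-- fixed elements normalise `⟨a⟩` -/
  fixed_norm : ∀ c ∈ K, c * τ = τ * c → c * a * c⁻¹ ∈ Subgroup.zpowers a
  z : H
  z_mem : z ∈ K
  z_τ : z * τ = τ * z
  z_three : ∃ i : ℕ, z ^ 3 ^ i = 1
  z_moves : z * a * z⁻¹ ≠ a

/-- The conclusion: a `τ`-invariant homomorphism of `K` to an abelian group, nontrivial at `z`. -/
def Core.Conclusion {H : Type u} {V : Type v} [Group H] [AddCommGroup V] [Module (ZMod 3) V]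
    (c : Core H V) : Prop :=
  ∃ (A : Type u) (_ : CommGroup A) (f : c.K →* A),
    (∀ x : c.K, f ⟨c.τ * x * c.τ⁻¹, c.normal.conj_mem x x.2 c.τ⟩ = f x) ∧ f ⟨c.z, c.z_mem⟩ ≠ 1

end CfsgLib.Walter.Field
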