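import Cfsg.Agent.Lib.Recog.Walter.Field.CoreDef
import Cfsg.Agent.Lib.Recog.Walter.Field.Atoms
import Cfsg.Agent.Lib.Core.Cores

/-!
Owner: helper12. Walter, field part (A): the atoms under `a` and `τ`. At most one pair of atoms is fixed by
`a` and exchanged by `τ`; `a` centralises every abelian `3'`-subgroup normalised by `a` and `τ`.
-/

set_option autoImplicit false
set_option linter.unusedSectionVars false

namespace CfsgLib.Walter.Field

universe u v

namespace Core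

variable {H : Type u} {V : Type v} [Group H] [AddCommGroup V] [Module (ZMod 3) V] (c : Core H V)

/-- Conjugation of endomorphisms. -/
def cj (g : H) (r : Module.End (ZMod 3) V) : Module.End (ZMod 3) V := c.ρ g * r * c.ρ g⁻¹

/-- Fixed by `τ`. -/
def Fx : Type v := {v : V // c.ρ c.τ v = v}

theorem rho_mul (g h : H) (v : V) : c.ρ (g * h) v = c.ρ g (c.ρ h v) := by rw [map_mul]; rfl

theorem rho_inv (g : H) (v : V) : c.ρ g⁻¹ (c.ρ g v) = v := by
  rw [← rho_mul, inv_mul_cancel, map_one]; rfl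

theorem rho_eq_zero {g : H} {v : V} (h : c.ρ g v = 0) : v = 0 := by
  rw [← c.rho_inv g v, h, map_zero]

theorem cj_apply (g : H) (r : Module.End (ZMod 3) V) (v : V) :
    c.cj g r (c.ρ g v) = c.ρ g (r v) := by
  show c.ρ g (r (c.ρ g⁻¹ (c.ρ g v))) = _
  rw [rho_inv]

theorem cj_one (r : Module.End (ZMod 3) V) : c.cj 1 r = r := by simp [cj]

theorem cj_cj (g h : H) (r : Module.End (ZMod 3) V) : c.cj g (c.cj h r) = c.cj (g * h) r := by
  simp only [cj, mul_inv_rev, map_mul, mul_assoc]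

theorem cj_rho (g x : H) : c.cj g (c.ρ x) = c.ρ (g * x * g⁻¹) := by
  simp only [cj, map_mul]

theorem cj_mul (g : H) (r r' : Module.End (ZMod 3) V) : c.cj g (r * r') = c.cj g r * c.cj g r' := by
  have h2 : c.ρ g⁻¹ * c.ρ g = 1 := by rw [← map_mul, inv_mul_cancel, map_one]
  show c.ρ g * (r * r') * c.ρ g⁻¹ = c.ρ g * r * c.ρ g⁻¹ * (c.ρ g * r' * c.ρ g⁻¹)
  calc c.ρ g * (r * r') * c.ρ g⁻¹ = c.ρ g * r * 1 * r' * c.ρ g⁻¹ := by
        rw [mul_one]; simp only [mul_assoc]
    _ = c.ρ g * r * (c.ρ g⁻¹ * c.ρ g) * r' * c.ρ g⁻¹ := by rw [h2]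
    _ = _ := by simp only [mul_assoc]

theorem τ_inv : c.τ⁻¹ = c.τ := inv_eq_of_mul_eq_one_right c.τ_sq

theorem ττ (v : V) : c.ρ c.τ (c.ρ c.τ v) = v := by rw [← rho_mul, c.τ_sq, map_one]; rfl

theorem cj_τ_τ (r : Module.End (ZMod 3) V) : c.cj c.τ (c.cj c.τ r) = r := by
  rw [cj_cj, c.τ_sq, cj_one]

theorem fixed_add (v : V) : c.ρ c.τ (v + c.ρ c.τ v) = v + c.ρ c.τ v := by
  rw [map_add, ττ, add_comm]

theorem fixed_rho {g : H} (hg : g * c.τ = c.τ * g) {v : V} (hv : c.ρ c.τ v = v) :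
    c.ρ c.τ (c.ρ g v) = c.ρ g v := by
  rw [← rho_mul, ← hg, rho_mul, hv]

theorem pow_a_τ (n : ℕ) : c.a ^ n * c.τ = c.τ * c.a ^ n := Commute.pow_left c.a_τ n

theorem a_mem_T : c.a ∈ c.T := (c.T_eq _).2 ⟨c.a_mem, c.a_τ, rfl⟩

theorem a_ne_one : c.a ≠ 1 := fun h => by
  have := c.order_a
  rw [h, orderOf_one] at this
  exact c.prime_s.ne_one this.symm

theorem a_pow_s : c.a ^ c.s = 1 := by rw [← c.order_a, pow_orderOf_eq_one]

theorem eq_zero_of_add_self {v : V} (h : v + v = 0) : v = 0 := by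
  have h3 : (3 : ℕ) • v = 0 := by
    rw [← Nat.cast_smul_eq_nsmul (ZMod 3)]
    simp [show (3 : ZMod 3) = 0 from rfl]
  rwa [show (3 : ℕ) = 2 + 1 from rfl, add_nsmul, two_nsmul, h, one_nsmul, zero_add] at h3

variable [Finite H] [Finite V]

theorem odd_orderOf {g : H} (hg : g ∈ c.K) : Odd (orderOf g) := by
  have h : orderOf (⟨g, hg⟩ : c.K) ∣ Nat.card c.K := orderOf_dvd_natCard _
  rw [Subgroup.orderOf_mk] at h
  exact c.odd.of_dvd_nat h

theorem s_odd : Odd c.s := c.order_a ▸ c.odd_orderOf c.a_mem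

theorem eq_one_of_sq {g : H} (hg : g ∈ c.K) (h : g * g = 1) : g = 1 := by
  rw [← orderOf_eq_one_iff]
  have h2 : orderOf g ∣ 2 := orderOf_dvd_of_pow_eq_one (by rw [pow_two, h])
  rcases (Nat.dvd_prime Nat.prime_two).1 h2 with h1 | h1
  · exact h1
  · exact absurd (c.odd_orderOf hg) (by rw [h1]; decide)

theorem exists_sqrt {g : H} (hg : g ∈ c.K) : ∃ m : ℕ, (g ^ m) * (g ^ m) = g := by
  obtain ⟨j, hj⟩ := c.odd_orderOf hg
  refine ⟨j + 1, ?_⟩
  rw [← pow_add, show j + 1 + (j + 1) = orderOf g + 1 by omega, pow_succ, pow_orderOf_eq_one, one_mul]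

/-- An element of order `s` commuting with `τ` and `a` is a power of `a`. -/
theorem mem_zpowers_of_T {g : H} (hg : g ∈ c.T) (hgs : g ^ c.s = 1) :
    g ∈ Subgroup.zpowers c.a := by
  classical
  haveI := c.T_cyclic
  haveI : Fintype c.T := Fintype.ofFinite _
  haveI : Fact c.s.Prime := ⟨c.prime_s⟩
  -- the elements of `T` of exponent `s` are at most `s` many
  have hcard := IsCyclic.card_pow_eq_one_le (α := c.T) c.prime_s.pos
  let S : Finset c.T := (Finset.range c.s).image fun i => (⟨c.a, c.a_mem_T⟩ : c.T) ^ i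
  have hS : S = Finset.univ.filter fun x : c.T => x ^ c.s = 1 := by
    refine Finset.eq_of_subset_of_card_le ?_ ?_
    · intro x hx
      obtain ⟨i, -, rfl⟩ := Finset.mem_image.1 hx
      refine Finset.mem_filter.2 ⟨Finset.mem_univ _, ?_⟩
      rw [← pow_mul, mul_comm, pow_mul]
      rw [show (⟨c.a, c.a_mem_T⟩ : c.T) ^ c.s = 1 from Subtype.ext c.a_pow_s, one_pow]
    · refine le_trans hcard ?_
      rw [Finset.card_image_of_injOn, Finset.card_range]
      intro i hi j hj h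
      have h' : c.a ^ i = c.a ^ j := congrArg Subtype.val h
      exact pow_injOn_Iio_orderOf (by rw [c.order_a]; simpa using hi) (by rw [c.order_a]; simpa using hj) h'
  have hmem : (⟨g, hg⟩ : c.T) ∈ S := hS ▸ Finset.mem_filter.2 ⟨Finset.mem_univ _, Subtype.ext hgs⟩
  obtain ⟨i, -, hi⟩ := Finset.mem_image.1 hmem
  exact Subgroup.mem_zpowers_iff.2 ⟨i, by rw [zpow_natCast]; exact congrArg Subtype.val hi⟩

/-- A subgroup not containing `a` meets `⟨a⟩` trivially. -/
theorem eq_one_of_mem_zpowers {A : Subgroup H} (ha : c.a ∉ A) {g : H} (hg : g ∈ A)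
    (hga : g ∈ Subgroup.zpowers c.a) : g = 1 := by
  haveI : Fact c.s.Prime := ⟨c.prime_s⟩
  by_contra h1
  refine ha ?_
  have hcard : Nat.card (Subgroup.zpowers c.a) = c.s := by rw [Nat.card_zpowers, c.order_a]
  have h2 : Subgroup.zpowers (⟨g, hga⟩ : Subgroup.zpowers c.a) = ⊤ :=
    zpowers_eq_top_of_prime_card hcard (fun h => h1 (congrArg Subtype.val h))
  obtain ⟨j, hj⟩ := Subgroup.mem_zpowers_iff.1
    (h2 ▸ Subgroup.mem_top (⟨c.a, Subgroup.mem_zpowers _⟩ : Subgroup.zpowers c.a))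
  have hj' : g ^ j = c.a := congrArg Subtype.val hj
  exact hj' ▸ zpow_mem hg j

/-- An element of `s`-power order commuting with `τ` commutes with `a`. -/
theorem comm_of_fixed_pow {g : H} (hg : g ∈ c.K) (hgτ : g * c.τ = c.τ * g)
    (hgs : ∃ m, g ^ c.s ^ m = 1) : g * c.a = c.a * g := by
  haveI : Fact c.s.Prime := ⟨c.prime_s⟩
  haveI : NeZero c.s := ⟨c.prime_s.ne_zero⟩
  obtain ⟨m, hm⟩ := hgs
  obtain ⟨i, hi⟩ := mem_powers_iff_mem_zpowers.2 (c.fixed_norm g hg hgτ)
  replace hi : c.a ^ i = g * c.a * g⁻¹ := hi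
  have it : ∀ n : ℕ, g ^ n * c.a * (g ^ n)⁻¹ = c.a ^ (i ^ n) := by
    intro n
    induction n with
    | zero => simp
    | succ n ih =>
      rw [show g ^ (n + 1) * c.a * (g ^ (n + 1))⁻¹ = g * (g ^ n * c.a * (g ^ n)⁻¹) * g⁻¹ by
        rw [pow_succ']; group, ih, ← conj_pow, ← hi, ← pow_mul, pow_succ']
  have h := it (c.s ^ m)
  rw [hm, one_mul, inv_one, mul_one] at h
  have h' : c.a ^ (i ^ c.s ^ m) = c.a ^ i := by
    refine pow_eq_pow_iff_modEq.2 ((ZMod.natCast_eq_natCast_iff _ _ _).1 ?_)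
    rw [c.order_a, Nat.cast_pow, ZMod.pow_card_pow]
  rw [h'] at h
  have h2 : g * c.a * g⁻¹ = c.a := by rw [← hi, ← h]
  calc g * c.a = g * c.a * g⁻¹ * g := by group
    _ = c.a * g := by rw [h2]

section Atoms

variable {A : Subgroup H} {e : Module.End (ZMod 3) V}

theorem piece_cj {g : H} (hg : ∀ x ∈ A, g * x * g⁻¹ ∈ A) (hg' : ∀ x ∈ A, g⁻¹ * x * g ∈ A)
    (he : IsPiece c.ρ A e) : IsPiece c.ρ A (c.cj g e) := he.conj hg hg'

theorem piece_cj_τ (hτ : ∀ x ∈ A, c.τ * x * c.τ ∈ A) (he : IsPiece c.ρ A e) :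
    IsPiece c.ρ A (c.cj c.τ e) :=
  c.piece_cj (by rw [c.τ_inv]; exact hτ) (by rw [c.τ_inv]; exact hτ) he

/-- The image of a vector of a `τ`-moved atom is killed by the atom. -/
theorem apply_τ_eq_zero (hA : Good A) (hτ : ∀ x ∈ A, c.τ * x * c.τ ∈ A) (he : IsPiece c.ρ A e)
    (hne : c.cj c.τ e ≠ e) {v : V} (hv : e v = v) : e (c.ρ c.τ v) = 0 := by
  have h : c.cj c.τ e (c.ρ c.τ v) = c.ρ c.τ v := by rw [cj_apply, hv]
  rw [← h]
  have := he.orth hA (c.piece_cj_τ hτ he) (Ne.symm hne)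
  exact congrArg (fun x => x (c.ρ c.τ v)) this

/-- A vector of the fixed space attached to a nonzero vector of an atom moved by `τ`. -/
theorem add_ne_zero (hA : Good A) (hτ : ∀ x ∈ A, c.τ * x * c.τ ∈ A) (he : IsPiece c.ρ A e)
    (hne : c.cj c.τ e ≠ e) {v : V} (hv : e v = v) (h : v + c.ρ c.τ v = 0) : v = 0 := by
  have h' := congrArg e h
  rwa [map_add, map_zero, hv, c.apply_τ_eq_zero hA hτ he hne hv, add_zero] at h'

/-- At most one pair of atoms is fixed by `a` and exchanged by `τ`. -/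
theorem pair (hA : Good A) (hτ : ∀ x ∈ A, c.τ * x * c.τ ∈ A) (he : IsPiece c.ρ A e)
    {f : Module.End (ZMod 3) V} (hf : IsPiece c.ρ A f) (hea : c.cj c.a e = e) (hfa : c.cj c.a f = f)
    (hne : c.cj c.τ e ≠ e) (hnf : c.cj c.τ f ≠ f) : f = e ∨ f = c.cj c.τ e := by
  by_contra hcon
  push Not at hcon
  -- the fixed vectors in `eV + τeV`
  have span_ : ∀ g : Module.End (ZMod 3) V, IsPiece c.ρ A g → c.cj c.a g = g → c.cj c.τ g ≠ g →
      ∀ w : V, c.ρ c.τ w = w → ∃ v, g v = v ∧ v + c.ρ c.τ v = w := by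
    intro g hg hga hng
    let U : Submodule (ZMod 3) V :=
      { carrier := {w | ∃ v, g v = v ∧ v + c.ρ c.τ v = w}
        zero_mem' := ⟨0, map_zero _, by simp⟩
        add_mem' := by
          rintro _ _ ⟨v, hv, rfl⟩ ⟨v', hv', rfl⟩
          exact ⟨v + v', by rw [map_add, hv, hv'], by rw [map_add]; abel⟩
        smul_mem' := by
          rintro r _ ⟨v, hv, rfl⟩
          exact ⟨r • v, by rw [map_smul, hv], by rw [map_smul, smul_add]⟩ }
    rcases c.a_irred U (by rintro _ ⟨v, -, rfl⟩; exact c.fixed_add v) (by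
      rintro _ ⟨v, hv, rfl⟩
      refine ⟨c.ρ c.a v, ?_, ?_⟩
      · have := c.cj_apply c.a g v
        rw [hga, hv] at this
        exact this
      · rw [map_add, ← rho_mul, ← rho_mul, c.a_τ]) with hU | hU
    · exfalso
      obtain ⟨v, hv0, hv⟩ := hg.exists_apply
      have hmem : v + c.ρ c.τ v ∈ U := ⟨v, hv, rfl⟩
      rw [hU, Submodule.mem_bot] at hmem
      exact hv0 (c.add_ne_zero hA hτ hg hng hv hmem)
    · exact hU
  obtain ⟨v, hv0, hv⟩ := he.exists_apply
  obtain ⟨u, hu, huv⟩ := span_ f hf hfa hnf _ (c.fixed_add v)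
  refine hv0 (c.add_ne_zero hA hτ he hne hv ?_)
  have h := congrArg e huv
  rw [map_add, map_add, c.apply_τ_eq_zero hA hτ he hne hv, hv, add_zero] at h
  have h1 : e u = 0 := by
    rw [← hu]
    exact congrArg (fun x => x u) (he.orth hA hf (Ne.symm hcon.1))
  have h2 : e (c.ρ c.τ u) = 0 := by
    rw [show c.ρ c.τ u = c.cj c.τ f (c.ρ c.τ u) by rw [cj_apply, hu]]
    have hne' : e ≠ c.cj c.τ f := fun h => hcon.2 (by rw [h, cj_τ_τ])
    exact congrArg (fun x => x (c.ρ c.τ u)) (he.orth hA (c.piece_cj_τ hτ hf) hne')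
  rw [h1, h2, add_zero] at h
  rw [← h]; simp

theorem cj_a_pow {n : ℕ} {r : Module.End (ZMod 3) V} (h : c.cj c.a r = r) : c.cj (c.a ^ n) r = r := by
  induction n with
  | zero => rw [pow_zero, cj_one]
  | succ n ih => rw [pow_succ', ← cj_cj, ih, h]

/-- An atom moved by `a` supports no vector fixed by `τ`. -/
theorem moved (hA : Good A) (ha : ∀ x ∈ A, c.a * x * c.a⁻¹ ∈ A) (hτ : ∀ x ∈ A, c.τ * x * c.τ ∈ A)
    (he : IsPiece c.ρ A e) (hea : c.cj c.a e ≠ e) :
    c.cj c.τ e = e ∧ ∀ v, e v = v → c.ρ c.τ v = v → v = 0 := by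
  classical
  -- a nontrivial power of `a` moves `e`
  have hmove : ∀ g ∈ Subgroup.zpowers c.a, g ≠ 1 → c.cj g e ≠ e := by
    intro g hg hg1 h
    haveI : Fact c.s.Prime := ⟨c.prime_s⟩
    have hcard : Nat.card (Subgroup.zpowers c.a) = c.s := by rw [Nat.card_zpowers, c.order_a]
    have h2 : Subgroup.zpowers (⟨g, hg⟩ : Subgroup.zpowers c.a) = ⊤ :=
      zpowers_eq_top_of_prime_card hcard (fun h => hg1 (congrArg Subtype.val h))
    obtain ⟨j, hj⟩ := mem_powers_iff_mem_zpowers.2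
      (h2 ▸ Subgroup.mem_top (⟨c.a, Subgroup.mem_zpowers _⟩ : Subgroup.zpowers c.a))
    have hj' : g ^ j = c.a := congrArg Subtype.val hj
    refine hea (hj' ▸ ?_)
    clear hj hj'
    induction j with
    | zero => rw [pow_zero, cj_one]
    | succ n ih => rw [pow_succ', ← cj_cj, ih, h]
  have haA : ∀ g ∈ Subgroup.zpowers c.a, ∀ x ∈ A, g * x * g⁻¹ ∈ A := by
    intro g hg
    obtain ⟨n, rfl⟩ := mem_powers_iff_mem_zpowers.2 hg
    clear hg
    intro x hx
    induction n with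
    | zero => simpa using hx
    | succ n ih =>
      show c.a ^ (n + 1) * x * (c.a ^ (n + 1))⁻¹ ∈ A
      rw [show c.a ^ (n + 1) * x * (c.a ^ (n + 1))⁻¹ = c.a * (c.a ^ n * x * (c.a ^ n)⁻¹) * c.a⁻¹ by
        rw [pow_succ']; group]
      exact ha _ ih
  -- a fixed vector seen by `e` and by its image only
  have bound : ∀ w : V, c.ρ c.τ w = w → e w ≠ 0 →
      (∀ f, IsPiece c.ρ A f → f ≠ e → f ≠ c.cj c.τ e → f w = 0) → False := by
    intro w hw hew hsupp
    let pw : Fin c.s → H := fun i => c.a ^ (i : ℕ)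
    let Φ : (Fin c.s → ZMod 3) → c.Fx := fun l => ⟨∑ i, l i • c.ρ (pw i) w, by
      rw [map_sum]
      exact Finset.sum_congr rfl fun i _ => by rw [map_smul, c.fixed_rho (c.pow_a_τ i) hw]⟩
    have hΦ : Function.Injective Φ := by
      have key : ∀ l : Fin c.s → ZMod 3, ∀ i, e (c.ρ (pw i)⁻¹ (Φ l).1) = l i • e w := by
        intro l i
        show e (c.ρ (pw i)⁻¹ (∑ j, l j • c.ρ (pw j) w)) = _
        rw [map_sum, map_sum, Finset.sum_eq_single i]
        · rw [map_smul, map_smul, rho_inv]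
        · intro j _ hji
          rw [map_smul, map_smul, ← rho_mul]
          set g := (pw i)⁻¹ * pw j
          have hg : g ∈ Subgroup.zpowers c.a :=
            mul_mem (inv_mem (Subgroup.npow_mem_zpowers _ _)) (Subgroup.npow_mem_zpowers _ _)
          have hg1 : g ≠ 1 := fun h => hji (Fin.ext (pow_injOn_Iio_orderOf
            (by rw [c.order_a]; exact j.2) (by rw [c.order_a]; exact i.2) (inv_mul_eq_one.1 h).symm))
          have h0 : c.cj g⁻¹ e w = 0 := by
            refine hsupp _ (c.piece_cj (haA _ (inv_mem hg)) (fun x hx => by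
              rw [inv_inv]; exact haA _ hg x hx) he) (hmove _ (inv_mem hg) (inv_ne_one.2 hg1)) ?_
            intro h
            have hgK : g⁻¹ ∈ c.K := inv_mem ((Subgroup.zpowers_le.2 c.a_mem) hg)
            have hgτ : g⁻¹ * c.τ = c.τ * g⁻¹ := by
              obtain ⟨n, hn⟩ := mem_powers_iff_mem_zpowers.2 (inv_mem hg)
              rw [← hn]; exact c.pow_a_τ n
            refine hmove _ (mul_mem (inv_mem hg) (inv_mem hg))
              (fun h1 => inv_ne_one.2 hg1 (c.eq_one_of_sq hgK h1)) ?_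
            rw [← cj_cj, h, cj_cj, hgτ, ← cj_cj, h, cj_τ_τ]
          have h' := c.cj_apply g (c.cj g⁻¹ e) w
          rw [cj_cj, mul_inv_cancel, cj_one, h0, map_zero] at h'
          rw [h', smul_zero]
        · simp
      intro l l' h
      funext i
      have := key l i
      rw [h, key l' i] at this
      by_contra hne
      apply hew
      have h0 : (l' i - l i) • e w = 0 := by rw [sub_smul, this, sub_self]
      haveI : Fact (Nat.Prime 3) := ⟨Nat.prime_three⟩
      exact (smul_eq_zero.1 h0).resolve_left (sub_ne_zero.2 (Ne.symm hne))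
    haveI : Finite c.Fx := Subtype.finite
    have h3 := Nat.card_le_card_of_injective Φ hΦ
    rw [Nat.card_fun, Nat.card_fin, show Nat.card c.Fx = 3 ^ c.k from c.card_fixed] at h3
    simp only [Nat.card_eq_fintype_card, ZMod.card] at h3
    have := (Nat.pow_le_pow_iff_right (by norm_num : 1 < 3)).1 h3
    have := c.big
    omega
  by_cases hte : c.cj c.τ e = e
  · refine ⟨hte, fun v hv hvτ => ?_⟩
    by_contra hv0
    exact bound v hvτ (by rwa [hv]) fun f hf hfe _ => by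
      rw [← hv]; exact congrArg (fun x => x v) (hf.orth hA he hfe)
  · obtain ⟨v, hv0, hv⟩ := he.exists_apply
    refine (bound (v + c.ρ c.τ v) (c.fixed_add v) ?_ fun f hf hfe hfτ => ?_).elim
    · rwa [map_add, hv, c.apply_τ_eq_zero hA hτ he hte hv, add_zero]
    · rw [map_add, ← hv, show c.ρ c.τ (e v) = c.cj c.τ e (c.ρ c.τ v) by rw [cj_apply]]
      rw [show f (e v) = 0 from congrArg (fun x => x v) (hf.orth hA he hfe),
        show f (c.cj c.τ e (c.ρ c.τ v)) = 0 from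
          congrArg (fun x => x (c.ρ c.τ v)) (hf.orth hA (c.piece_cj_τ hτ he) hfτ), add_zero]

/-- An atom that carries a pair or a fixed vector has at most `3 ^ (2k)` operators. -/
theorem card_span_le (hA : Good A) (hτ : ∀ x ∈ A, c.τ * x * c.τ ∈ A) (he : IsPiece c.ρ A e)
    (h : c.cj c.τ e ≠ e ∨ ∃ v, v ≠ 0 ∧ e v = v ∧ c.ρ c.τ v = v) :
    Nat.card (Set.range fun r : ↥(span c.ρ A) => (r : Module.End (ZMod 3) V) * e) ≤ 3 ^ (2 * c.k) := by
  classical
  obtain ⟨v, hv0, hv, hvτ⟩ : ∃ v, v ≠ 0 ∧ e v = v ∧ (c.cj c.τ e = e → c.ρ c.τ v = v) := by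
    by_cases hte : c.cj c.τ e = e
    · obtain ⟨v, h1, h2, h3⟩ := h.resolve_left (fun h => h hte)
      exact ⟨v, h1, h2, fun _ => h3⟩
    · obtain ⟨v, h1, h2⟩ := he.exists_apply
      exact ⟨v, h1, h2, fun h => absurd h hte⟩
  have hτA : ∀ x ∈ A, c.τ * x * c.τ⁻¹ ∈ A := by rw [c.τ_inv]; exact hτ
  -- an element of the algebra moved by `τ` on `e`, if there is one
  obtain ⟨b, hb, hbτ⟩ : ∃ b ∈ span c.ρ A,
      (∀ r ∈ span c.ρ A, c.cj c.τ r * e = r * e) ∨ (b - c.cj c.τ b) * e ≠ 0 := by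
    by_cases hall : ∀ r ∈ span c.ρ A, c.cj c.τ r * e = r * e
    · exact ⟨1, one_mem _, Or.inl hall⟩
    · push Not at hall
      obtain ⟨b, hb, hb'⟩ := hall
      exact ⟨b, hb, Or.inr fun h => hb' (by rw [sub_mul, sub_eq_zero] at h; exact h.symm)⟩
  let S := Set.range fun r : ↥(span c.ρ A) => (r : Module.End (ZMod 3) V) * e
  let Φ : S → c.Fx × c.Fx := fun x =>
    (⟨_, c.fixed_add (x.1 v)⟩, ⟨_, c.fixed_add (b (x.1 v))⟩)
  have hΦ : Function.Injective Φ := by
    rintro ⟨x, r, rfl⟩ ⟨y, r', rfl⟩ hxy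
    refine Subtype.ext ?_
    have h1' : ((r : Module.End (ZMod 3) V) * e) v + c.ρ c.τ (((r : Module.End (ZMod 3) V) * e) v) =
        ((r' : Module.End (ZMod 3) V) * e) v + c.ρ c.τ (((r' : Module.End (ZMod 3) V) * e) v) :=
      congrArg Subtype.val (congrArg Prod.fst hxy)
    have h2' : b (((r : Module.End (ZMod 3) V) * e) v) + c.ρ c.τ (b (((r : Module.End (ZMod 3) V) * e) v)) =
        b (((r' : Module.End (ZMod 3) V) * e) v) + c.ρ c.τ (b (((r' : Module.End (ZMod 3) V) * e) v)) :=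
      congrArg Subtype.val (congrArg Prod.snd hxy)
    set d : Module.End (ZMod 3) V := (r : Module.End (ZMod 3) V) - r' with hd
    have hdm : d ∈ span c.ρ A := sub_mem r.2 r'.2
    have e1 : d v + c.ρ c.τ (d v) = 0 := by
      simp only [hd, LinearMap.sub_apply, map_sub]
      have : (r : Module.End (ZMod 3) V) v + c.ρ c.τ ((r : Module.End (ZMod 3) V) v)
          - ((r' : Module.End (ZMod 3) V) v + c.ρ c.τ ((r' : Module.End (ZMod 3) V) v)) = 0 := by
        simpa [Module.End.mul_apply, hv, sub_eq_zero] using h1'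
      rw [← this]; abel
    have e2 : b (d v) + c.ρ c.τ (b (d v)) = 0 := by
      simp only [hd, LinearMap.sub_apply, map_sub]
      have : b ((r : Module.End (ZMod 3) V) v) + c.ρ c.τ (b ((r : Module.End (ZMod 3) V) v))
          - (b ((r' : Module.End (ZMod 3) V) v) + c.ρ c.τ (b ((r' : Module.End (ZMod 3) V) v))) = 0 := by
        simpa [Module.End.mul_apply, hv, sub_eq_zero] using h2'
      rw [← this]; abel
    have hedv : e (d v) = d v := he.apply_stable hA hdm hv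
    have hdv : d v = 0 := by
      by_cases hte : c.cj c.τ e = e
      · have hd' : c.ρ c.τ (d v) = c.cj c.τ d v := by
          conv_rhs => rw [← hvτ hte]
          rw [cj_apply]
        have hd'' : c.cj c.τ d ∈ span c.ρ A := conj_mem_span hτA hdm
        rw [hd'] at e1
        have hsum : (d + c.cj c.τ d) * e = 0 := by
          rw [← zero_mul e]
          exact he.mul_eq_of_apply hA (add_mem hdm hd'') (zero_mem _) hv hv0 (by simpa using e1)
        have hbd : c.ρ c.τ (b (d v)) = c.cj c.τ b (c.cj c.τ d v) := by rw [← hd', cj_apply]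
        rw [hbd, eq_neg_of_add_eq_zero_right e1, map_neg, ← sub_eq_add_neg] at e2
        rcases hbτ with hall | hne
        · have h' := congrArg (fun x => x v) (hall d hdm)
          simp only [Module.End.mul_apply, hv] at h'
          rw [h'] at e1
          exact eq_zero_of_add_self e1
        · exact he.apply_eq_zero hA (sub_mem hb (conj_mem_span hτA hb)) hne hedv
            (by rw [LinearMap.sub_apply]; exact e2)
      · exact c.add_ne_zero hA hτ he hte hedv e1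
    show (r : Module.End (ZMod 3) V) * e = (r' : Module.End (ZMod 3) V) * e
    exact he.mul_eq_of_apply hA r.2 r'.2 hv hv0 (sub_eq_zero.1 (by simpa [hd] using hdv))
  haveI : Finite c.Fx := Subtype.finite
  have h3 := Nat.card_le_card_of_injective Φ hΦ
  rwa [Nat.card_prod, show Nat.card c.Fx = 3 ^ c.k from c.card_fixed, ← pow_add, ← two_mul] at h3

/-- Where `a` acts nontrivially on `A`, `τ` is `-1`. -/
theorem bad (hA : Good A) (ha : ∀ x ∈ A, c.a * x * c.a⁻¹ ∈ A) (hτ : ∀ x ∈ A, c.τ * x * c.τ ∈ A)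
    (he : IsPiece c.ρ A e) {x : H} (hx : x ∈ A) (hne : c.ρ (c.a * x * c.a⁻¹) * e ≠ c.ρ x * e) :
    c.cj c.τ e = e ∧ ∀ v, e v = v → c.ρ c.τ v = -v := by
  have key : c.cj c.τ e = e ∧ ∀ v, e v = v → c.ρ c.τ v = v → v = 0 := by
    by_cases hea : c.cj c.a e = e
    · have h : ¬ (c.cj c.τ e ≠ e ∨ ∃ v, v ≠ 0 ∧ e v = v ∧ c.ρ c.τ v = v) := fun h =>
        hne (he.commute_of_card hA c.prime_s c.a_pow_s ha hea (lt_of_le_of_lt
          (c.card_span_le hA hτ he h) (Nat.pow_lt_pow_right (by norm_num) c.big)) hx)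
      push Not at h
      exact ⟨h.1, fun v h1 h2 => by_contra fun h0 => h.2 v h0 h1 h2⟩
    · exact c.moved hA ha hτ he hea
  refine ⟨key.1, fun v hv => eq_neg_of_add_eq_zero_right (key.2 _ ?_ (c.fixed_add v))⟩
  have h := c.cj_apply c.τ e v
  rw [key.1, hv] at h
  rw [map_add, hv, h]

/-- **Lemma G**: `a` centralises every abelian `3'`-subgroup of `K` that it and `τ` normalise. -/
theorem comm_of_abelian (hAK : A ≤ c.K) (hA : Good A) (ha : ∀ x ∈ A, c.a * x * c.a⁻¹ ∈ A)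
    (hτ : ∀ x ∈ A, c.τ * x * c.τ ∈ A) {x : H} (hx : x ∈ A) : c.a * x = x * c.a := by
  by_cases haA : c.a ∈ A
  · exact hA.comm _ haA _ hx
  set y := c.a * x * c.a⁻¹ * x⁻¹ with hy
  have hym : y ∈ A := mul_mem (ha x hx) (inv_mem hx)
  have hτA : ∀ x ∈ A, c.τ * x * c.τ⁻¹ ∈ A := by rw [c.τ_inv]; exact hτ
  have hyτ : c.τ * y * c.τ⁻¹ = y := by
    refine c.faithful (eq_of_forall_piece hA (mem_span (hτA y hym)) (mem_span hym) fun e he => ?_)
    by_cases hbad : ∃ u ∈ A, c.ρ (c.a * u * c.a⁻¹) * e ≠ c.ρ u * e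
    · obtain ⟨u, hu, hu'⟩ := hbad
      obtain ⟨hte, hneg⟩ := c.bad hA ha hτ he hu hu'
      refine LinearMap.ext fun w => ?_
      show c.ρ (c.τ * y * c.τ⁻¹) (e w) = c.ρ y (e w)
      have hw : e (e w) = e w := congrArg (fun r => r w) he.idem
      rw [c.τ_inv, rho_mul, rho_mul, hneg _ hw, map_neg, map_neg,
        hneg _ (he.apply_stable hA (mem_span hym) hw), neg_neg]
    · push Not at hbad
      have htriv : ∀ u ∈ A, c.ρ (c.a * u * c.a⁻¹ * u⁻¹) * e = e := fun u hu => by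
        have hc : c.ρ u⁻¹ * e = e * c.ρ u⁻¹ := span_comm hA.comm (mem_span (inv_mem hu)) he.mem
        rw [map_mul, mul_assoc, hc, ← mul_assoc, hbad u hu, mul_assoc, ← hc, ← mul_assoc, ← map_mul,
          mul_inv_cancel, map_one, one_mul]
      rw [htriv x hx]
      have hu : c.τ * x * c.τ⁻¹ ∈ A := hτA x hx
      have heq : c.τ * y * c.τ⁻¹ = c.a * (c.τ * x * c.τ⁻¹) * c.a⁻¹ * (c.τ * x * c.τ⁻¹)⁻¹ := by
        have h1 : c.τ * c.a = c.a * c.τ := c.a_τ.symm
        have h2 : c.a⁻¹ * c.τ⁻¹ = c.τ⁻¹ * c.a⁻¹ := by rw [← mul_inv_rev, ← mul_inv_rev, h1]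
        calc c.τ * y * c.τ⁻¹ = (c.τ * c.a) * x * c.a⁻¹ * x⁻¹ * c.τ⁻¹ := by rw [hy]; group
          _ = (c.a * c.τ) * x * (c.a⁻¹ * c.τ⁻¹) * (c.τ * x⁻¹ * c.τ⁻¹) := by rw [h1]; group
          _ = _ := by rw [h2]; group
      rw [heq, htriv _ hu]
  have hyK : y ∈ c.K := hAK hym
  have hyτ' : y * c.τ = c.τ * y := by
    calc y * c.τ = c.τ * y * c.τ⁻¹ * c.τ := by rw [hyτ]
      _ = c.τ * y := by group
  have hya : y * c.a = c.a * y := by
    have h1 : y * c.a * y⁻¹ * c.a⁻¹ ∈ Subgroup.zpowers c.a :=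
      mul_mem (c.fixed_norm y hyK hyτ') (inv_mem (Subgroup.mem_zpowers _))
    have h2 : y * c.a * y⁻¹ * c.a⁻¹ ∈ A := by
      rw [show y * c.a * y⁻¹ * c.a⁻¹ = y * (c.a * y⁻¹ * c.a⁻¹) by group]
      exact mul_mem hym (ha _ (inv_mem hym))
    have := c.eq_one_of_mem_zpowers haA h2 h1
    calc y * c.a = y * c.a * y⁻¹ * c.a⁻¹ * (c.a * y) := by group
      _ = c.a * y := by rw [this, one_mul]
  have it : ∀ n : ℕ, c.a ^ n * x * (c.a ^ n)⁻¹ = y ^ n * x := by
    intro n
    induction n with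
    | zero => simp
    | succ n ih =>
      have hyn : c.a * y ^ n * c.a⁻¹ = y ^ n := by
        rw [((show Commute c.a y from hya.symm).pow_right n).eq, mul_inv_cancel_right]
      calc c.a ^ (n + 1) * x * (c.a ^ (n + 1))⁻¹
          = c.a * (c.a ^ n * x * (c.a ^ n)⁻¹) * c.a⁻¹ := by rw [pow_succ']; group
        _ = (c.a * y ^ n * c.a⁻¹) * (c.a * x * c.a⁻¹) := by rw [ih]; group
        _ = y ^ n * (y * x) := by rw [hyn, hy]; group
        _ = y ^ (n + 1) * x := by rw [← mul_assoc, ← pow_succ]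
  have hys : y ^ c.s = 1 := by
    have h := it c.s
    rw [c.a_pow_s, one_mul, inv_one, mul_one] at h
    exact (mul_eq_right.1 h.symm)
  have hy1 : y = 1 :=
    c.eq_one_of_mem_zpowers haA hym (c.mem_zpowers_of_T ((c.T_eq y).2 ⟨hyK, hyτ', hya⟩) hys)
  calc c.a * x = y * (x * c.a) := by rw [hy]; group
    _ = x * c.a := by rw [hy1, one_mul]

end Atoms

end Core

end CfsgLib.Walter.Field
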