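import Cfsg.Agent.Lib.Recog.Walter.Field.CoreLemmas
import Cfsg.Agent.Lib.Recog.Walter.Field.CoreClassTwo

/-!
Owner: helper12. Walter, field part (A): `a` centralises every `p`-subgroup of `K` normalised by `a` and `τ`,
`p ≠ 3`, `p ≠ s`.

A minimal counterexample `Q` has class two, `τ` inverts `Q` modulo its centre and fixes its commutator
subgroup `⟨C⟩ ≤ T`.  So `[V, C]` has dimension at most `4k`, and carries `|Q : Z(Q)| = p ^ (2d)` independent
operators, while `s ∣ p ^ (2d) - 1` and `s > 2k`.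
-/

set_option autoImplicit false
set_option linter.unusedSectionVars false

namespace CfsgLib.Walter.Field

universe u v

open Subgroup

namespace Core

variable {H : Type u} {V : Type v} [Group H] [AddCommGroup V] [Module (ZMod 3) V] (c : Core H V)
  [Finite H] [Finite V]

theorem good_zpowers {g : H} (hg : ¬ 3 ∣ orderOf g) : Good (zpowers g) := by
  refine ⟨fun x hx y hy => ?_, fun x hx h => hg (h.trans ?_)⟩
  · obtain ⟨i, rfl⟩ := mem_zpowers_iff.1 hx
    obtain ⟨j, rfl⟩ := mem_zpowers_iff.1 hy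
    exact (Commute.zpow_zpow_self g i j).eq
  · obtain ⟨i, rfl⟩ := mem_zpowers_iff.1 hx
    exact orderOf_dvd_of_mem_zpowers (zpow_mem_zpowers g i)

/-- The image of `g - 1` for an element inverted by `τ` has at most `3 ^ (2k)` vectors. -/
theorem card_range_le {g : H} (hg : g ∈ c.K) (h3 : ¬ 3 ∣ orderOf g)
    (hinv : c.τ * g * c.τ = g⁻¹) :
    Nat.card (Set.range (c.ρ g - 1 : Module.End (ZMod 3) V)) ≤ 3 ^ (2 * c.k) := by
  set r : Module.End (ZMod 3) V := c.ρ g - 1 with hr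
  have hrm : r ∈ span c.ρ (zpowers g) := sub_mem (mem_span (mem_zpowers g)) (one_mem _)
  have hτg : ∀ v, c.ρ c.τ (c.ρ g v) = c.ρ g⁻¹ (c.ρ c.τ v) := fun v => by
    rw [← rho_mul, ← rho_mul, ← hinv, mul_assoc, c.τ_sq, mul_one]
  have hτg' : ∀ v, c.ρ c.τ (c.ρ g⁻¹ v) = c.ρ g (c.ρ c.τ v) := fun v => by
    rw [← rho_mul, ← rho_mul]
    congr 2
    rw [← hinv, ← mul_assoc, ← mul_assoc, c.τ_sq, one_mul]
  have hfix : ∀ w : V, c.ρ c.τ (c.ρ g (w - c.ρ c.τ w) - c.ρ g⁻¹ (w - c.ρ c.τ w)) =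
      c.ρ g (w - c.ρ c.τ w) - c.ρ g⁻¹ (w - c.ρ c.τ w) := fun w => by
    rw [map_sub, hτg, hτg', map_sub (c.ρ c.τ) w, ττ]
    simp only [map_sub]
    abel
  let Φ : Set.range r → c.Fx × c.Fx := fun w => (⟨_, c.fixed_add w.1⟩, ⟨_, hfix w.1⟩)
  have hΦ : Function.Injective Φ := by
    rintro ⟨_, v, rfl⟩ ⟨_, v', rfl⟩ h
    refine Subtype.ext ?_
    have h1 : r v + c.ρ c.τ (r v) = r v' + c.ρ c.τ (r v') := congrArg Subtype.val (congrArg Prod.fst h)
    have h2 : c.ρ g (r v - c.ρ c.τ (r v)) - c.ρ g⁻¹ (r v - c.ρ c.τ (r v)) =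
        c.ρ g (r v' - c.ρ c.τ (r v')) - c.ρ g⁻¹ (r v' - c.ρ c.τ (r v')) :=
      congrArg Subtype.val (congrArg Prod.snd h)
    set w := r (v - v') with hw
    have e1 : w + c.ρ c.τ w = 0 := by
      rw [hw, map_sub, map_sub]
      rw [← sub_eq_zero] at h1
      rw [← h1]; abel
    have e2 : c.ρ g (w + w) = c.ρ g⁻¹ (w + w) := by
      have hneg : c.ρ c.τ w = -w := eq_neg_of_add_eq_zero_right e1
      have h' : c.ρ g (w - c.ρ c.τ w) - c.ρ g⁻¹ (w - c.ρ c.τ w) = 0 := by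
        rw [hw, map_sub r v v', map_sub (c.ρ c.τ)]
        rw [← sub_eq_zero] at h2
        rw [← h2]
        simp only [map_sub]
        abel
      rwa [hneg, sub_neg_eq_add, sub_eq_zero] at h'
    have e3 : c.ρ (g * g) (w + w) = w + w := by
      rw [rho_mul, e2, ← rho_mul, mul_inv_cancel, map_one]; rfl
    obtain ⟨m, hm⟩ := c.exists_sqrt hg
    have e4 : ∀ n : ℕ, c.ρ ((g * g) ^ n) (w + w) = w + w := by
      intro n
      induction n with
      | zero => rw [pow_zero, map_one]; rfl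
      | succ n ih => rw [pow_succ', rho_mul, ih, e3]
    have e5 := e4 m
    rw [(Commute.refl g).mul_pow, hm, map_add] at e5
    have e6 : r w = 0 := by
      refine eq_zero_of_add_self ?_
      rw [hr, LinearMap.sub_apply, Module.End.one_apply, sub_add_sub_comm, e5, sub_self]
    have e7 : w = 0 := eq_zero_of_apply_apply (good_zpowers h3) hrm e6
    rwa [hw, map_sub, sub_eq_zero] at e7
  haveI : Finite c.Fx := Subtype.finite
  have h := Nat.card_le_card_of_injective Φ hΦ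
  rwa [Nat.card_prod, show Nat.card c.Fx = 3 ^ c.k from c.card_fixed, ← pow_add, ← two_mul] at h

/-- The image of a commutator minus one lies in the sum of the images for the two factors. -/
theorem card_range_commutator_le {x y : H} {N : ℕ}
    (hx : Nat.card (Set.range (c.ρ x - 1 : Module.End (ZMod 3) V)) ≤ N)
    (hy : Nat.card (Set.range (c.ρ y - 1 : Module.End (ZMod 3) V)) ≤ N) :
    Nat.card (Set.range (c.ρ (x * y * x⁻¹ * y⁻¹) - 1 : Module.End (ZMod 3) V)) ≤ N * N := by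
  let A := Set.range (c.ρ x - 1 : Module.End (ZMod 3) V)
  let B := Set.range (c.ρ y - 1 : Module.End (ZMod 3) V)
  have key : ∀ v, ∃ a b, (c.ρ x - 1 : Module.End (ZMod 3) V) a + (c.ρ y - 1 : Module.End (ZMod 3) V) b =
      (c.ρ (x * y * x⁻¹ * y⁻¹) - 1 : Module.End (ZMod 3) V) v := fun v => by
    refine ⟨c.ρ (y * x⁻¹ * y⁻¹) v - c.ρ (x⁻¹ * y⁻¹) v, c.ρ (x⁻¹ * y⁻¹) v - c.ρ y⁻¹ v, ?_⟩
    simp only [LinearMap.sub_apply, Module.End.one_apply, map_sub, ← rho_mul]
    rw [show x * (y * x⁻¹ * y⁻¹) = x * y * x⁻¹ * y⁻¹ by group, show x * (x⁻¹ * y⁻¹) = y⁻¹ by group,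
      show y * (x⁻¹ * y⁻¹) = y * x⁻¹ * y⁻¹ by group, show y * y⁻¹ = 1 by group, map_one,
      Module.End.one_apply]
    abel
  choose a b hab using key
  refine le_trans (Nat.card_le_card_of_surjective
    (fun w : {w : A × B // ∃ v, (w.1 : V) + w.2 = (c.ρ (x * y * x⁻¹ * y⁻¹) - 1 : Module.End (ZMod 3) V) v} =>
      (⟨(w.1.1 : V) + w.1.2, by obtain ⟨v, hv⟩ := w.2; exact ⟨v, hv.symm⟩⟩ :
        Set.range (c.ρ (x * y * x⁻¹ * y⁻¹) - 1 : Module.End (ZMod 3) V))) ?_) ?_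
  · rintro ⟨_, v, rfl⟩
    exact ⟨⟨(⟨_, a v, rfl⟩, ⟨_, b v, rfl⟩), v, hab v⟩, Subtype.ext (hab v)⟩
  · refine le_trans (Nat.card_le_card_of_injective Subtype.val Subtype.val_injective) ?_
    rw [Nat.card_prod]
    exact Nat.mul_le_mul hx hy

/-- Conjugation powers of `a` against a commutator that `a` fixes. -/
theorem comm_of_comm_comm {g : H} {p : ℕ} (hp : p.Prime) (hps : p ≠ c.s)
    (hd : c.a * (c.a * g * c.a⁻¹ * g⁻¹) = c.a * g * c.a⁻¹ * g⁻¹ * c.a)
    (hpow : ∃ m, (c.a * g * c.a⁻¹ * g⁻¹) ^ p ^ m = 1) : c.a * g = g * c.a := by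
  set d := c.a * g * c.a⁻¹ * g⁻¹ with hdd
  have it : ∀ n : ℕ, c.a ^ n * g * (c.a ^ n)⁻¹ = d ^ n * g := by
    intro n
    induction n with
    | zero => simp
    | succ n ih =>
      have hdn : c.a * d ^ n * c.a⁻¹ = d ^ n := by
        rw [((show Commute c.a d from hd).pow_right n).eq, mul_inv_cancel_right]
      calc c.a ^ (n + 1) * g * (c.a ^ (n + 1))⁻¹ = c.a * (c.a ^ n * g * (c.a ^ n)⁻¹) * c.a⁻¹ := by
            rw [pow_succ']; group
        _ = (c.a * d ^ n * c.a⁻¹) * (c.a * g * c.a⁻¹) := by rw [ih]; group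
        _ = d ^ n * (d * g) := by rw [hdn, hdd]; group
        _ = d ^ (n + 1) * g := by rw [← mul_assoc, ← pow_succ]
  have hs : d ^ c.s = 1 := by
    have h := it c.s
    rw [c.a_pow_s, one_mul, inv_one, mul_one] at h
    exact mul_eq_right.1 h.symm
  obtain ⟨m, hm⟩ := hpow
  have h1 : d = 1 := orderOf_eq_one_iff.1 (Nat.eq_one_of_dvd_coprimes
    (Nat.Coprime.pow_left m ((Nat.coprime_primes hp c.prime_s).2 hps))
    (orderOf_dvd_of_pow_eq_one hm) (orderOf_dvd_of_pow_eq_one hs))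
  calc c.a * g = d * (g * c.a) := by rw [hdd]; group
    _ = g * c.a := by rw [h1, one_mul]

theorem mem_centralizer_a {g : H} : g ∈ centralizer ({c.a} : Set H) ↔ g * c.a = c.a * g :=
  mem_centralizer_singleton_iff

/-- Invariance of a subgroup under conjugation by an element. -/
theorem map_closure_le {S : Set H} {R : Subgroup H} {g : H}
    (h : ∀ x ∈ S, g * x * g⁻¹ ∈ R) : ∀ x ∈ closure S, g * x * g⁻¹ ∈ R := by
  intro x hx
  have : closure S ≤ R.comap (MulAut.conj g).toMonoidHom := (closure_le _).2 fun y hy => h y hy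
  exact this hx

section PGroup

variable {p : ℕ} [hp : Fact p.Prime]

/-- **The `p`-part**, `p ≠ 3, s`. -/
theorem comm_pgroup (hp3 : p ≠ 3) (hps : p ≠ c.s) : ∀ (n : ℕ) (Q : Subgroup H), Nat.card Q ≤ n →
    Q ≤ c.K → IsPGroup p Q → (∀ x ∈ Q, c.a * x * c.a⁻¹ ∈ Q) → (∀ x ∈ Q, c.τ * x * c.τ ∈ Q) →
    ∀ x ∈ Q, c.a * x = x * c.a := by
  classical
  intro n
  induction n with
  | zero =>
    intro Q h
    have := Nat.card_pos (α := Q)
    omega
  | succ n ih =>
  intro Q hn hQK hQp haQ hτQ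
  have hmin : ∀ R : Subgroup H, R ≤ Q → R ≠ Q → (∀ x ∈ R, c.a * x * c.a⁻¹ ∈ R) →
      (∀ x ∈ R, c.τ * x * c.τ ∈ R) → ∀ x ∈ R, c.a * x = x * c.a := by
    intro R hR hne
    refine ih R ?_ (hR.trans hQK) (hQp.to_le hR)
    have hlt : (R : Set H).ncard < (Q : Set H).ncard :=
      Set.ncard_lt_ncard (SetLike.coe_ssubset_coe.2 (lt_of_le_of_ne hR hne)) (Set.toFinite _)
    rw [← Nat.card_coe_set_eq, ← Nat.card_coe_set_eq] at hlt
    exact Nat.le_of_lt_succ (lt_of_lt_of_le hlt hn)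
  have hpow : ∀ {g : H}, g ∈ Q → ∃ m, g ^ p ^ m = 1 := fun hg => by
    obtain ⟨m, hm⟩ := hQp ⟨_, hg⟩
    exact ⟨m, congrArg Subtype.val hm⟩
  have h3 : ∀ g ∈ Q, ¬ 3 ∣ orderOf g := fun g hg h => by
    obtain ⟨m, hm⟩ := hpow hg
    exact hp3 ((Nat.prime_dvd_prime_iff_eq Nat.prime_three hp.out).1
      (Nat.prime_three.dvd_of_dvd_pow (h.trans (orderOf_dvd_of_pow_eq_one hm)))).symm
  by_contra hcon
  push Not at hcon
  obtain ⟨x₀, hx₀, hx₀'⟩ := hcon
  -- the commutators with `a` generate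
  let d : H → H := fun g => c.a * g * c.a⁻¹ * g⁻¹
  have hdQ : ∀ g ∈ Q, d g ∈ Q := fun g hg => mul_mem (haQ g hg) (inv_mem hg)
  let M : Subgroup H := closure (d '' Q)
  have hM : M = Q := by
    by_contra hne
    refine hx₀' (c.comm_of_comm_comm hp.out hps ?_ (hpow (hdQ _ hx₀)))
    refine hmin M ((closure_le _).2 (by rintro _ ⟨g, hg, rfl⟩; exact hdQ g hg)) hne
      (map_closure_le ?_) ?_ _ (subset_closure ⟨x₀, hx₀, rfl⟩)
    · rintro _ ⟨g, hg, rfl⟩
      exact subset_closure ⟨_, haQ g hg, by simp only [d]; group⟩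
    · intro x hx
      have h := map_closure_le (g := c.τ) (R := M) (S := d '' Q) ?_ x hx
      · rwa [c.τ_inv] at h
      rintro _ ⟨g, hg, rfl⟩
      refine subset_closure ⟨_, hτQ g hg, ?_⟩
      have h1 : c.τ * c.a = c.a * c.τ := c.a_τ.symm
      have h2 : c.a⁻¹ * c.τ⁻¹ = c.τ⁻¹ * c.a⁻¹ := by rw [← mul_inv_rev, ← mul_inv_rev, h1]
      show d (c.τ * g * c.τ) = c.τ * d g * c.τ⁻¹
      calc d (c.τ * g * c.τ) = c.a * c.τ * g * (c.τ⁻¹ * c.a⁻¹) * c.τ * g⁻¹ * c.τ⁻¹ := by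
            simp only [d, c.τ_inv]
            rw [mul_inv_rev, mul_inv_rev, c.τ_inv]; group
        _ = (c.τ * c.a) * g * (c.a⁻¹ * c.τ⁻¹) * c.τ * g⁻¹ * c.τ⁻¹ := by rw [h2, h1]
        _ = _ := by simp only [d]; group
  -- a normal subgroup centralised by `a` is central
  have central : ∀ z ∈ Q, (∀ g ∈ Q, c.a * (g⁻¹ * z * g) = g⁻¹ * z * g * c.a) →
      ∀ g ∈ Q, g * z = z * g := by
    intro z _ hz
    suffices Q ≤ centralizer ({z} : Set H) from fun g hg => mem_centralizer_singleton_iff.1 (this hg)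
    rw [← hM]
    refine (closure_le _).2 ?_
    rintro _ ⟨g, hg, rfl⟩
    refine mem_centralizer_singleton_iff.2 ?_
    have h0 := hz 1 (one_mem _)
    simp only [inv_one, one_mul, mul_one] at h0
    calc d g * z = c.a * g * (c.a⁻¹ * (g⁻¹ * z * g)) * g⁻¹ := by simp only [d]; group
      _ = c.a * g * (g⁻¹ * z * g * c.a⁻¹) * g⁻¹ := by
          rw [((show Commute c.a (g⁻¹ * z * g) from hz g hg).inv_left).eq]
      _ = (c.a * z) * (g * c.a⁻¹ * g⁻¹) := by group
      _ = (z * c.a) * (g * c.a⁻¹ * g⁻¹) := by rw [h0]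
      _ = z * d g := by simp only [d]; group
  -- the commutator subgroup
  have hQ' : ⁅Q, Q⁆ ≠ Q := by
    intro h
    haveI : Group.IsNilpotent Q := hQp.isNilpotent
    haveI : Nontrivial Q := ⟨⟨⟨x₀, hx₀⟩, 1, fun h => hx₀' (by
      rw [show x₀ = 1 from congrArg Subtype.val h, one_mul, mul_one])⟩⟩
    refine (Group.IsSolvable.commutator_lt_top_of_nontrivial Q).ne
      (map_injective Q.subtype_injective ?_)
    rw [map_subtype_commutator, h, ← MonoidHom.range_eq_map, range_subtype]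
  have hQ'le : ⁅Q, Q⁆ ≤ Q := commutator_le.2 fun g hg k hk =>
    mul_mem (mul_mem (mul_mem hg hk) (inv_mem hg)) (inv_mem hk)
  have hQ'inv : ∀ g : H, (∀ x ∈ Q, g * x * g⁻¹ ∈ Q) → ∀ x ∈ ⁅Q, Q⁆, g * x * g⁻¹ ∈ ⁅Q, Q⁆ := by
    intro g hg x hx
    have : ⁅Q, Q⁆ ≤ (⁅Q, Q⁆).comap (MulAut.conj g).toMonoidHom := commutator_le.2 fun u hu w hw => by
      show g * (u * w * u⁻¹ * w⁻¹) * g⁻¹ ∈ ⁅Q, Q⁆
      rw [show g * (u * w * u⁻¹ * w⁻¹) * g⁻¹ = (g * u * g⁻¹) * (g * w * g⁻¹) * (g * u * g⁻¹)⁻¹ *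
        (g * w * g⁻¹)⁻¹ by group]
      exact commutator_mem_commutator (hg u hu) (hg w hw)
    exact this hx
  have hQ'D : ∀ x ∈ ⁅Q, Q⁆, c.a * x = x * c.a := by
    refine hmin _ hQ'le hQ' (hQ'inv _ haQ) fun x hx => ?_
    have h := hQ'inv c.τ (by rw [c.τ_inv]; exact hτQ) x hx
    rwa [c.τ_inv] at h
  have hcomm : ∀ g ∈ Q, ∀ k ∈ Q, ∀ m ∈ Q, m * (g * k * g⁻¹ * k⁻¹) = g * k * g⁻¹ * k⁻¹ * m := by
    intro g hg k hk
    have hin : g * k * g⁻¹ * k⁻¹ ∈ ⁅Q, Q⁆ := commutator_mem_commutator hg hk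
    refine central _ (hQ'le hin) fun m hm => hQ'D _ ?_
    have := hQ'inv m⁻¹ (fun x hx => mul_mem (mul_mem (inv_mem hm) hx) (inv_mem (inv_mem hm))) _ hin
    rwa [inv_inv] at this
  -- the elements centralised by `a` are central
  have hZ : ∀ z ∈ Q, c.a * z = z * c.a → ∀ g ∈ Q, g * z = z * g := by
    intro z hz haz
    refine central z hz fun g hg => ?_
    rw [show g⁻¹ * z * g = g⁻¹ * z * g⁻¹⁻¹ * z⁻¹ * z by group]
    have hin : g⁻¹ * z * g⁻¹⁻¹ * z⁻¹ ∈ ⁅Q, Q⁆ := commutator_mem_commutator (inv_mem hg) hz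
    exact ((show Commute c.a _ from hQ'D _ hin).mul_right haz).eq
  have hZ' : ∀ z ∈ Q, (∀ g ∈ Q, g * z = z * g) → c.a * z = z * c.a := by
    intro z hz hzc
    let R := Q ⊓ centralizer (Q : Set H)
    have hR : ∀ x, x ∈ R ↔ x ∈ Q ∧ ∀ g ∈ Q, g * x = x * g := fun x => by
      simp [R, mem_inf, mem_centralizer_iff]
    have hne : R ≠ Q := fun h => hx₀' (c.comm_of_abelian (A := Q) hQK
      ⟨fun g hg k hk => (((hR k).1 (h ▸ hk)).2 g hg), h3⟩ haQ hτQ hx₀)
    refine hmin R inf_le_left hne ?_ ?_ z ((hR z).2 ⟨hz, hzc⟩)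
    · intro x hx
      obtain ⟨hx1, hx2⟩ := (hR x).1 hx
      refine (hR _).2 ⟨haQ x hx1, fun g hg => ?_⟩
      have hg' : c.a⁻¹ * g * c.a ∈ Q := by
        have hpow' : ∀ m : ℕ, c.a ^ m * g * (c.a ^ m)⁻¹ ∈ Q := by
          intro m
          induction m with
          | zero => simpa using hg
          | succ m ih' =>
            rw [show c.a ^ (m + 1) * g * (c.a ^ (m + 1))⁻¹ = c.a * (c.a ^ m * g * (c.a ^ m)⁻¹) * c.a⁻¹ by
              rw [pow_succ']; group]
            exact haQ _ ih'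
        have h1 : c.a ^ (c.s - 1) = c.a⁻¹ := eq_inv_of_mul_eq_one_left (by
          rw [← pow_succ, Nat.sub_add_cancel c.prime_s.one_le, c.a_pow_s])
        simpa [h1] using hpow' (c.s - 1)
      calc g * (c.a * x * c.a⁻¹) = c.a * (c.a⁻¹ * g * c.a * x) * c.a⁻¹ := by group
        _ = c.a * (x * (c.a⁻¹ * g * c.a)) * c.a⁻¹ := by rw [hx2 _ hg']
        _ = c.a * x * c.a⁻¹ * g := by group
    · intro x hx
      obtain ⟨hx1, hx2⟩ := (hR x).1 hx
      refine (hR _).2 ⟨hτQ x hx1, fun g hg => ?_⟩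
      have h1 := hx2 _ (hτQ g hg)
      calc g * (c.τ * x * c.τ) = c.τ * c.τ * g * c.τ * x * c.τ := by rw [c.τ_sq]; group
        _ = c.τ * (c.τ * g * c.τ * x) * c.τ := by group
        _ = c.τ * (x * (c.τ * g * c.τ)) * c.τ := by rw [h1]
        _ = c.τ * x * c.τ * g * (c.τ * c.τ) := by group
        _ = _ := by rw [c.τ_sq, mul_one]
  let Z : H → Prop := fun z => z ∈ Q ∧ c.a * z = z * c.a
  have hZmul : ∀ {u w}, Z u → Z w → Z (u * w) := fun hu hw =>
    ⟨mul_mem hu.1 hw.1, ((show Commute c.a _ from hu.2).mul_right hw.2).eq⟩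
  have hZinv : ∀ {u}, Z u → Z u⁻¹ := fun hu =>
    ⟨inv_mem hu.1, (show Commute c.a _ from hu.2).inv_right.eq⟩
  have hZc : ∀ {u}, Z u → ∀ g ∈ Q, g * u = u * g := fun hu => hZ _ hu.1 hu.2
  have hττ : ∀ g : H, c.τ * (c.τ * g * c.τ) * c.τ = g := fun g => by
    calc c.τ * (c.τ * g * c.τ) * c.τ = (c.τ * c.τ) * g * (c.τ * c.τ) := by group
      _ = g := by rw [c.τ_sq, one_mul, mul_one]
  have hτinv : ∀ g : H, (c.τ * g * c.τ)⁻¹ = c.τ * g⁻¹ * c.τ := fun g => by
    rw [mul_inv_rev, mul_inv_rev, c.τ_inv, mul_assoc]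
  have hτmul : ∀ g k : H, c.τ * (g * k) * c.τ = (c.τ * g * c.τ) * (c.τ * k * c.τ) := fun g k => by
    calc c.τ * (g * k) * c.τ = c.τ * g * 1 * k * c.τ := by group
      _ = c.τ * g * (c.τ * c.τ) * k * c.τ := by rw [c.τ_sq]
      _ = _ := by group
  -- `τ` has no fixed point on `Q / Z`
  have hplus : ∀ g ∈ Q, Z (c.τ * g * c.τ * g⁻¹) → Z g := by
    let Pp : Subgroup H :=
      { carrier := {g | g ∈ Q ∧ Z (c.τ * g * c.τ * g⁻¹)}
        one_mem' := ⟨one_mem _, by rw [mul_one, c.τ_sq, inv_one, mul_one]; exact ⟨one_mem _, by simp⟩⟩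
        mul_mem' := fun {g k} hg hk => ⟨mul_mem hg.1 hk.1, by
          have h : c.τ * (g * k) * c.τ * (g * k)⁻¹ =
              (c.τ * g * c.τ * g⁻¹) * (c.τ * k * c.τ * k⁻¹) := by
            rw [hτmul]
            calc c.τ * g * c.τ * (c.τ * k * c.τ) * (g * k)⁻¹
                = c.τ * g * c.τ * (c.τ * k * c.τ * k⁻¹) * g⁻¹ := by group
              _ = c.τ * g * c.τ * (g⁻¹ * (c.τ * k * c.τ * k⁻¹)) := by
                  rw [hZc hk.2 g⁻¹ (inv_mem hg.1), mul_assoc]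
              _ = _ := by group
          rw [h]; exact hZmul hg.2 hk.2⟩
        inv_mem' := fun {g} hg => ⟨inv_mem hg.1, by
          have hi := hZinv hg.2
          have h : c.τ * g⁻¹ * c.τ * g⁻¹⁻¹ = (c.τ * g * c.τ * g⁻¹)⁻¹ := by
            rw [inv_inv]
            calc c.τ * g⁻¹ * c.τ * g = g⁻¹ * (g * (c.τ * g * c.τ)⁻¹) * g := by rw [hτinv]; group
              _ = g⁻¹ * (c.τ * g * c.τ * g⁻¹)⁻¹ * g := by group
              _ = _ := by rw [hZc hi g⁻¹ (inv_mem hg.1), inv_mul_cancel_right]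
          rw [h]; exact hi⟩ }
    have hPQ : Pp ≤ Q := fun g hg => hg.1
    have haPp : ∀ x ∈ Pp, c.a * x * c.a⁻¹ ∈ Pp := fun x hx => ⟨haQ x hx.1, by
      have h : c.τ * (c.a * x * c.a⁻¹) * c.τ * (c.a * x * c.a⁻¹)⁻¹ =
          c.a * (c.τ * x * c.τ * x⁻¹) * c.a⁻¹ := by
        have h1 : c.τ * c.a = c.a * c.τ := c.a_τ.symm
        have h2 : c.a⁻¹ * c.τ = c.τ * c.a⁻¹ := (show Commute c.a c.τ from c.a_τ).inv_left.eq
        calc c.τ * (c.a * x * c.a⁻¹) * c.τ * (c.a * x * c.a⁻¹)⁻¹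
            = (c.τ * c.a) * x * (c.a⁻¹ * c.τ) * c.a * x⁻¹ * c.a⁻¹ := by group
          _ = _ := by rw [h1, h2]; group
      rw [h, hx.2.2, mul_inv_cancel_right]; exact hx.2⟩
    have hτPp : ∀ x ∈ Pp, c.τ * x * c.τ ∈ Pp := fun x hx => ⟨hτQ x hx.1, by
      rw [hττ, show x * (c.τ * x * c.τ)⁻¹ = (c.τ * x * c.τ * x⁻¹)⁻¹ by group]
      exact hZinv hx.2⟩
    have hne : Pp ≠ Q := by
      intro h
      refine hx₀' ?_
      have hz : Z (c.τ * x₀ * c.τ * x₀⁻¹) := (h.symm ▸ hx₀ : x₀ ∈ Pp).2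
      set z := c.τ * x₀ * c.τ * x₀⁻¹ with hzdef
      clear_value z
      obtain ⟨m, hm⟩ := c.exists_sqrt (hQK hz.1)
      have hcx : c.τ * x₀ * c.τ = z * x₀ := by rw [hzdef]; group
      have hzτ : c.τ * z * c.τ = z⁻¹ := by
        rw [hzdef, hτmul, hττ, ← hτinv]; group
      have hwτ : c.τ * z ^ m * c.τ = (z ^ m)⁻¹ := by
        rw [← inv_pow, ← hzτ]
        conv_lhs => rw [← c.τ_inv]; arg 1; arg 1; rw [c.τ_inv]
        rw [show c.τ * z * c.τ = c.τ * z * c.τ⁻¹ by rw [c.τ_inv], conj_pow, c.τ_inv]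
      set w := z ^ m * x₀ with hw
      have hwQ : w ∈ Q := mul_mem (pow_mem hz.1 m) hx₀
      have hwfix : c.τ * w * c.τ = w := by
        rw [hw, hτmul, hwτ, hcx]
        calc (z ^ m)⁻¹ * (z * x₀) = (z ^ m)⁻¹ * (z ^ m * z ^ m) * x₀ := by rw [hm, mul_assoc]
          _ = _ := by group
      have hwτ' : w * c.τ = c.τ * w := by
        calc w * c.τ = c.τ * w * c.τ * c.τ := by rw [hwfix]
          _ = c.τ * w := by rw [mul_assoc _ c.τ c.τ, c.τ_sq, mul_one]
      have haQ' : c.a ∉ Q := fun h => by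
        obtain ⟨i, hi⟩ := hpow h
        exact hps ((Nat.prime_dvd_prime_iff_eq c.prime_s hp.out).1
          (c.prime_s.dvd_of_dvd_pow (c.order_a ▸ orderOf_dvd_of_pow_eq_one hi))).symm
      have h1 : w * c.a * w⁻¹ * c.a⁻¹ = 1 := c.eq_one_of_mem_zpowers haQ'
        (by rw [show w * c.a * w⁻¹ * c.a⁻¹ = w * (c.a * w⁻¹ * c.a⁻¹) by group]
            exact mul_mem hwQ (haQ _ (inv_mem hwQ)))
        (mul_mem (c.fixed_norm w (hQK hwQ) hwτ') (inv_mem (mem_zpowers _)))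
      have haw : c.a * w = w * c.a := by
        calc c.a * w = (w * c.a * w⁻¹ * c.a⁻¹) * (c.a * w) := by rw [h1, one_mul]
          _ = w * c.a := by group
      have hzm : Commute c.a (z ^ m) := (show Commute c.a z from hz.2).pow_right m
      have : x₀ = (z ^ m)⁻¹ * w := by rw [hw]; group
      rw [this]
      exact (hzm.inv_right.mul_right haw).eq
    exact fun g hg h => ⟨hg, hmin Pp hPQ hne haPp hτPp g ⟨hg, h⟩⟩
  have hminus : ∀ g ∈ Q, Z (g * (c.τ * g * c.τ)) := fun g hg => by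
    refine hplus _ (mul_mem hg (hτQ g hg)) ?_
    rw [hτmul, hττ, show c.τ * g * c.τ * g * (g * (c.τ * g * c.τ))⁻¹ =
      c.τ * g * c.τ * g * (c.τ * g * c.τ)⁻¹ * g⁻¹ by group]
    exact ⟨mul_mem (mul_mem (mul_mem (hτQ g hg) hg) (inv_mem (hτQ g hg))) (inv_mem hg),
      hQ'D _ (commutator_mem_commutator (hτQ g hg) hg)⟩
  -- `τ` fixes the commutators
  have hτc : ∀ g ∈ Q, ∀ k ∈ Q, c.τ * (g * k * g⁻¹ * k⁻¹) * c.τ = g * k * g⁻¹ * k⁻¹ := by
    intro g hg k hk
    set C := g * k * g⁻¹ * k⁻¹ with hC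
    obtain ⟨u, hu, hgu⟩ : ∃ u, Z u ∧ c.τ * g * c.τ = g⁻¹ * u :=
      ⟨_, hminus g hg, by group⟩
    obtain ⟨w, hw, hkw⟩ : ∃ w, Z w ∧ c.τ * k * c.τ = k⁻¹ * w :=
      ⟨_, hminus k hk, by group⟩
    rw [hτmul, hτmul, hτmul, ← hτinv g, ← hτinv k, hgu, hkw]
    have e1 : g⁻¹ * u * (k⁻¹ * w) * (g⁻¹ * u)⁻¹ * (k⁻¹ * w)⁻¹ = g⁻¹ * k⁻¹ * g * k := by
      calc g⁻¹ * u * (k⁻¹ * w) * (g⁻¹ * u)⁻¹ * (k⁻¹ * w)⁻¹
          = g⁻¹ * (u * k⁻¹) * (w * u⁻¹) * g * w⁻¹ * k := by group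
        _ = g⁻¹ * k⁻¹ * u * (u⁻¹ * w) * g * w⁻¹ * k := by
            rw [← hZc hu k⁻¹ (inv_mem hk), hZc (hZinv hu) w hw.1]; group
        _ = g⁻¹ * k⁻¹ * (w * g) * w⁻¹ * k := by group
        _ = g⁻¹ * k⁻¹ * g * k := by rw [← hZc hw g hg]; group
    have hcC : (k * g) * C = C * (k * g) := hcomm g hg k hk (k * g) (mul_mem hk hg)
    rw [e1, show g⁻¹ * k⁻¹ * g * k = (k * g)⁻¹ * (C * (k * g)) by rw [hC]; group, ← hcC,
      inv_mul_cancel_left]
  have hCT : ∀ g ∈ Q, ∀ k ∈ Q, g * k * g⁻¹ * k⁻¹ ∈ c.T := fun g hg k hk => by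
    refine (c.T_eq _).2 ⟨hQK (mul_mem (mul_mem (mul_mem hg hk) (inv_mem hg)) (inv_mem hk)), ?_,
      (hQ'D _ (commutator_mem_commutator hg hk)).symm⟩
    conv_lhs => rw [← hτc g hg k hk]
    rw [mul_assoc _ c.τ c.τ, c.τ_sq, mul_one]
  -- the quotient by the centre
  let N : Subgroup Q := center Q
  have hN : ∀ g : Q, g ∈ N ↔ Z g := fun g => by
    rw [mem_center_iff]
    exact ⟨fun h => ⟨g.2, hZ' _ g.2 fun k hk => congrArg Subtype.val (h ⟨k, hk⟩)⟩,
      fun h k => Subtype.ext (hZc h k k.2)⟩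
  -- commutators have exponent `p`
  have hexp : ∀ g ∈ Q, ∀ k ∈ Q, (g * k * g⁻¹ * k⁻¹) ^ p = 1 := by
    have hgp : ∀ g ∈ Q, Z (g ^ p) := by
      let S : Set H := (fun g => g ^ p) '' Q ∪ {z | Z z}
      let P : Subgroup H := closure S
      have hPQ : P ≤ Q := (closure_le _).2 (by
        rintro _ (⟨g, hg, rfl⟩ | hz)
        · exact pow_mem hg p
        · exact hz.1)
      have hQcard : Nontrivial (Q ⧸ N) := by
        refine Finite.one_lt_card_iff_nontrivial.1 (Nat.one_lt_iff_ne_zero_and_ne_one.2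
          ⟨Nat.card_pos.ne', fun h => hx₀' ?_⟩)
        rw [← index_eq_card, index_eq_one] at h
        exact ((hN ⟨x₀, hx₀⟩).1 (h ▸ mem_top _)).2
      have hne : P ≠ Q := by
        intro h
        let ε : Q ⧸ N → Q ⧸ N := fun q => q ^ p
        haveI hcc : ∀ q q' : Q ⧸ N, Commute q q' := fun q q' => by
          obtain ⟨g, rfl⟩ := QuotientGroup.mk_surjective q
          obtain ⟨k, rfl⟩ := QuotientGroup.mk_surjective q'
          refine QuotientGroup.eq.2 ((hN _).2 ?_)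
          show Z (((g * k)⁻¹ * (k * g) : Q) : H)
          have e : ((g * k)⁻¹ * (k * g) : Q) = k⁻¹ * g⁻¹ * (k⁻¹)⁻¹ * (g⁻¹)⁻¹ := by group
          rw [e]
          exact ⟨SetLike.coe_mem _, hQ'D _ (commutator_mem_commutator (inv_mem k.2) (inv_mem g.2))⟩
        let R : Subgroup (Q ⧸ N) :=
          { carrier := Set.range ε
            one_mem' := ⟨1, one_pow p⟩
            mul_mem' := by rintro _ _ ⟨u, rfl⟩ ⟨w, rfl⟩; exact ⟨u * w, (hcc u w).mul_pow p⟩
            inv_mem' := by rintro _ ⟨u, rfl⟩; exact ⟨u⁻¹, inv_pow u p⟩ }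
        have hsurj : Function.Surjective ε := by
          have hle : P ≤ (R.comap (QuotientGroup.mk' N)).map Q.subtype := (closure_le _).2 (by
            rintro y (⟨g, hg, rfl⟩ | (hz : Z y))
            · exact ⟨⟨g, hg⟩ ^ p, ⟨QuotientGroup.mk' N ⟨g, hg⟩, (map_pow (QuotientGroup.mk' N) _ p).symm⟩, rfl⟩
            · refine ⟨⟨_, hz.1⟩, ⟨1, ?_⟩, rfl⟩
              show (1 : Q ⧸ N) ^ p = _
              rw [one_pow]
              exact ((QuotientGroup.eq_one_iff _).2 ((hN _).2 hz)).symm)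
          intro q
          obtain ⟨g, rfl⟩ := QuotientGroup.mk_surjective q
          obtain ⟨g', hg', e⟩ := hle (h.symm ▸ g.2 : (g : H) ∈ P)
          rw [← Subtype.ext (show (g' : H) = g from e)]
          exact hg'
        have hinj := Finite.injective_iff_surjective.2 hsurj
        obtain ⟨q, hq⟩ := exists_prime_orderOf_dvd_card' (G := Q ⧸ N) p (by
          obtain ⟨j, hj⟩ := (hQp.to_quotient N).exists_card_eq
          rw [hj]
          refine dvd_pow_self p fun hj0 => ?_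
          rw [hj0, pow_zero] at hj
          exact (Finite.one_lt_card_iff_nontrivial.2 hQcard).ne' hj)
        have : q = 1 := hinj (show q ^ p = 1 ^ p by rw [one_pow, ← hq, pow_orderOf_eq_one])
        rw [this, orderOf_one] at hq
        exact hp.out.ne_one hq.symm
      have haP : ∀ x ∈ P, c.a * x * c.a⁻¹ ∈ P := map_closure_le (by
        rintro _ (⟨g, hg, rfl⟩ | hz)
        · exact subset_closure (Or.inl ⟨_, haQ g hg, conj_pow⟩)
        · exact subset_closure (Or.inr (by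
            show Z _
            rw [show c.a * _ = _ * c.a from hz.2, mul_inv_cancel_right]; exact hz)))
      have hτP : ∀ x ∈ P, c.τ * x * c.τ ∈ P := by
        intro x hx
        have h := map_closure_le (g := c.τ) (R := P) (S := S) ?_ x hx
        · rwa [c.τ_inv] at h
        rintro y (⟨g, hg, rfl⟩ | hz)
        · exact subset_closure (Or.inl ⟨_, by rw [c.τ_inv]; exact hτQ g hg, conj_pow⟩)
        · refine subset_closure (Or.inr ?_)
          show Z _
          rw [c.τ_inv]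
          refine ⟨hτQ y hz.1, ?_⟩
          calc c.a * (c.τ * y * c.τ) = (c.a * c.τ) * y * c.τ := by group
            _ = c.τ * (c.a * y) * c.τ := by rw [c.a_τ]; group
            _ = c.τ * y * (c.a * c.τ) := by rw [hz.2]; group
            _ = _ := by rw [c.a_τ]; group
      exact fun g hg => ⟨pow_mem hg p, hmin P hPQ hne haP hτP _ (subset_closure (Or.inl ⟨g, hg, rfl⟩))⟩
    intro g hg k hk
    set C := g * k * g⁻¹ * k⁻¹ with hC
    have it : ∀ i : ℕ, g ^ i * k * (g ^ i)⁻¹ = C ^ i * k := by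
      intro i
      induction i with
      | zero => simp
      | succ i ihi =>
        calc g ^ (i + 1) * k * (g ^ (i + 1))⁻¹ = g * (g ^ i * k * (g ^ i)⁻¹) * g⁻¹ := by
              rw [pow_succ']; group
          _ = (g * C ^ i) * k * g⁻¹ := by rw [ihi]; group
          _ = (C ^ i * g) * k * g⁻¹ := by
              rw [((show Commute g C from hcomm g hg k hk g hg).pow_right i).eq]
          _ = C ^ (i + 1) * k := by rw [pow_succ]; simp only [hC]; group
    have h := it p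
    rw [← hZc (hgp g hg) k hk, mul_inv_cancel_right] at h
    exact mul_eq_right.1 h.symm
  -- two inverted elements with a nontrivial commutator
  obtain ⟨g₀, hg₀, k₀, hk₀, hgk⟩ : ∃ g ∈ Q, ∃ k ∈ Q, g * k ≠ k * g := by
    by_contra h
    push Not at h
    exact hx₀' (c.comm_of_abelian hQK ⟨h, h3⟩ haQ hτQ hx₀)
  let u : H := g₀⁻¹ * (c.τ * g₀ * c.τ)
  let w : H := k₀⁻¹ * (c.τ * k₀ * c.τ)
  have huQ : u ∈ Q := mul_mem (inv_mem hg₀) (hτQ _ hg₀)
  have hwQ : w ∈ Q := mul_mem (inv_mem hk₀) (hτQ _ hk₀)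
  have hinv : ∀ g : H, c.τ * (g⁻¹ * (c.τ * g * c.τ)) * c.τ = (g⁻¹ * (c.τ * g * c.τ))⁻¹ := fun g => by
    rw [hτmul, hττ, ← hτinv]; group
  set C := u * w * u⁻¹ * w⁻¹ with hCdef
  have hC1 : C ≠ 1 := by
    intro h
    have huw : Commute u w := by
      calc u * w = C * (w * u) := by rw [hCdef]; group
        _ = w * u := by rw [h, one_mul]
    obtain ⟨a', ha', hu⟩ : ∃ z, Z z ∧ u = (g₀ * g₀)⁻¹ * z := ⟨_, hminus g₀ hg₀, by simp only [u]; group⟩
    obtain ⟨b', hb', hw⟩ : ∃ z, Z z ∧ w = (k₀ * k₀)⁻¹ * z := ⟨_, hminus k₀ hk₀, by simp only [w]; group⟩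
    have hu2 : u * a'⁻¹ = (g₀ * g₀)⁻¹ := by rw [hu]; group
    have hw2 : w * b'⁻¹ = (k₀ * k₀)⁻¹ := by rw [hw]; group
    have c1 : Commute (g₀ * g₀)⁻¹ (k₀ * k₀)⁻¹ := by
      rw [← hu2, ← hw2]
      exact (huw.mul_right (hZc (hZinv hb') u huQ)).mul_left
        (Commute.symm (hZc (hZinv ha') _ (mul_mem hwQ (hZinv hb').1)))
    obtain ⟨i, hi⟩ := c.exists_sqrt (hQK hg₀)
    obtain ⟨j, hj⟩ := c.exists_sqrt (hQK hk₀)
    refine hgk ?_
    rw [← hi, ← hj, ← (Commute.refl g₀).mul_pow, ← (Commute.refl k₀).mul_pow]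
    have := (c1.inv_inv).pow_pow i j
    simp only [inv_inv] at this
    exact this.eq
  have hCp : orderOf C = p := orderOf_eq_prime (hexp u huQ w hwQ) hC1
  have hCQ : C ∈ Q := mul_mem (mul_mem (mul_mem huQ hwQ) (inv_mem huQ)) (inv_mem hwQ)
  have hcyc : ∀ g ∈ Q, ∀ k ∈ Q, g * k * g⁻¹ * k⁻¹ ∈ zpowers C := by
    intro g hg k hk
    haveI := c.T_cyclic
    obtain ⟨i, hi⟩ := mem_zpowers_iff.1 (mem_zpowers_of_cyclic (C := (⟨C, hCT u huQ w hwQ⟩ : c.T))
      (g := ⟨_, hCT g hg k hk⟩) (by rw [orderOf_mk]; exact hCp) (Subtype.ext (hexp g hg k hk)))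
    exact mem_zpowers_iff.2 ⟨i, congrArg Subtype.val hi⟩
  -- an atom of `⟨C⟩` moved by `C`
  have hgoodC : Good (zpowers C) := good_zpowers (h3 C hCQ)
  obtain ⟨e, he, heC⟩ : ∃ e, IsPiece c.ρ (zpowers C) e ∧ c.ρ C * e ≠ e := by
    by_contra h
    push Not at h
    exact hC1 (c.faithful ((eq_of_forall_piece hgoodC (mem_span (mem_zpowers C)) (one_mem _)
      (fun e he => by rw [h e he, one_mul])).trans (map_one c.ρ).symm))
  have hQe : ∀ g ∈ Q, ∀ r ∈ span c.ρ (zpowers C), c.ρ g * r = r * c.ρ g := by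
    intro g hg r hr
    have hle : span c.ρ (zpowers C) ≤ Subalgebra.centralizer (ZMod 3) {c.ρ g} := by
      refine Algebra.adjoin_le ?_
      rintro _ ⟨x, hx, rfl⟩
      obtain ⟨i, rfl⟩ := mem_zpowers_iff.1 hx
      rw [SetLike.mem_coe, Subalgebra.mem_centralizer_iff]
      rintro _ rfl
      rw [← map_mul, ← map_mul,
        ((show Commute g C from hcomm u huQ w hwQ g hg).zpow_right i).eq]
    exact (Subalgebra.mem_centralizer_iff (ZMod 3)).1 (hle hr) _ rfl
  -- the size of the atom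
  let W : Submodule (ZMod 3) V := LinearMap.range e
  have hW : ∀ v ∈ W, e v = v := by
    rintro _ ⟨v, rfl⟩
    exact congrArg (fun r => r v) he.idem
  have hWk : Nat.card W ≤ 3 ^ (4 * c.k) := by
    let r : Module.End (ZMod 3) V := c.ρ C - 1
    have hr : r ∈ span c.ρ (zpowers C) := sub_mem (mem_span (mem_zpowers C)) (one_mem _)
    have hre : r * e ≠ 0 := fun h => heC (by rwa [sub_mul, one_mul, sub_eq_zero] at h)
    let f : W → W := fun v => ⟨r v, ⟨r v, he.apply_stable hgoodC hr (hW v v.2)⟩⟩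
    have hf : Function.Injective f := fun v v' h => by
      refine Subtype.ext (sub_eq_zero.1 ?_)
      refine he.apply_eq_zero hgoodC hr hre (by rw [map_sub, hW v v.2, hW v' v'.2]) ?_
      rw [map_sub, sub_eq_zero]
      exact congrArg Subtype.val h
    have hsurj := Finite.surjective_of_injective hf
    have h1 : Nat.card W ≤ Nat.card (Set.range r) := by
      refine Nat.card_le_card_of_injective (fun v => ⟨v.1, ?_⟩) fun v v' h =>
        Subtype.ext (by simpa using h)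
      obtain ⟨v', hv'⟩ := hsurj v
      exact ⟨v'.1, congrArg Subtype.val hv'⟩
    refine h1.trans ((c.card_range_commutator_le
      (c.card_range_le (hQK huQ) (h3 u huQ) (hinv g₀)) (c.card_range_le (hQK hwQ) (h3 w hwQ) (hinv k₀))).trans ?_)
    rw [← pow_add, show 2 * c.k + 2 * c.k = 4 * c.k by ring]
  -- independence of coset representatives
  have hdist : ∀ i j : Q ⧸ N, i ≠ j → ∃ h ∈ Q,
      h * (i.out : H) * h⁻¹ * (i.out : H)⁻¹ ≠ h * (j.out : H) * h⁻¹ * (j.out : H)⁻¹ := by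
    intro i j hij
    by_contra hcon'
    push Not at hcon'
    refine hij ?_
    rw [← QuotientGroup.out_eq' i, ← QuotientGroup.out_eq' j]
    refine QuotientGroup.eq.2 (mem_center_iff.2 fun h => Subtype.ext ?_)
    show (h : H) * ((i.out : H)⁻¹ * j.out) = (i.out : H)⁻¹ * j.out * h
    set gi : H := (i.out : H) with hgi
    set gj : H := (j.out : H) with hgj
    set Ci := (h : H) * gi * (h : H)⁻¹ * gi⁻¹ with hCi
    have h1 := hcon' h h.2
    rw [← hCi] at h1
    have h2 : Ci⁻¹ * Ci = 1 := inv_mul_cancel _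
    calc (h : H) * (gi⁻¹ * gj)
        = (Ci * gi)⁻¹ * ((h : H) * gj * (h : H)⁻¹ * gj⁻¹ * gj) * h := by rw [hCi]; group
      _ = (Ci * gi)⁻¹ * (Ci * gj) * h := by rw [← h1]
      _ = _ := by group
  have indep : ∀ S : Finset (Q ⧸ N), ∀ r : Q ⧸ N → Module.End (ZMod 3) V,
      (∀ i, r i ∈ span c.ρ (zpowers C)) → (∑ i ∈ S, r i * c.ρ (i.out : H)) * e = 0 →
      ∀ i ∈ S, r i * e = 0 := by
    intro S
    induction S using Finset.strongInduction with
    | _ S ihS =>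
    intro r hr hsum
    by_cases hS : ∀ i ∈ S, r i * e = 0
    · exact hS
    push Not at hS
    obtain ⟨i₀, hi₀, hri₀⟩ := hS
    have hother : ∀ j ∈ S.erase i₀, r j * e = 0 := by
      intro j hj
      obtain ⟨h, hh, hne⟩ := hdist j i₀ (Finset.ne_of_mem_erase hj)
      let κ : Q ⧸ N → Module.End (ZMod 3) V := fun i => c.ρ (h * (i.out : H) * h⁻¹ * (i.out : H)⁻¹)
      have hκ : ∀ i, κ i ∈ span c.ρ (zpowers C) := fun i => mem_span (hcyc h hh _ i.out.2)
      let r' : Q ⧸ N → Module.End (ZMod 3) V := fun i => r i * (κ i - κ i₀)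
      have hr' : ∀ i, r' i ∈ span c.ρ (zpowers C) := fun i => mul_mem (hr i) (sub_mem (hκ i) (hκ i₀))
      have hh' : c.ρ h * c.ρ h⁻¹ = 1 := by rw [← map_mul, mul_inv_cancel, map_one]
      have hh'' : c.ρ h⁻¹ * c.ρ h = 1 := by rw [← map_mul, inv_mul_cancel, map_one]
      have e1 : (∑ i ∈ S, r i * κ i * c.ρ (i.out : H)) * e = 0 := by
        have : (∑ i ∈ S, r i * κ i * c.ρ (i.out : H)) =
            c.ρ h * (∑ i ∈ S, r i * c.ρ (i.out : H)) * c.ρ h⁻¹ := by
          rw [Finset.mul_sum, Finset.sum_mul]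
          refine Finset.sum_congr rfl fun i _ => ?_
          rw [← mul_assoc (c.ρ h), hQe h hh _ (hr i)]
          simp only [mul_assoc, κ, ← map_mul]
          congr 2
          group
        rw [this, mul_assoc, hQe h⁻¹ (inv_mem hh) e he.mem, ← mul_assoc, mul_assoc (c.ρ h), hsum,
          mul_zero, zero_mul]
      have e2 : (∑ i ∈ S, r i * κ i₀ * c.ρ (i.out : H)) * e = 0 := by
        have : (∑ i ∈ S, r i * κ i₀ * c.ρ (i.out : H)) = κ i₀ * ∑ i ∈ S, r i * c.ρ (i.out : H) := by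
          rw [Finset.mul_sum]
          exact Finset.sum_congr rfl fun i _ => by
            rw [span_comm hgoodC.comm (hr i) (hκ i₀), mul_assoc]
        rw [this, mul_assoc, hsum, mul_zero]
      have e3 : (∑ i ∈ S.erase i₀, r' i * c.ρ (i.out : H)) * e = 0 := by
        rw [Finset.sum_erase _ (by simp [r'])]
        simp only [r', mul_sub, sub_mul, Finset.sum_sub_distrib]
        rw [e1, e2, sub_zero]
      have h0 := ihS _ (Finset.erase_ssubset hi₀) r' hr' e3 j hj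
      have hne' : (κ j - κ i₀) * e ≠ 0 := by
        intro heq
        rw [sub_mul, sub_eq_zero] at heq
        set x := h * (j.out : H) * h⁻¹ * (j.out : H)⁻¹
        set y := h * (i₀.out : H) * h⁻¹ * (i₀.out : H)⁻¹
        have hd : y⁻¹ * x ∈ zpowers C := mul_mem (inv_mem (hcyc h hh _ i₀.out.2)) (hcyc h hh _ j.out.2)
        have hde : c.ρ (y⁻¹ * x) * e = e := by
          rw [map_mul, mul_assoc, heq, ← mul_assoc, ← map_mul, inv_mul_cancel, map_one, one_mul]
        have hd1 : (⟨y⁻¹ * x, hd⟩ : zpowers C) ≠ 1 := fun h1 =>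
          hne (inv_mul_eq_one.1 (congrArg Subtype.val h1)).symm
        have htop := zpowers_eq_top_of_prime_card (p := p) (by rw [Nat.card_zpowers, hCp]) hd1
        obtain ⟨i, hi⟩ := mem_powers_iff_mem_zpowers.2
          (htop ▸ mem_top (⟨C, mem_zpowers C⟩ : zpowers C))
        have hi' : (y⁻¹ * x) ^ i = C := congrArg Subtype.val hi
        refine heC (hi' ▸ ?_)
        clear hi hi'
        induction i with
        | zero => rw [pow_zero, map_one, one_mul]
        | succ i ihi => rw [pow_succ, map_mul, mul_assoc, hde, ihi]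
      refine LinearMap.ext fun v => ?_
      show r j (e v) = 0
      have hev : e (e v) = e v := congrArg (fun x => x v) he.idem
      refine he.apply_eq_zero hgoodC (sub_mem (hκ j) (hκ i₀)) hne' (he.apply_stable hgoodC (hr j) hev) ?_
      have h0' : (r j * (κ j - κ i₀)) * e = 0 := h0
      rw [span_comm hgoodC.comm (hr j) (sub_mem (hκ j) (hκ i₀))] at h0'
      exact congrArg (fun x => x v) h0'
    refine absurd ?_ hri₀
    rw [Finset.sum_mul, Finset.sum_eq_single i₀] at hsum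
    · rw [mul_assoc, hQe _ i₀.out.2 e he.mem, ← mul_assoc] at hsum
      calc r i₀ * e = r i₀ * e * (c.ρ (i₀.out : H) * c.ρ (i₀.out : H)⁻¹) := by
            rw [← map_mul, mul_inv_cancel, map_one, mul_one]
        _ = 0 := by rw [← mul_assoc, hsum, zero_mul]
    · intro j hj hjne
      rw [mul_assoc, hQe _ j.out.2 e he.mem, ← mul_assoc,
        hother j (Finset.mem_erase.2 ⟨hjne, hj⟩), zero_mul]
    · intro h; exact absurd hi₀ h
  haveI : Fintype (Q ⧸ N) := Fintype.ofFinite _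
  let L : Q ⧸ N → (W →ₗ[ZMod 3] W) := fun i =>
    LinearMap.restrict (c.ρ (i.out : H)) (p := W) (q := W) fun v hv => ⟨c.ρ (i.out : H) v, by
      have h := congrArg (fun x => x v) (hQe _ i.out.2 e he.mem)
      simp only [Module.End.mul_apply] at h
      rw [← h, hW v hv]⟩
  let Φ : (Q ⧸ N → ZMod 3) → (W →ₗ[ZMod 3] W) := fun l => ∑ i, l i • L i
  have hΦ : Function.Injective Φ := by
    intro l l' hll
    funext i
    have h0 : (∑ j, algebraMap (ZMod 3) (Module.End (ZMod 3) V) (l j - l' j) * c.ρ (j.out : H)) * e = 0 := by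
      refine LinearMap.ext fun v => ?_
      have h' := congrArg (fun f : W →ₗ[ZMod 3] W => (f ⟨e v, ⟨v, rfl⟩⟩ : V)) hll
      simp only [Φ, L, LinearMap.coe_sum, Finset.sum_apply, Submodule.coe_sum, LinearMap.smul_apply,
        Submodule.coe_smul, LinearMap.restrict_coe_apply] at h'
      simp only [Module.End.mul_apply, LinearMap.coe_sum, Finset.sum_apply,
        Module.algebraMap_end_apply, sub_smul, Finset.sum_sub_distrib, LinearMap.zero_apply]
      exact sub_eq_zero.2 h'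
    have h1 := indep Finset.univ _ (fun j => Subalgebra.algebraMap_mem _ _) h0 i (Finset.mem_univ i)
    by_contra hne
    obtain ⟨v, hv0, hv⟩ := he.exists_apply
    have h2 := congrArg (fun x => x v) h1
    simp only [Module.End.mul_apply, Module.algebraMap_end_apply, LinearMap.zero_apply, hv] at h2
    haveI : Fact (Nat.Prime 3) := ⟨Nat.prime_three⟩
    exact hv0 ((smul_eq_zero.1 h2).resolve_left (sub_ne_zero.2 hne))
  haveI : Fact (Nat.Prime 3) := ⟨Nat.prime_three⟩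
  haveI : FiniteDimensional (ZMod 3) W := Module.Finite.of_finite
  haveI : Finite (W →ₗ[ZMod 3] W) := Finite.of_injective _ DFunLike.coe_injective
  have hbound := Nat.card_le_card_of_injective Φ hΦ
  rw [Nat.card_fun, Module.natCard_eq_pow_finrank (K := ZMod 3) (V := W →ₗ[ZMod 3] W),
    Module.finrank_linearMap] at hbound
  simp only [Nat.card_eq_fintype_card, ZMod.card] at hbound
  rw [Module.natCard_eq_pow_finrank (K := ZMod 3) (V := W)] at hWk
  simp only [Nat.card_eq_fintype_card, ZMod.card] at hWk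
  have hdimle := (Nat.pow_le_pow_iff_right (by norm_num : 1 < 3)).1 hWk
  have hidxle := (Nat.pow_le_pow_iff_right (by norm_num : 1 < 3)).1 hbound
  -- the index of the centre
  obtain ⟨D, hD⟩ := index_center_sq (p := p) (Nat.card Q) Q le_rfl ⟨C, hCQ⟩
    ((hN _).2 ⟨hCQ, hQ'D _ (commutator_mem_commutator huQ hwQ)⟩) (by rw [orderOf_mk]; exact hCp)
    fun g k => by
      obtain ⟨i, hi⟩ := mem_zpowers_iff.1 (hcyc g g.2 k k.2)
      exact mem_zpowers_iff.2 ⟨i, Subtype.ext hi⟩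
  have hsq : (p ^ D) ^ 2 ≤ (4 * c.k) * (4 * c.k) := by
    rw [← hD, index_eq_card, Nat.card_eq_fintype_card]
    exact hidxle.trans (Nat.mul_le_mul hdimle hdimle)
  have hple : p ^ D ≤ 4 * c.k := Nat.mul_self_le_mul_self_iff.1 (by rwa [pow_two] at hsq)
  -- counting fixed points of `a`
  haveI : Fintype Q := Fintype.ofFinite _
  let σ : Function.End Q := fun x => ⟨c.a * x * c.a⁻¹, haQ x x.2⟩
  haveI : Fact c.s.Prime := ⟨c.prime_s⟩
  have hσ : σ ^ c.s ^ 1 = 1 := by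
    have hit : ∀ (i : ℕ) (x : Q), ((σ ^ i) x : H) = c.a ^ i * x * (c.a ^ i)⁻¹ := by
      intro i
      induction i with
      | zero => intro x; rw [pow_zero]; show (x : H) = _; simp
      | succ i ihi =>
        intro x
        rw [pow_succ']
        show c.a * ((σ ^ i) x : H) * c.a⁻¹ = _
        rw [ihi, pow_succ']; group
    funext x
    refine Subtype.ext ?_
    rw [pow_one, hit, c.a_pow_s]
    simp
    rfl
  have hmod := Equiv.Perm.card_fixedPoints_modEq (p := c.s) (n := 1) hσ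
  have hfix : Function.fixedPoints σ = (N : Set Q) := by
    ext x
    rw [SetLike.mem_coe, hN]
    refine ⟨fun h => ⟨x.2, ?_⟩, fun h => Subtype.ext ?_⟩
    · have h' : c.a * x * c.a⁻¹ = x := congrArg Subtype.val h
      exact mul_inv_eq_iff_eq_mul.1 h'
    · show c.a * x * c.a⁻¹ = x
      rw [h.2, mul_inv_cancel_right]
  rw [← Nat.card_eq_fintype_card, ← Nat.card_eq_fintype_card, hfix] at hmod
  have hmul := N.card_mul_index
  rw [hD] at hmul
  have hcop : Nat.Coprime (c.s) (Nat.card N) := by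
    obtain ⟨j, hj⟩ := (hQp.to_subgroup N).exists_card_eq
    rw [hj]
    exact Nat.Coprime.pow_right _ ((Nat.coprime_primes c.prime_s hp.out).2 hps.symm)
  have hone : (((p ^ D) ^ 2 : ℕ) : ZMod c.s) = 1 := by
    have h1 : (Nat.card Q : ZMod c.s) = (Nat.card N : ZMod c.s) :=
      (ZMod.natCast_eq_natCast_iff _ _ _).2 hmod
    rw [← hmul, Nat.cast_mul] at h1
    have h2 : (Nat.card N : ZMod c.s) ≠ 0 := fun h => by
      rw [ZMod.natCast_eq_zero_iff] at h
      exact c.prime_s.ne_one (Nat.eq_one_of_dvd_coprimes hcop dvd_rfl h)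
    exact (mul_right_eq_self₀.1 h1).resolve_right h2
  rw [Nat.cast_pow] at hone
  have hD0 : D ≠ 0 := by
    rintro rfl
    rw [pow_zero, one_pow, index_eq_one] at hD
    exact hx₀' ((hN ⟨x₀, hx₀⟩).1 ((show N = ⊤ from hD).symm ▸ mem_top _)).2
  have hp2 : 3 ≤ p := by
    rcases hp.out.eq_two_or_odd with h | h
    · exact absurd (c.odd_orderOf (hQK hCQ)) (by rw [hCp, h]; decide)
    · have := hp.out.two_le
      omega
  have hpD : 3 ≤ p ^ D := hp2.trans (Nat.le_self_pow hD0 p)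
  have hodd : Odd (p ^ D) := Odd.pow (hp.out.odd_of_ne_two (by omega))
  obtain ⟨o, ho⟩ := hodd
  obtain ⟨so, hso⟩ := c.s_odd
  have hbig := c.big
  rcases sq_eq_one_iff.1 hone with h1 | h1
  · have h2 : ((p ^ D - 1 : ℕ) : ZMod c.s) = 0 := by
      rw [Nat.cast_sub (by omega), h1, Nat.cast_one, sub_self]
    obtain ⟨t, ht⟩ := (ZMod.natCast_eq_zero_iff _ _).1 h2
    rcases t with _ | _ | t
    · omega
    · omega
    · rw [Nat.mul_add, Nat.mul_add] at ht
      omega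
  · have h2 : ((p ^ D + 1 : ℕ) : ZMod c.s) = 0 := by
      rw [Nat.cast_add, h1, Nat.cast_one]; ring
    obtain ⟨t, ht⟩ := (ZMod.natCast_eq_zero_iff _ _).1 h2
    rcases t with _ | _ | t
    · omega
    · omega
    · rw [Nat.mul_add, Nat.mul_add] at ht
      omega

end PGroup

end Core

end CfsgLib.Walter.Field
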