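import Mathlib

/-!
Owner: helper22. Corestriction of a central extension: an invariant alternating form on an abelian trivial
intersection subgroup gives a central extension with the kernel inside the commutator subgroup
(section E of `notes/walter_field_helper22.md`).
-/

set_option autoImplicit false
set_option linter.all false
set_option maxHeartbeats 400000

namespace CfsgLib.Recog.Walter.FieldCorestrict

open Subgroup
open scoped commutatorElement

universe u

variable {X : Type u} [Group X] {A : Type} [AddCommGroup A]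

/-- a normalised 2-cocycle with values in `A`, the action being trivial -/
structure Cocycle (X : Type u) [Group X] (A : Type) [AddCommGroup A] where
  c : X → X → A
  one_left : ∀ x, c 1 x = 0
  one_right : ∀ x, c x 1 = 0
  assoc : ∀ x y z, c x y + c (x * y) z = c y z + c x (y * z)

/-- the extension of a cocycle -/
@[ext] structure Ext (σ : Cocycle X A) where
  a : A
  x : X

variable (σ : Cocycle X A)

instance : Mul (Ext σ) := ⟨fun u v => ⟨u.a + v.a + σ.c u.x v.x, u.x * v.x⟩⟩
instance : One (Ext σ) := ⟨⟨0, 1⟩⟩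
instance : Inv (Ext σ) := ⟨fun u => ⟨-u.a - σ.c u.x⁻¹ u.x, u.x⁻¹⟩⟩

theorem Ext.mul_a (u v : Ext σ) : (u * v).a = u.a + v.a + σ.c u.x v.x := rfl
theorem Ext.mul_x (u v : Ext σ) : (u * v).x = u.x * v.x := rfl

instance : Group (Ext σ) :=
  Group.ofLeftAxioms
    (fun u v w => Ext.ext (by
      simp only [Ext.mul_a, Ext.mul_x]
      calc u.a + v.a + σ.c u.x v.x + w.a + σ.c (u.x * v.x) w.x
          = u.a + v.a + w.a + (σ.c u.x v.x + σ.c (u.x * v.x) w.x) := by abel
        _ = u.a + v.a + w.a + (σ.c v.x w.x + σ.c u.x (v.x * w.x)) := by rw [σ.assoc]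
        _ = _ := by abel) (mul_assoc _ _ _))
    (fun u => Ext.ext (by show 0 + u.a + σ.c 1 u.x = u.a; rw [σ.one_left, zero_add, add_zero]) (one_mul _))
    (fun u => Ext.ext (by show -u.a - σ.c u.x⁻¹ u.x + u.a + σ.c u.x⁻¹ u.x = 0; abel) (inv_mul_cancel _))

instance [Finite X] [Finite A] : Finite (Ext σ) :=
  Finite.of_injective (fun u => (u.a, u.x)) fun u v e => Ext.ext (congrArg Prod.fst e) (congrArg Prod.snd e)

/-- the projection -/
def Ext.proj : Ext σ →* X where
  toFun u := u.x
  map_one' := rfl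
  map_mul' _ _ := rfl

variable [Finite X] (P : Subgroup X) (p : ℕ) [Fact p.Prime]

/-- the central extension corestricted from an invariant alternating form -/
theorem exists_extension (hp2 : p ≠ 2) (hcomm : ∀ x ∈ P, ∀ y ∈ P, x * y = y * x)
    (hTI : ∀ g, g ∉ normalizer (P : Set X) → ∀ x ∈ P, g * x * g⁻¹ ∈ P → x = 1) (β : P → P → ZMod p)
    (hadd_l : ∀ x y z, β (x * y) z = β x z + β y z) (hadd_r : ∀ x y z, β x (y * z) = β x y + β x z)
    (halt : ∀ x, β x x = 0)
    (hinv : ∀ g ∈ normalizer (P : Set X), ∀ x y x' y' : P, (x' : X) = g * x * g⁻¹ → (y' : X) = g * y * g⁻¹ →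
      β x' y' = β x y)
    (hidx : ¬ p ∣ P.relIndex (normalizer (P : Set X))) (hne : ∃ x y, β x y ≠ 0) :
    ∃ (C : Type u) (_ : Group C) (_ : Finite C) (π : C →* X) (f : C), Function.Surjective π ∧
      π.ker = zpowers f ∧ orderOf f = p ∧ (∀ g, g * f = f * g) ∧ f ∈ commutator C := by
  classical
  haveI : Fintype (X ⧸ P) := Fintype.ofFinite _
  have h2 : (2 : ZMod p) ≠ 0 := by
    intro h
    have : p ∣ 2 := (ZMod.natCast_eq_zero_iff 2 p).1 (by exact_mod_cast h)
    exact hp2 ((Nat.prime_dvd_prime_iff_eq Fact.out Nat.prime_two).1 this)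
  have hone_l : ∀ z, β 1 z = 0 := fun z => by
    have h := hadd_l 1 1 z
    rw [one_mul] at h
    exact left_eq_add.1 h
  have hone_r : ∀ z, β z 1 = 0 := fun z => by
    have h := hadd_r z 1 1
    rw [one_mul] at h
    exact left_eq_add.1 h
  have hanti : ∀ x y, β y x = -β x y := fun x y => by
    have h := halt (x * y)
    rw [hadd_l, hadd_r, hadd_r, halt, halt, zero_add, add_zero] at h
    exact eq_neg_of_add_eq_zero_right h
  set α : P → P → ZMod p := fun x y => (2 : ZMod p)⁻¹ * β x y with hα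
  -- the adapted section
  let rep : X ⧸ P → X ⧸ P := fun ω => (Quotient.mk (MulAction.orbitRel P (X ⧸ P)) ω).out
  have hrep : ∀ ω, ∃ x : P, x • rep ω = ω := fun ω => by
    have h : ω ∈ MulAction.orbit P (rep ω) :=
      MulAction.orbitRel_apply.1 (Quotient.exact (Quotient.out_eq (Quotient.mk (MulAction.orbitRel P (X ⧸ P)) ω)).symm)
    exact h
  have hrep_smul : ∀ (y : P) ω, rep (y • ω) = rep ω := fun y ω => by
    show Quotient.out _ = Quotient.out _
    rw [Quotient.sound (MulAction.orbitRel_apply.2 (MulAction.mem_orbit ω y) : (MulAction.orbitRel P (X ⧸ P)) _ _)]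
  choose xr hxr using hrep
  have hsm : ∀ (a : P) (g : X), a • (QuotientGroup.mk g : X ⧸ P) = QuotientGroup.mk ((a : X) * g) := fun _ _ => rfl
  let s : X ⧸ P → X := fun ω => (xr ω : X) * (rep ω).out
  have hs : ∀ ω, (QuotientGroup.mk (s ω) : X ⧸ P) = ω := fun ω => by
    conv_rhs => rw [← hxr ω, ← QuotientGroup.out_eq' (rep ω), hsm]
  have hn : ∀ g ω, (s (g • ω))⁻¹ * g * s ω ∈ P := fun g ω => by
    rw [mul_assoc, ← QuotientGroup.eq, hs]
    conv_lhs => rw [← hs ω]
    rfl
  let n : X → X ⧸ P → P := fun g ω => ⟨_, hn g ω⟩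
  have hn_mul : ∀ g h ω, n (g * h) ω = n g (h • ω) * n h ω := fun g h ω => Subtype.ext (by
    show (s ((g * h) • ω))⁻¹ * (g * h) * s ω =
      (s (g • h • ω))⁻¹ * g * s (h • ω) * ((s (h • ω))⁻¹ * h * s ω)
    rw [mul_smul]; group)
  have hn_one : ∀ ω, n 1 ω = 1 := fun ω => Subtype.ext (by
    show (s ((1 : X) • ω))⁻¹ * 1 * s ω = 1
    rw [one_smul]; group)
  let σ : Cocycle X (ZMod p) :=
    { c := fun g h => ∑ ω, α (n g (h • ω)) (n h ω)
      one_left := fun g => Finset.sum_eq_zero fun ω _ => by simp [hα, hn_one, hone_l]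
      one_right := fun g => Finset.sum_eq_zero fun ω _ => by simp [hα, hn_one, hone_r]
      assoc := fun g h k => by
        have e1 : ∑ ω, α (n g (h • ω)) (n h ω) = ∑ ω, α (n g (h • k • ω)) (n h (k • ω)) :=
          (Equiv.sum_comp (MulAction.toPerm k) fun ω => α (n g (h • ω)) (n h ω)).symm
        rw [e1, ← Finset.sum_add_distrib, ← Finset.sum_add_distrib]
        refine Finset.sum_congr rfl fun ω _ => ?_
        rw [hn_mul g h, hn_mul h k, mul_smul]
        simp only [hα, hadd_l, hadd_r]
        ring }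
  -- the commutator of two lifts
  have hδ : ∀ x y : P, σ.c x y - σ.c y x = (P.relIndex (normalizer (P : Set X)) : ZMod p) * β x y := by
    intro x y
    set N := normalizer (P : Set X) with hN
    have hfree : ∀ (z : P) ω, s ω ∉ N → n z ω = 1 := by
      intro z ω hω
      have hg : (rep ω).out ∉ N := fun h => hω (mul_mem (Subgroup.le_normalizer (xr ω).2) h)
      have huniq : ∀ a b : P, a • rep ω = b • rep ω → a = b := by
        intro a b e
        rw [← QuotientGroup.out_eq' (rep ω), hsm, hsm, QuotientGroup.eq] at e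
        rw [show ((a : X) * (rep ω).out)⁻¹ * ((b : X) * (rep ω).out) =
          (rep ω).out⁻¹ * ((a : X)⁻¹ * b) * (rep ω).out⁻¹⁻¹ by group] at e
        refine Subtype.ext (inv_mul_eq_one.1 ?_)
        exact hTI _ (fun h => hg (inv_mem_iff.1 h)) _ (P.mul_mem (P.inv_mem a.2) b.2) e
      have e : xr ((z : X) • ω) = z * xr ω := by
        refine huniq _ _ ?_
        have h1 := hxr ((z : X) • ω)
        rw [show rep ((z : X) • ω) = rep ω from hrep_smul z ω] at h1
        rw [h1, mul_smul, hxr ω]
        rfl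
      refine Subtype.ext ?_
      show (s ((z : X) • ω))⁻¹ * z * s ω = 1
      simp only [s, e, show rep ((z : X) • ω) = rep ω from hrep_smul z ω]
      push_cast; group
    have hfix : ∀ (z : P) ω, s ω ∈ N → (z : X) • ω = ω ∧ (n z ω : X) = (s ω)⁻¹ * z * s ω := by
      intro z ω hω
      have e : (z : X) • ω = ω := by
        rw [← hs ω, MulAction.Quotient.smul_mk, QuotientGroup.eq, smul_eq_mul,
          show ((z : X) * s ω)⁻¹ * s ω = ((s ω)⁻¹ * z * (s ω)⁻¹⁻¹)⁻¹ by group]
        exact P.inv_mem ((mem_normalizer_iff.1 (N.inv_mem hω) z).1 z.2)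
      exact ⟨e, by show (s ((z : X) • ω))⁻¹ * z * s ω = _; rw [e]⟩
    show (∑ ω, α (n x ((y : X) • ω)) (n y ω)) - (∑ ω, α (n y ((x : X) • ω)) (n x ω)) = _
    rw [← Finset.sum_sub_distrib]
    have hterm : ∀ ω, α (n x ((y : X) • ω)) (n y ω) - α (n y ((x : X) • ω)) (n x ω) =
        if s ω ∈ N then β x y else 0 := by
      intro ω
      split_ifs with hω
      · obtain ⟨ey, hy⟩ := hfix y ω hω
        obtain ⟨ex, hx⟩ := hfix x ω hω
        rw [ey, ex]
        have hb : β (n x ω) (n y ω) = β x y := hinv ((s ω)⁻¹) (N.inv_mem hω) x y _ _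
          (by rw [hx, inv_inv]) (by rw [hy, inv_inv])
        simp only [hα, hanti (n x ω) (n y ω), hb]
        field_simp
        ring
      · simp [hfree y ω hω, hfree x ω hω, hα, hone_r]
    rw [Finset.sum_congr rfl fun ω _ => hterm ω, Finset.sum_ite, Finset.sum_const, Finset.sum_const_zero,
      add_zero, nsmul_eq_mul]
    congr 2
    rw [← Fintype.card_subtype, ← Nat.card_eq_fintype_card, Subgroup.relIndex, Subgroup.index_eq_card]
    let F : N ⧸ P.subgroupOf N → {ω : X ⧸ P // s ω ∈ N} :=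
      Quotient.lift (fun g => ⟨QuotientGroup.mk (g : X), by
        have h := QuotientGroup.eq.1 (hs (QuotientGroup.mk (g : X)))
        have h2 := N.mul_mem g.2 (N.inv_mem (Subgroup.le_normalizer h))
        rwa [show (g : X) * ((s (QuotientGroup.mk (g : X)))⁻¹ * g)⁻¹ = s (QuotientGroup.mk (g : X)) by group] at h2⟩)
        fun a b e => Subtype.ext (QuotientGroup.eq.2 (by
          have := QuotientGroup.leftRel_apply.1 e
          rw [mem_subgroupOf] at this
          simpa using this))
    refine (Nat.card_eq_of_bijective F ⟨?_, ?_⟩).symm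
    · intro a b
      induction a using QuotientGroup.induction_on with
      | H a => induction b using QuotientGroup.induction_on with
        | H b =>
          intro e
          refine QuotientGroup.eq.2 (mem_subgroupOf.2 ?_)
          have := QuotientGroup.eq.1 (congrArg Subtype.val e)
          simpa using this
    · rintro ⟨ω, hω⟩
      exact ⟨QuotientGroup.mk ⟨s ω, hω⟩, Subtype.ext (hs ω)⟩
  obtain ⟨x, y, hxy⟩ := hne
  set f : Ext σ := ⟨1, 1⟩ with hfdef
  have hf0 : ∀ k : ℕ, f ^ k = ⟨(k : ZMod p), 1⟩ := by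
    intro k
    induction k with
    | zero => rw [pow_zero]; exact Ext.ext (show (0 : ZMod p) = ((0 : ℕ) : ZMod p) by simp) rfl
    | succ k ih =>
      rw [pow_succ, ih]
      exact Ext.ext (by show (k : ZMod p) + 1 + σ.c 1 1 = _; rw [σ.one_left, add_zero, Nat.cast_succ]) (one_mul 1)
  have hord : orderOf f = p := by
    refine orderOf_eq_prime ?_ fun e => one_ne_zero (congrArg Ext.a e)
    rw [hf0, ZMod.natCast_self]
    rfl
  have hcen : ∀ g : Ext σ, g * f = f * g := fun g => Ext.ext
    (by show g.a + 1 + σ.c g.x 1 = 1 + g.a + σ.c 1 g.x; rw [σ.one_left, σ.one_right]; ring)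
    ((mul_one _).trans (one_mul _).symm)
  have hker : (Ext.proj σ).ker = zpowers f := by
    refine le_antisymm (fun g hg => ?_) (zpowers_le.2 rfl)
    have hgx : g.x = 1 := hg
    have : g = f ^ g.a.val := by rw [hf0]; exact Ext.ext (by rw [ZMod.natCast_zmod_val]) hgx
    rw [this]
    exact pow_mem (mem_zpowers f) _
  refine ⟨Ext σ, inferInstance, inferInstance, Ext.proj σ, f, fun g => ⟨⟨0, g⟩, rfl⟩, hker, hord, hcen, ?_⟩
  set u : Ext σ := ⟨0, x⟩
  set v : Ext σ := ⟨0, y⟩
  set d := σ.c x y - σ.c y x with hd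
  have hd0 : d ≠ 0 := by
    rw [hd, hδ]
    exact mul_ne_zero (fun h => hidx ((ZMod.natCast_eq_zero_iff _ _).1 h)) hxy
  have huv : u * v = f ^ d.val * (v * u) := by
    rw [hf0, ZMod.natCast_zmod_val]
    refine Ext.ext ?_ ?_
    · show 0 + 0 + σ.c x y = d + (0 + 0 + σ.c y x) + σ.c 1 _
      rw [σ.one_left, hd]; ring
    · show (x : X) * y = 1 * ((y : X) * x)
      rw [one_mul, hcomm _ x.2 _ y.2]
  have hmem : f ^ d.val ∈ commutator (Ext σ) := by
    have h : ⁅u, v⁆ ∈ commutator (Ext σ) := Subgroup.commutator_mem_commutator (mem_top u) (mem_top v)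
    rwa [commutatorElement_def, huv, show f ^ d.val * (v * u) * u⁻¹ * v⁻¹ = f ^ d.val by group] at h
  have hcop : Nat.Coprime (d.val) (orderOf f) := by
    rw [hord, Nat.coprime_comm, (Fact.out : p.Prime).coprime_iff_not_dvd]
    intro h
    exact hd0 (by rw [← ZMod.natCast_zmod_val d]; exact (ZMod.natCast_eq_zero_iff _ _).2 h)
  obtain ⟨k, hk⟩ := exists_pow_eq_self_of_coprime hcop
  rw [← hk]
  exact pow_mem hmem k

end CfsgLib.Recog.Walter.FieldCorestrict
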