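import Cfsg.Agent.Lib.Recog.Walter.Defs

/-!
Owner: helper12. The field part of Walter's theorem: interface
(notes/walter_field_helper12.md).
-/

set_option autoImplicit false

namespace CfsgLib.Walter

open Subgroup

universe u

/-- In a group of Janko–Ree type the centralizer of an involution has no field automorphisms. -/
def FieldTrivial : Prop :=
  ∀ (G : Type u) [Group G] [Finite G], IsJRType G → ∀ t : G, orderOf t = 2 → ∀ E : Subgroup G,
    Cfsg.IsInternalDirectProduct (zpowers t) E (centralizer ({t} : Set G)) →
    ∀ (F : Type) [Field F] [Fintype F], 5 ≤ Fintype.card F →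
      (Fintype.card F % 8 = 3 ∨ Fintype.card F % 8 = 5) →
      ∀ N : Subgroup ↥E, N.Normal → Nonempty (↥N ≃* Matrix.ProjectiveSpecialLinearGroup (Fin 2) F) →
        centralizer (N : Set ↥E) = ⊥ → N = ⊤

end CfsgLib.Walter
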