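import Cfsg.Agent.Lib.Recog.Walter.Field.CaseDef
import Cfsg.Agent.Lib.Recog.Walter.Field.Assembly

/-!
Owner: helper12. Walter, field part: `FieldTrivial`, the list and the consumers S0506, S0993 from the remaining
inputs.
-/

set_option autoImplicit false

namespace CfsgLib.Walter.Field

universe u

/-- **The field part** from its four cases. -/
theorem fieldTrivial_of_cases (h5 : StepFive.{u}) (h3 : StepThree.{u}) (hc : StepChar.{u}) (hb : StepBig.{u}) :
    FieldTrivial.{u} :=
  fieldTrivial_of_steps (primeStep_of_cases h5 h3 hc hb)

/-- **The list** from the structure theorem and the cases. -/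
theorem walterList_of_cases (hS : StructureTheorem.{u}) (h5 : StepFive.{u}) (h3 : StepThree.{u})
    (hc : StepChar.{u}) (hb : StepBig.{u}) : WalterList.{u} :=
  walterList_of hS (fieldTrivial_of_cases h5 h3 hc hb)

end CfsgLib.Walter.Field
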