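import Cfsg.Agent.Lib.Recog.Walter.Field.Galois
import Cfsg.Agent.Lib.Recog.Walter.Sections.JR
import Cfsg.Agent.Lib.Fusion.Bicyclic.Small

/-!
Owner: helper21. Walter, field part: the normalizer of a Sylow 2-subgroup and the field automorphisms.

* `Galois.exists_sylow`: a Sylow 2-subgroup `S ∋ t` of order eight centralized by `Φ`;
* `Galois.mem_centralizer`: `C(S) = S × Φ`;
* `Galois.normalizer_le`: `N(S)` centralizes `Φ`;
* `Galois.no_fusion`: `g f g⁻¹ ∈ ⟨f⟩` forces `g f g⁻¹ = f` for `f ∈ Φ`;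
* `Galois.exists_conj`: two involutions commuting with `f ∈ Φ` are conjugate by an element commuting with `f`.
-/

set_option autoImplicit false
set_option linter.style.haveILetI false
set_option linter.unusedSectionVars false

namespace CfsgLib.Walter.Field

open Subgroup
open CfsgLib.Walter.Sections (Loc exists_loc_of_jr jr_card jr_sq jr_setting)
open CfsgLib.Signalizer (involution_sq involution_ne_one orderOf_eq_two_of)

universe u

variable {G : Type u} [Group G] [Finite G] {t : G} {E L : Subgroup G} {F : Type} [Field F] [Fintype F]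
  {h : Setting t E L F} {Φ : Subgroup G} {s₁ s₂ : G}

namespace Galois

variable (g : Galois h Φ s₁ s₂)
include g

theorem odd_card : Odd (Nat.card Φ) := g.card ▸ h.odd_n

theorem odd_order {f : G} (hf : f ∈ Φ) : Odd (orderOf f) :=
  g.odd_card.of_dvd_nat (Subgroup.orderOf_dvd_natCard _ hf)

theorem comm_t {f : G} (hf : f ∈ Φ) : f * t = t * f := h.comm (g.le hf)

theorem comm_Φ {a b : G} (ha : a ∈ Φ) (hb : b ∈ Φ) : a * b = b * a := by
  haveI := g.cyclic
  exact congrArg Subtype.val (IsCyclic.commGroup.mul_comm (⟨a, ha⟩ : Φ) ⟨b, hb⟩)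

/-- A Sylow 2-subgroup through `t` and the four-group. -/
theorem exists_sylow : ∃ S : Sylow 2 G, t ∈ (S : Subgroup G) ∧ s₁ ∈ (S : Subgroup G) ∧ s₂ ∈ (S : Subgroup G) ∧
    ∀ f ∈ Φ, ∀ s ∈ (S : Subgroup G), f * s = s * f := by
  haveI : Fact (Nat.Prime 2) := ⟨Nat.prime_two⟩
  have hts₁ := (h.comm (h.le g.mem₁)).symm
  have hts₂ := (h.comm (h.le g.mem₂)).symm
  have hcomm : ∀ x ∈ ({t, s₁, s₂} : Set G), ∀ y ∈ ({t, s₁, s₂} : Set G), x * y = y * x := by
    rintro x (rfl | rfl | rfl) y (rfl | rfl | rfl) <;>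
      first | rfl | exact hts₁ | exact hts₂ | exact hts₁.symm | exact hts₂.symm | exact g.four.comm.eq |
        exact g.four.comm.eq.symm
  set W := closure ({t, s₁, s₂} : Set G) with hW
  letI : CommGroup W := { (inferInstance : Group W) with
    mul_comm := (Subgroup.isMulCommutative_closure hcomm).is_comm.comm }
  have hp : IsPGroup 2 W := fun x => ⟨1, by
    have h2 : W ≤ (powMonoidHom 2 : W →* W).ker.map W.subtype := (closure_le _).2 (by
      rintro y hy
      refine ⟨⟨y, subset_closure hy⟩, MonoidHom.mem_ker.2 (Subtype.ext ?_), rfl⟩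
      rcases hy with rfl | rfl | rfl
      · exact (pow_two _).trans (involution_sq h.ord)
      · exact (pow_two _).trans (involution_sq g.four.hv)
      · exact (pow_two _).trans (involution_sq g.four.hw))
    obtain ⟨y, hy, hyx⟩ := h2 x.2
    rw [show x = y from Subtype.ext hyx.symm, pow_one]
    exact hy⟩
  obtain ⟨S, hS⟩ := hp.exists_le_sylow
  have htS : t ∈ (S : Subgroup G) := hS (subset_closure (Or.inl rfl))
  have hsS₁ : s₁ ∈ (S : Subgroup G) := hS (subset_closure (Or.inr (Or.inl rfl)))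
  have hsS₂ : s₂ ∈ (S : Subgroup G) := hS (subset_closure (Or.inr (Or.inr rfl)))
  refine ⟨S, htS, hsS₁, hsS₂, fun f hf s hs => ?_⟩
  obtain ⟨-, hV, hform⟩ := jr_card h.jr S htS h.loc
  have hV' : (S : Subgroup G) ⊓ L ≤ centralizer ({f} : Set G) := by
    have hsub : ({1, s₁, s₂, s₁ * s₂} : Set G) ⊆ ((S : Subgroup G) ⊓ L : Subgroup G) := by
      rintro x (rfl | rfl | rfl | rfl)
      · exact one_mem _
      · exact ⟨hsS₁, g.mem₁⟩
      · exact ⟨hsS₂, g.mem₂⟩
      · exact mul_mem (mem_inf.2 ⟨hsS₁, g.mem₁⟩) (mem_inf.2 ⟨hsS₂, g.mem₂⟩)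
    have h1 := involution_ne_one g.four.hv
    have h2 := involution_ne_one g.four.hw
    have h12 : s₁ * s₂ ≠ 1 := fun e => g.four.ne (by
      rw [mul_eq_one_iff_eq_inv, inv_eq_of_mul_eq_one_right (involution_sq g.four.hw)] at e
      exact e)
    have h4 : ({1, s₁, s₂, s₁ * s₂} : Set G).ncard = 4 := by
      rw [Set.ncard_insert_of_notMem, Set.ncard_insert_of_notMem, Set.ncard_pair]
      · exact fun e => h1 (right_eq_mul.1 e)
      · simp [g.four.ne, h2]
      · simp [Ne.symm h1, Ne.symm h2, Ne.symm h12]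
    have heq : ({1, s₁, s₂, s₁ * s₂} : Set G) = ((S : Subgroup G) ⊓ L : Subgroup G) :=
      Set.eq_of_subset_of_ncard_le hsub (by rw [h4, ← Nat.card_coe_set_eq]; exact hV.le) (Set.toFinite _)
    intro x hx
    have hx' : x ∈ ({1, s₁, s₂, s₁ * s₂} : Set G) := heq ▸ hx
    refine mem_centralizer_singleton_iff.2 ?_
    obtain ⟨e1, e2⟩ := g.fix f hf
    rcases hx' with rfl | rfl | rfl | rfl
    · simp
    · exact e1.symm
    · exact e2.symm
    · rw [← mul_assoc, e1, mul_assoc, mul_assoc, e2]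
  obtain ⟨v, hv, rfl | rfl⟩ := hform s hs
  · exact (mem_centralizer_singleton_iff.1 (hV' hv)).symm
  · rw [← mul_assoc, g.comm_t hf, mul_assoc, ← mem_centralizer_singleton_iff.1 (hV' hv), mul_assoc]

variable {S : Sylow 2 G} (htS : t ∈ (S : Subgroup G))
  (hfix : ∀ f ∈ Φ, ∀ s ∈ (S : Subgroup G), f * s = s * f)
include htS hfix

theorem le_centralizer_S : Φ ≤ centralizer ((S : Subgroup G) : Set G) := fun f hf =>
  mem_centralizer_iff.2 fun s hs => (hfix f hf s hs).symm

/-- `C(S) = S Φ`. -/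
theorem mem_centralizer {x : G} (hx : ∀ s ∈ (S : Subgroup G), x * s = s * x) :
    ∃ s ∈ (S : Subgroup G), ∃ f ∈ Φ, x = s * f := by
  haveI : Fact (Nat.Prime 2) := ⟨Nat.prime_two⟩
  obtain ⟨-, hV, -⟩ := jr_card h.jr S htS h.loc
  have main : ∀ e ∈ E, (∀ s ∈ (S : Subgroup G), e * s = s * e) → ∃ s ∈ (S : Subgroup G), ∃ f ∈ Φ, e = s * f := by
    intro e he hes
    obtain ⟨l, hl, f, hf, rfl⟩ := g.cover e he
    refine ⟨l, ?_, f, hf, rfl⟩
    have hls : ∀ s ∈ (S : Subgroup G), l * s = s * l := fun s hs => by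
      have h1 := hes s hs
      rw [mul_assoc, hfix f hf s hs, ← mul_assoc, ← mul_assoc] at h1
      exact mul_right_cancel h1
    have hl2 : l * l = 1 := by
      by_contra hne
      haveI : Finite ((S : Subgroup G) ⊓ L : Subgroup G) := inferInstance
      obtain ⟨a, b, ha, hb, hab⟩ : ∃ a b : ((S : Subgroup G) ⊓ L : Subgroup G), a ≠ 1 ∧ b ≠ 1 ∧ a ≠ b := by
        by_contra hcon
        push Not at hcon
        have : Nontrivial ((S : Subgroup G) ⊓ L : Subgroup G) := Finite.one_lt_card_iff_nontrivial.1 (by omega)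
        obtain ⟨a, ha⟩ := exists_ne (1 : ((S : Subgroup G) ⊓ L : Subgroup G))
        have hle : (Set.univ : Set ((S : Subgroup G) ⊓ L : Subgroup G)).ncard ≤ ({1, a} : Set _).ncard :=
          Set.ncard_le_ncard fun b _ => by
            by_cases hb : b = 1
            · exact Or.inl hb
            · exact Or.inr (hcon a b ha hb).symm
        rw [Set.ncard_univ, hV, Set.ncard_pair (Ne.symm ha)] at hle
        omega
      have hord : ∀ a : ((S : Subgroup G) ⊓ L : Subgroup G), a ≠ 1 → orderOf (⟨a, a.2.2⟩ : L) = 2 := fun a ha => by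
        rw [Subgroup.orderOf_mk]
        exact orderOf_eq_two_of (fun e => ha (Subtype.ext e)) (jr_sq h.jr S a.2.1)
      exact hab (Subtype.ext (congrArg (fun z : L => (z : G)) (h.pslData.unique ⟨l, hl⟩ ⟨a, a.2.2⟩ ⟨b, b.2.2⟩
        (fun e => hne (congrArg Subtype.val e)) (hord a ha) (hord b hb)
        (Subtype.ext (hls a a.2.1)) (Subtype.ext (hls b b.2.1)))))
    -- `l` is in the Sylow subgroup it centralizes
    have hp : IsPGroup 2 ((S : Subgroup G) ⊔ zpowers l : Subgroup G) := by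
      refine S.isPGroup'.to_sup_of_normal_left' ?_ (zpowers_le.2 ?_)
      · intro y
        obtain ⟨k, hk⟩ := mem_zpowers_iff.1 y.2
        refine ⟨1, Subtype.ext ?_⟩
        rw [SubgroupClass.coe_pow, ← hk, pow_one, ← zpow_natCast, ← zpow_mul, mul_comm, zpow_mul,
          zpow_natCast, pow_two, hl2, one_zpow]
        rfl
      · exact centralizer_le_normalizer _ (mem_centralizer_iff.2 fun s hs => (hls s hs).symm)
    exact (S.is_maximal' hp le_sup_left) ▸ mem_sup_right (mem_zpowers l)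
  obtain ⟨e, he, hxe⟩ := h.loc.form x (mem_centralizer_singleton_iff.2 (hx t htS))
  rcases hxe with rfl | rfl
  · exact main x he hx
  · obtain ⟨s, hs, f, hf, hef⟩ := main e he fun s hs => by
      have h1 := hx s hs
      have hts : t * s = s * t := congrArg Subtype.val ((h.abSylow S).is_comm.comm ⟨t, htS⟩ ⟨s, hs⟩)
      rw [← mul_assoc, ← hts, mul_assoc, mul_assoc] at h1
      exact mul_left_cancel h1
    exact ⟨t * s, mul_mem htS hs, f, hf, by rw [hef, mul_assoc]⟩

theorem mem_Φ_of_odd {x : G} (hx : ∀ s ∈ (S : Subgroup G), x * s = s * x) (ho : Odd (orderOf x)) : x ∈ Φ := by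
  obtain ⟨s, hs, f, hf, rfl⟩ := g.mem_centralizer htS hfix hx
  have hc : Commute s f := (hfix f hf s hs).symm
  obtain ⟨j, hj⟩ := ho.mul (g.odd_card)
  have h1 : (s * f) ^ (orderOf (s * f) * Nat.card Φ) = 1 := by rw [pow_mul, pow_orderOf_eq_one, one_pow]
  rw [hc.mul_pow, hj, pow_succ, pow_mul, pow_two, jr_sq h.jr S hs, one_pow, one_mul, ← hj,
    orderOf_dvd_iff_pow_eq_one.1 ((Subgroup.orderOf_dvd_natCard _ hf).trans (dvd_mul_left _ _)), mul_one] at h1
  rw [h1, one_mul]
  exact hf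

theorem conj_mem_Φ {m : G} (hm : m ∈ normalizer ((S : Subgroup G) : Set G)) {f : G} (hf : f ∈ Φ) :
    m * f * m⁻¹ ∈ Φ := by
  refine g.mem_Φ_of_odd htS hfix (fun s hs => ?_) (by rw [CfsgLib.Signalizer.orderOf_conj]; exact g.odd_order hf)
  have hs' : m⁻¹ * s * m ∈ (S : Subgroup G) := by
    have := (mem_normalizer_iff.1 (inv_mem hm) s).1 hs
    rwa [inv_inv] at this
  calc m * f * m⁻¹ * s = m * (f * (m⁻¹ * s * m)) * m⁻¹ := by group
    _ = m * (m⁻¹ * s * m * f) * m⁻¹ := by rw [hfix f hf _ hs']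
    _ = s * (m * f * m⁻¹) := by group

/-- For every involution of `S`, an element of its centralizer which normalizes `S`, centralizes `Φ` and
moves an element of `S`. -/
theorem exists_mover {v : G} (hv : v ∈ (S : Subgroup G)) (hv1 : v ≠ 1) :
    ∃ a ∈ normalizer ((S : Subgroup G) : Set G), a * v = v * a ∧ (∀ f ∈ Φ, a * f = f * a) ∧
      ∃ y ∈ (S : Subgroup G), a * y ≠ y * a := by
  haveI : Fact (Nat.Prime 2) := ⟨Nat.prime_two⟩
  obtain ⟨Ev, Lv, hL⟩ := exists_loc_of_jr h.jr (orderOf_eq_two_of hv1 (jr_sq h.jr S hv))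
  obtain ⟨-, hV, hform⟩ := jr_card h.jr S hv hL
  set V := (S : Subgroup G) ⊓ Lv with hVdef
  obtain ⟨P, hP⟩ := (S.isPGroup'.comap_of_injective Lv.subtype Lv.subtype_injective).exists_le_sylow
  have hPcard : Nat.card (P : Subgroup Lv) = 4 := by
    rw [P.card_eq_multiplicity, hL.data.two_pow]; norm_num
  have hPV : ∀ y : Lv, y ∈ (P : Subgroup Lv) ↔ (y : G) ∈ (S : Subgroup G) := by
    have heq : (S : Subgroup G).comap Lv.subtype = (P : Subgroup Lv) := by
      refine eq_of_le_of_card_ge hP ?_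
      rw [hPcard, ← hV, ← card_map_of_injective Lv.subtype_injective, map_comap_eq, range_subtype, inf_comm]
    intro y
    rw [← heq]; rfl
  have hPc : IsMulCommutative (P : Subgroup Lv) := ⟨⟨fun a b => Subtype.ext (Subtype.ext
    (congrArg (fun z : (S : Subgroup G) => (z : G)) ((h.abSylow S).is_comm.comm ⟨_, (hPV _).1 a.2⟩ ⟨_, (hPV _).1 b.2⟩)))⟩⟩
  haveI : Nontrivial (P : Subgroup Lv) := Finite.one_lt_card_iff_nontrivial.1 (by omega)
  obtain ⟨⟨y, hyP⟩, hy1⟩ := exists_ne (1 : (P : Subgroup Lv))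
  obtain ⟨y', hy'P, hy'1, hyy'⟩ : ∃ y' ∈ (P : Subgroup Lv), y' ≠ 1 ∧ y' ≠ y := by
    by_contra hcon
    push Not at hcon
    have hle : ((P : Subgroup Lv) : Set Lv).ncard ≤ ({1, y} : Set Lv).ncard := Set.ncard_le_ncard fun b hb => by
      by_cases hb1 : b = 1
      · exact Or.inl hb1
      · exact Or.inr (hcon b hb hb1)
    rw [← Nat.card_coe_set_eq] at hle
    have : ({1, y} : Set Lv).ncard ≤ 2 := (Set.ncard_insert_le _ _).trans (by simp)
    simp only [SetLike.coe_sort_coe, hPcard] at hle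
    omega
  have hsq : ∀ z ∈ (P : Subgroup Lv), z ≠ 1 → orderOf z = 2 := fun z hz hz1 =>
    orderOf_eq_two_of hz1 (Subtype.ext (jr_sq h.jr S ((hPV z).1 hz)))
  obtain ⟨c, hc⟩ := isConj_iff.1 (hL.data.conj y y' (hsq y hyP fun e => hy1 (Subtype.ext e)) (hsq y' hy'P hy'1))
  obtain ⟨n, hn, hne⟩ := Transfer.exists_normalizer_conj_of_isMulCommutative P hPc (X := {y})
    (Set.singleton_subset_iff.mpr hyP) (g := c⁻¹)
    (by rw [Set.image_singleton, inv_inv, Set.singleton_subset_iff, hc]; exact hy'P)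
  have hne' : n⁻¹ * y * n = y' := by rw [hne y rfl, inv_inv, hc]
  set a : Lv := n⁻¹ with ha
  have haV : ∀ x : G, x ∈ V → (a : G) * x * (a : G)⁻¹ ∈ V := fun x hx => by
    have h1 := (mem_normalizer_iff.1 (inv_mem hn) ⟨x, hx.2⟩).1 ((hPV _).2 hx.1)
    exact ⟨(hPV _).1 h1, Lv.mul_mem (Lv.mul_mem a.2 hx.2) (Lv.inv_mem a.2)⟩
  have hav : (a : G) * v = v * a := hL.comm _ (hL.le a.2)
  have haS : ∀ s ∈ (S : Subgroup G), (a : G) * s * (a : G)⁻¹ ∈ (S : Subgroup G) := fun s hs => by
    obtain ⟨x, hx, rfl | rfl⟩ := hform s hs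
    · exact (haV _ hx).1
    · rw [← mul_assoc, hav, mul_assoc, mul_assoc, ← mul_assoc (a : G) x]
      exact mul_mem hv (haV x hx).1
  have haN : (a : G) ∈ normalizer ((S : Subgroup G) : Set G) := by
    refine mem_normalizer_iff_map_conj_eq.2 (eq_of_le_of_card_ge ?_ (le_of_eq ?_))
    · rintro _ ⟨s, hs, rfl⟩; exact haS s hs
    · exact (card_map_of_injective (MulAut.conj (a : G)).injective).symm
  refine ⟨a, haN, hav, fun f hf => ?_, (y : G), (hPV y).1 hyP, fun e => hyy' (Subtype.ext ?_)⟩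
  · have hfv : f ∈ centralizer ({v} : Set G) := mem_centralizer_singleton_iff.2 (hfix f hf v hv)
    have h1 : (a : G) * f * (a : G)⁻¹ * f⁻¹ ∈ Lv := by
      rw [show (a : G) * f * (a : G)⁻¹ * f⁻¹ = a * (f * (a : G)⁻¹ * f⁻¹) by group]
      exact mul_mem a.2 ((mem_normalizer_iff.1 (hL.C_le_normalizer hfv) _).1 (inv_mem a.2))
    have h2 : (a : G) * f * (a : G)⁻¹ * f⁻¹ ∈ Φ := mul_mem (g.conj_mem_Φ htS hfix haN hf) (inv_mem hf)
    set w := (a : G) * f * (a : G)⁻¹ * f⁻¹ with hw
    have hwc : ∀ z ∈ (P : Subgroup Lv), (⟨w, h1⟩ : Lv) * z = z * ⟨w, h1⟩ := fun z hz =>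
      Subtype.ext (hfix w h2 z ((hPV z).1 hz))
    have hw2 : w * w = 1 := by
      by_contra hne
      exact hyy' (hL.data.unique ⟨w, h1⟩ y' y (fun e => hne (congrArg Subtype.val e)) (hsq y' hy'P hy'1)
        (hsq y hyP fun e => hy1 (Subtype.ext e)) (hwc y' hy'P) (hwc y hyP))
    have hw1 : w = 1 := by
      obtain ⟨j, hj⟩ := g.odd_order h2
      have h3 := pow_orderOf_eq_one w
      rw [hj, pow_succ, pow_mul, pow_two, hw2, one_pow, one_mul] at h3
      exact h3
    exact mul_inv_eq_iff_eq_mul.1 (mul_inv_eq_one.1 hw1)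
  · rw [← hne']
    show ((n⁻¹ : Lv) : G) * y * (n : G) = y
    rw [show ((n⁻¹ : Lv) : G) * y = y * (a : G) from e, mul_assoc]
    show (y : G) * (((n⁻¹ * n : Lv)) : G) = y
    rw [inv_mul_cancel, Subgroup.coe_one, mul_one]

/-- **`N(S)` centralizes `Φ`.** -/
theorem normalizer_le : normalizer ((S : Subgroup G) : Set G) ≤ centralizer (Φ : Set G) := by
  classical
  haveI : Fact (Nat.Prime 2) := ⟨Nat.prime_two⟩
  obtain ⟨h8, -, -⟩ := jr_card h.jr S htS h.loc
  set N := normalizer ((S : Subgroup G) : Set G) with hN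
  set φ := (S : Subgroup G).normalizerMonoidHom with hφ
  have hexp : ∀ x : (S : Subgroup G), x * x = 1 := fun x => Subtype.ext (jr_sq h.jr S x.2)
  have h168 := CfsgLib.Fusion.Bicyclic.card_mulAut_dvd hexp (Or.inr h8)
  set K := ((centralizer (Φ : Set G)).subgroupOf N).map φ with hK
  have hodd : Odd (Nat.card φ.range) := by
    rw [← Nat.not_even_iff_odd, even_iff_two_dvd]
    intro h2
    rw [← index_ker] at h2
    have hle : (S : Subgroup G).subgroupOf N ≤ φ.ker := fun x hx => by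
      rw [hφ, normalizerMonoidHom_ker, mem_subgroupOf]
      exact mem_centralizer_iff.2 fun y hy =>
        congrArg Subtype.val ((h.abSylow S).is_comm.comm ⟨y, hy⟩ ⟨x, hx⟩)
    exact S.not_dvd_index (h2.trans ((index_dvd_of_le hle).trans
      (Dvd.intro _ (relIndex_mul_index le_normalizer))))
  have hKle : K ≤ φ.range := map_le_range _ _
  -- enough elements
  have hex : ∀ v : (S : Subgroup G), v ≠ 1 → ∃ σ ∈ K, σ v = v ∧ σ ≠ 1 := fun v hv => by
    obtain ⟨a, ha, hav, haf, y, hy, hay⟩ := g.exists_mover htS hfix v.2 fun e => hv (Subtype.ext e)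
    refine ⟨φ ⟨a, ha⟩, ⟨⟨a, ha⟩, mem_subgroupOf.2 (mem_centralizer_iff.2 fun f hf => (haf f hf).symm), rfl⟩,
      Subtype.ext (mul_inv_eq_iff_eq_mul.2 hav), fun e => hay (mul_inv_eq_iff_eq_mul.1 ?_)⟩
    have := congrArg (fun σ : MulAut (S : Subgroup G) => ((σ ⟨y, hy⟩ : (S : Subgroup G)) : G)) e
    simp only [MulAut.one_apply] at this
    exact this
  choose σ hσK hσv hσ1 using hex
  have hoddσ : ∀ τ ∈ K, Odd (orderOf τ) := fun τ hτ =>
    hodd.of_dvd_nat (Subgroup.orderOf_dvd_natCard _ (hKle hτ))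
  -- an odd automorphism fixes at most one involution
  have huniq : ∀ τ ∈ K, τ ≠ 1 → ∀ v w : (S : Subgroup G), v ≠ 1 → w ≠ 1 → τ v = v → τ w = w → v = w := by
    intro τ hτ hτ1 v w hv hw hτv hτw
    by_contra hvw
    set F := MonoidHom.eqLocus (τ : (S : Subgroup G) ≃* (S : Subgroup G)).toMonoidHom (MonoidHom.id _) with hF
    have hcard : 2 < Nat.card F := by
      have hsub : ({1, v, w} : Set (S : Subgroup G)) ⊆ F := by
        rintro x (rfl | rfl | rfl)
        · exact one_mem F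
        · exact hτv
        · exact hτw
      have h3 : ({1, v, w} : Set (S : Subgroup G)).ncard = 3 := by
        rw [Set.ncard_insert_of_notMem, Set.ncard_pair hvw]
        simp [Ne.symm hv, Ne.symm hw]
      have := Set.ncard_le_ncard hsub
      rw [h3, ← Nat.card_coe_set_eq] at this
      exact this
    have hdvd : Nat.card F ∣ 2 ^ 3 := by
      have h1 := card_subgroup_dvd_card F
      rw [h8] at h1
      exact h1.trans (by norm_num)
    have h48 : Nat.card F = 4 ∨ Nat.card F = 8 := by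
      obtain ⟨i, hi, hi'⟩ := (Nat.dvd_prime_pow Nat.prime_two).1 hdvd
      rw [hi'] at hcard ⊢
      interval_cases i <;> simp_all
    have hidx : F.index ∣ 2 := by
      have h1 := F.card_mul_index
      rw [h8] at h1
      rcases h48 with e | e <;> rw [e] at h1
      · rw [show F.index = 2 by omega]
      · rw [show F.index = 1 by omega]; exact one_dvd 2
    have hsq : τ * τ = 1 := MulEquiv.ext fun x => by
      have hx : τ x * x⁻¹ ∈ F := by
        by_cases hxF : x ∈ F
        · exact mul_mem (show τ x ∈ F by rw [show τ x = x from hxF]; exact hxF) (inv_mem hxF)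
        · have h2 : F.index = 2 := ((Nat.dvd_prime Nat.prime_two).1 hidx).resolve_left fun e =>
            hxF (index_eq_one.1 e ▸ mem_top x)
          refine ((mul_mem_iff_of_index_two h2).2 ?_)
          refine iff_of_false (fun hτx => hxF ?_) fun hxi => hxF (by simpa using inv_mem hxi)
          exact τ.injective hτx
      have h1 : τ (τ x * x⁻¹) = τ x * x⁻¹ := hx
      rw [map_mul, map_inv] at h1
      rw [MulAut.mul_apply, MulAut.one_apply]
      calc τ (τ x) = τ (τ x) * (τ x)⁻¹ * τ x := (inv_mul_cancel_right _ _).symm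
        _ = τ x * (x⁻¹ * τ x) := by rw [h1, mul_assoc]
        _ = x := by
          letI : CommGroup (S : Subgroup G) := { (inferInstance : Group (S : Subgroup G)) with
            mul_comm := fun a b => (h.abSylow S).is_comm.comm a b }
          rw [mul_comm x⁻¹, ← mul_assoc, hexp (τ x), one_mul, inv_eq_of_mul_eq_one_right (hexp x)]
    refine hτ1 (orderOf_eq_one_iff.1 (Nat.eq_one_of_dvd_coprimes (Nat.coprime_two_left.2 (hoddσ τ hτ))
      (orderOf_dvd_of_pow_eq_one (by rw [pow_two]; exact hsq)) dvd_rfl))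
  -- counting
  have hcount : 14 ≤ Nat.card K := by
    let f : {v : (S : Subgroup G) // v ≠ 1} × Fin 2 → K := fun x =>
      ⟨σ x.1.1 x.1.2 ^ ((x.2 : ℕ) + 1), pow_mem (hσK _ _) _⟩
    have hpow1 : ∀ (v : {v : (S : Subgroup G) // v ≠ 1}) (j : Fin 2), σ v.1 v.2 ^ ((j : ℕ) + 1) ≠ 1 := by
      intro v j e
      have h1 := orderOf_dvd_of_pow_eq_one e
      have h2 := Nat.le_of_dvd (Nat.succ_pos _) h1
      have h3 : orderOf (σ v.1 v.2) ≠ 1 := fun e' => hσ1 _ _ (orderOf_eq_one_iff.1 e')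
      obtain ⟨k, hk⟩ := hoddσ _ (hσK v.1 v.2)
      omega
    have hfv : ∀ (v : {v : (S : Subgroup G) // v ≠ 1}) (j : ℕ), (σ v.1 v.2 ^ j) v.1 = v.1 := by
      intro v j
      induction j with
      | zero => rfl
      | succ m ih => rw [pow_succ, MulAut.mul_apply, hσv, ih]
    have hinj : Function.Injective f := by
      rintro ⟨v, i⟩ ⟨w, j⟩ e
      have e' : σ v.1 v.2 ^ ((i : ℕ) + 1) = σ w.1 w.2 ^ ((j : ℕ) + 1) := congrArg Subtype.val e
      have hvw : v = w := Subtype.ext (huniq _ (pow_mem (hσK v.1 v.2) _) (hpow1 v i) v.1 w.1 v.2 w.2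
        (hfv v _) (by rw [e']; exact hfv w _))
      subst hvw
      refine Prod.ext rfl (Fin.ext ?_)
      by_contra hne
      have hij : ((i : ℕ) = 0 ∧ (j : ℕ) = 1) ∨ ((i : ℕ) = 1 ∧ (j : ℕ) = 0) := by
        have := i.isLt; have := j.isLt; simp only at hne; omega
      refine hσ1 v.1 v.2 ?_
      rcases hij with ⟨hi, hj⟩ | ⟨hi, hj⟩
      · rw [hi, hj, pow_succ _ 1, zero_add, pow_one] at e'
        exact left_eq_mul.1 e'
      · rw [hi, hj, pow_succ _ 1, zero_add, pow_one] at e'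
        exact left_eq_mul.1 e'.symm
    have h7 : Nat.card {v : (S : Subgroup G) // v ≠ 1} = 7 := by
      haveI := Fintype.ofFinite (S : Subgroup G)
      rw [Nat.card_eq_fintype_card, Fintype.card_subtype_compl, Fintype.card_subtype_eq,
        ← Nat.card_eq_fintype_card, h8]
    have := Nat.card_le_card_of_injective f hinj
    rw [Nat.card_prod, h7, Nat.card_fin] at this
    exact this
  have hrange : Nat.card φ.range ∣ 168 := (card_subgroup_dvd_card _).trans h168
  have hKeq : K = φ.range := by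
    refine eq_of_le_of_card_ge hKle ?_
    have h1 := card_dvd_of_le hKle
    have h21 : Nat.card φ.range ∣ 21 := (Nat.Coprime.dvd_of_dvd_mul_left
      (show (Nat.card φ.range).Coprime 8 from (Nat.coprime_two_right.2 hodd).pow_right 3) (by exact hrange))
    have hmem : Nat.card φ.range ∈ Nat.divisors 21 := Nat.mem_divisors.2 ⟨h21, by norm_num⟩
    have hmemK : Nat.card K ∈ Nat.divisors 21 := Nat.mem_divisors.2 ⟨h1.trans h21, by norm_num⟩
    rw [show Nat.divisors 21 = {1, 3, 7, 21} from by decide] at hmem hmemK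
    simp only [Finset.mem_insert, Finset.mem_singleton] at hmem hmemK
    omega
  intro m hm
  have hmK : φ ⟨m, hm⟩ ∈ K := hKeq ▸ ⟨_, rfl⟩
  obtain ⟨k, hk, hkm⟩ := hmK
  have h1 : (k⁻¹ * ⟨m, hm⟩ : N) ∈ φ.ker := by rw [MonoidHom.mem_ker, map_mul, map_inv, hkm, inv_mul_cancel]
  rw [hφ, normalizerMonoidHom_ker, mem_subgroupOf] at h1
  obtain ⟨s, hs, f, hf, hsf⟩ := g.mem_centralizer htS hfix fun s hs => (mem_centralizer_iff.1 h1 s hs).symm
  have hm' : m = (k : G) * (s * f) := by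
    rw [← hsf]
    show m = (k : G) * ((k : G)⁻¹ * m)
    rw [mul_inv_cancel_left]
  rw [hm']
  refine mul_mem (mem_subgroupOf.1 hk) (mul_mem ?_ ?_)
  · exact mem_centralizer_iff.2 fun f' hf' => hfix f' hf' s hs
  · exact mem_centralizer_iff.2 fun f' hf' => g.comm_Φ hf' hf

omit htS hfix in
theorem no_fusion {f : G} (hf : f ∈ Φ) {x : G} (hx : x * f * x⁻¹ ∈ zpowers f) : x * f * x⁻¹ = f := by
  haveI : Fact (Nat.Prime 2) := ⟨Nat.prime_two⟩
  obtain ⟨S, htS, -, -, hfix⟩ := g.exists_sylow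
  set C := centralizer ({f} : Set G) with hC
  have hxN : x ∈ normalizer (zpowers f : Set G) := by
    refine mem_normalizer_iff_map_conj_eq.2 (eq_of_le_of_card_ge ?_ (le_of_eq ?_))
    · rintro _ ⟨y, hy, rfl⟩
      obtain ⟨i, rfl⟩ := mem_zpowers_iff.1 hy
      show x * f ^ i * x⁻¹ ∈ zpowers f
      rw [← conj_zpow]
      exact zpow_mem hx i
    · exact (card_map_of_injective (MulAut.conj x).injective).symm
  have hSC : (S : Subgroup G) ≤ C := fun s hs => mem_centralizer_singleton_iff.2 (hfix f hf s hs).symm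
  have hconjC : ∀ y ∈ C, x⁻¹ * y * x ∈ C := fun y hy => by
    obtain ⟨i, hi⟩ := mem_zpowers_iff.1 hx
    have hyi : y * f ^ i = f ^ i * y := (Commute.zpow_right (mem_centralizer_singleton_iff.1 hy : y * f = f * y) i).eq
    refine mem_centralizer_singleton_iff.2 ?_
    calc x⁻¹ * y * x * f = x⁻¹ * (y * (x * f * x⁻¹)) * x := by group
      _ = x⁻¹ * (f ^ i * y) * x := by rw [← hi, hyi]
      _ = f * (x⁻¹ * y * x) := by rw [hi]; group
  -- the conjugate of `S` is another Sylow subgroup of `C`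
  have hS' : ((x⁻¹ • S : Sylow 2 G) : Subgroup G) ≤ C := by
    rw [Sylow.coe_subgroup_smul]
    rintro _ ⟨s, hs, rfl⟩
    show x⁻¹ * s * x⁻¹⁻¹ ∈ C
    rw [inv_inv]
    exact hconjC s (hSC hs)
  obtain ⟨c, hc⟩ := MulAction.exists_smul_eq C (S.subtype hSC) ((x⁻¹ • S : Sylow 2 G).subtype hS')
  have hm : x * (c : G) ∈ normalizer ((S : Subgroup G) : Set G) := by
    refine mem_normalizer_iff_map_conj_eq.2 (eq_of_le_of_card_ge ?_
      (le_of_eq (card_map_of_injective (MulAut.conj _).injective).symm))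
    rintro _ ⟨s, hs, rfl⟩
    have h1 : c * ⟨s, hSC hs⟩ * c⁻¹ ∈ ((x⁻¹ • S : Sylow 2 G).subtype hS' : Subgroup C) := by
      rw [← hc, Sylow.coe_subgroup_smul]
      exact Subgroup.smul_mem_pointwise_smul (⟨s, hSC hs⟩ : C) (MulAut.conj c) _ (mem_subgroupOf.2 hs)
    have h2 : (c : G) * s * (c : G)⁻¹ ∈ ((x⁻¹ • S : Sylow 2 G) : Subgroup G) := mem_subgroupOf.1 h1
    rw [Sylow.coe_subgroup_smul, Subgroup.mem_pointwise_smul_iff_inv_smul_mem, MulAut.smul_def, ← map_inv,
      MulAut.conj_apply, inv_inv] at h2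
    show x * (c : G) * s * (x * (c : G))⁻¹ ∈ (S : Subgroup G)
    rwa [show x * (c : G) * s * (x * (c : G))⁻¹ = x * ((c : G) * s * (c : G)⁻¹) * x⁻¹ by group]
  have h3 := mem_centralizer_iff.1 (g.normalizer_le htS hfix hm) f hf
  have hcf := mem_centralizer_singleton_iff.1 c.2
  rw [mul_inv_eq_iff_eq_mul]
  refine mul_right_cancel (b := (c : G)) ?_
  rw [mul_assoc, ← hcf, ← mul_assoc, ← h3, mul_assoc]

/-- Involutions commuting with `f` are conjugate in the centralizer of `f`. -/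
theorem exists_conj {f : G} (hf : f ∈ Φ) {v : G} (hv : orderOf v = 2) (hvf : v * f = f * v) :
    ∃ c : G, c * f = f * c ∧ c * t * c⁻¹ = v := by
  haveI : Fact (Nat.Prime 2) := ⟨Nat.prime_two⟩
  have H := jr_setting h.jr S htS h.ord
  set C := centralizer ({f} : Set G) with hC
  have hSC : (S : Subgroup G) ≤ C := fun s hs => mem_centralizer_singleton_iff.2 (hfix f hf s hs).symm
  obtain ⟨d, hd, hdS⟩ := H.exists_conj_mem hSC (mem_centralizer_singleton_iff.2 hvf : v ∈ C) (involution_sq hv)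
  obtain ⟨m, hm, hmt⟩ := H.one_class htS (involution_ne_one h.ord) hdS
    (fun e => involution_ne_one hv (conj_eq_one_iff.1 e))
  refine ⟨d⁻¹ * m, ?_, ?_⟩
  · have h1 := (mem_centralizer_singleton_iff.1 (inv_mem hd) : d⁻¹ * f = f * d⁻¹)
    rw [mul_assoc, ← mem_centralizer_iff.1 (g.normalizer_le htS hfix hm) f hf, ← mul_assoc, h1, mul_assoc]
  · rw [show d⁻¹ * m * t * (d⁻¹ * m)⁻¹ = d⁻¹ * (m * t * m⁻¹) * d by group, hmt]
    group

end Galois

end CfsgLib.Walter.Field
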