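import Cfsg.Agent.Lib.Recog.Walter.Field.Big.Level
import Cfsg.Agent.Lib.Recog.Walter.Field.Local
import Cfsg.Agent.Lib.Recog.Walter.Field.Assembly
import Cfsg.Agent.Lib.LocalEven.Generation

/-!
Owner: helper21. Walter, field part: the group `C(f)/⟨f⟩` for a fixed field of at least eleven elements, and the
characteristic of that field.

* `levelStatement`: a simple normal subgroup `X` with `C_X(t) ≅ Z₂ × PSL(2, q₀)` (from the structure theorem
  and the field part below);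
* `stepChar`: the characteristic is three.
-/

set_option autoImplicit false
set_option linter.style.haveILetI false
set_option linter.unusedSectionVars false
set_option maxHeartbeats 400000

namespace CfsgLib.Walter.Field

open Subgroup
open scoped Pointwise commutatorElement
open CfsgLib.AbelianSolvCent (AbSylow)
open CfsgLib.Recog.JankoThompson (P2)
open CfsgLib.Signalizer (involution_sq involution_ne_one orderOf_eq_two_of)
open CfsgLib.Walter.Sections (jr_card jr_sq jr_setting)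

universe u

section General

variable {G : Type u} [Group G] [Finite G]

/-- A nontrivial normal subgroup of a normal subgroup is of even order if the odd core is trivial. -/
theorem two_dvd_card {N : Subgroup G} [N.Normal] (hO : ∀ O : Subgroup G, O.Normal → Odd (Nat.card O) → O = ⊥)
    {M : Subgroup ↥N} (hM : M.Normal) (hne : M ≠ ⊥) : 2 ∣ Nat.card M := by
  by_contra h2
  have hodd : Odd (Nat.card M) := Nat.not_even_iff_odd.1 fun e => h2 (even_iff_two_dvd.1 e)
  have hle := CfsgLib.ZStar.le_oddCore hM hodd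
  have h1 : (Cfsg.oddCore ↥N).map N.subtype = ⊥ := by
    haveI : (Cfsg.oddCore ↥N).Characteristic := inferInstance
    refine hO _ inferInstance ?_
    rw [card_map_of_injective N.subtype_injective]
    exact CfsgLib.ZStar.odd_card_oddCore _
  rw [map_eq_bot_iff_of_injective _ N.subtype_injective] at h1
  exact hne (le_bot_iff.1 (h1 ▸ hle))

end General

variable {G : Type u} [Group G] [Finite G] {t : G} {E L : Subgroup G} {F : Type} [Field F] [Fintype F]
  {h : Setting t E L F} {Φ : Subgroup G} {s₁ s₂ : G} {p b : ℕ} {f : G} {F₀ : Type} [Field F₀] [Fintype F₀]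

namespace Top

variable (T : Top h Φ s₁ s₂ p b f F₀)
include T

theorem s_mem {s : G} (hs : s ∈ L) (hf : f * s = s * f) : s ∈ L ⊓ centralizer ({f} : Set G) :=
  ⟨hs, mem_centralizer_singleton_iff.2 hf.symm⟩

/-- An element of odd order of `C(t) ∩ C(f)` centralizing `C_L(f)` is a power of `f`. -/
theorem mem_zpowers_of_centralizes {x : G} (hxt : x * t = t * x) (hodd : Odd (orderOf x))
    (hc : ∀ y ∈ L ⊓ centralizer ({f} : Set G), x * y = y * x) : x ∈ zpowers f := by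
  obtain ⟨S, htS, -, -, hfix⟩ := T.galois.exists_sylow
  obtain ⟨-, -, hform⟩ := jr_card h.jr S htS h.loc
  have hxS : ∀ s ∈ (S : Subgroup G), x * s = s * x := fun s hs => by
    have hv : ∀ v ∈ (S : Subgroup G) ⊓ L, x * v = v * x := fun v hv =>
      hc v (T.s_mem hv.2 (hfix f T.mem v hv.1))
    obtain ⟨v, hv', rfl | rfl⟩ := hform s hs
    · exact hv _ hv'
    · rw [← mul_assoc, hxt, mul_assoc, hv v hv', mul_assoc]
  have hxΦ := T.galois.mem_Φ_of_odd htS hfix hxS hodd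
  -- a generator of `⟨f, x⟩`
  haveI := T.galois.cyclic
  haveI : IsCyclic ↥((zpowers f ⊔ zpowers x).subgroupOf Φ) := inferInstance
  have hle : zpowers f ⊔ zpowers x ≤ Φ := sup_le (zpowers_le.2 T.mem) (zpowers_le.2 hxΦ)
  haveI : IsCyclic ↥(zpowers f ⊔ zpowers x : Subgroup G) :=
    isCyclic_of_surjective (subgroupOfEquivOfLe hle).toMonoidHom (subgroupOfEquivOfLe hle).surjective
  obtain ⟨⟨g, hg⟩, hgen⟩ := IsCyclic.exists_generator (α := ↥(zpowers f ⊔ zpowers x : Subgroup G))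
  have hgz : ∀ y ∈ zpowers f ⊔ zpowers x, y ∈ zpowers g := fun y hy => by
    obtain ⟨i, hi⟩ := mem_zpowers_iff.1 (hgen ⟨y, hy⟩)
    exact mem_zpowers_iff.2 ⟨i, congrArg Subtype.val hi⟩
  have hgΦ : g ∈ Φ := hle hg
  obtain ⟨Fg, _, _, hcardg, ⟨eg⟩⟩ := T.galois.fixed g hgΦ
  obtain ⟨e0⟩ := T.iso
  have hL : L ⊓ centralizer ({g} : Set G) = L ⊓ centralizer ({f} : Set G) := by
    refine le_antisymm (fun y hy => ⟨hy.1, mem_centralizer_singleton_iff.2 ?_⟩)
      (fun y hy => ⟨hy.1, mem_centralizer_singleton_iff.2 ?_⟩)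
    · have h1 : zpowers f ⊔ zpowers x ≤ centralizer ({y} : Set G) := sup_le
        (zpowers_le.2 (mem_centralizer_singleton_iff.2 (mem_centralizer_singleton_iff.1 hy.2).symm))
        (zpowers_le.2 (mem_centralizer_singleton_iff.2 (hc y hy)))
      exact (mem_centralizer_singleton_iff.1 (h1 hg)).symm
    · obtain ⟨i, hi⟩ := mem_zpowers_iff.1 (hgz f (mem_sup_left (mem_zpowers f)))
      rw [← hi]
      exact (Commute.zpow_right (show Commute y g from mem_centralizer_singleton_iff.1 hy.2) i).eq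
  have hcardP : Nat.card (P2 Fg) = Nat.card (P2 F₀) := by
    rw [← Nat.card_congr eg.toEquiv, hL, Nat.card_congr e0.toEquiv]
  have hoddg : Fintype.card Fg % 2 = 1 := by
    by_contra hne
    exact (Nat.not_even_iff_odd.2 h.odd_card)
      (hcardg ▸ (Nat.even_iff.2 (by omega)).pow_of_ne_zero (orderOf_pos g).ne')
  have h2g : 2 * Nat.card (P2 Fg) = Fintype.card Fg * (Fintype.card Fg ^ 2 - 1) := by
    have := CfsgLib.Classical.Two.card_PSL_two (F := Fg)
    rwa [Nat.gcd_eq_left (show 2 ∣ Fintype.card Fg - 1 by omega)] at this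
  have h20 := T.two_card_psl
  rw [hcardP, h20] at h2g
  have hq : Fintype.card Fg = Fintype.card F₀ := by
    have key : ∀ a c : ℕ, 2 ≤ a → a < c → a * (a ^ 2 - 1) < c * (c ^ 2 - 1) := fun a c ha hac => by
      have h1 : a ^ 2 - 1 ≤ c ^ 2 - 1 := Nat.sub_le_sub_right (Nat.pow_le_pow_left hac.le 2) 1
      have h2 : 0 < c ^ 2 - 1 := by
        have : 2 ^ 2 ≤ c ^ 2 := Nat.pow_le_pow_left (by omega) 2
        omega
      exact lt_of_le_of_lt (Nat.mul_le_mul_left a h1) (Nat.mul_lt_mul_of_pos_right hac h2)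
    have := Fintype.one_lt_card (α := Fg)
    have := Fintype.one_lt_card (α := F₀)
    rcases lt_trichotomy (Fintype.card Fg) (Fintype.card F₀) with hlt | heq | hlt
    · have := key _ _ (by omega) hlt; omega
    · exact heq
    · have := key _ _ (by omega) hlt; omega
  have hord : orderOf g = p ^ b := by
    have h1 := T.card
    rw [hcardg, hq] at h1
    exact Nat.pow_right_injective (Fintype.one_lt_card (α := F₀)) h1
  have heq : zpowers f = zpowers g := eq_of_le_of_card_ge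
    (zpowers_le.2 (hgz f (mem_sup_left (mem_zpowers f))))
    (by rw [Nat.card_zpowers, Nat.card_zpowers, hord, T.order])
  rw [heq]
  exact hgz x (mem_sup_right (mem_zpowers x))

/-- **The group `C(f)/⟨f⟩`.** -/
theorem exists_level (hST : StructureTheorem.{u}) (hbig : 11 ≤ Fintype.card F₀) (hB : Below G) :
    ∃ (htf : t ∈ Cf f) (X : Subgroup (Qf f)), Level t f htf F₀ X := by
  classical
  haveI : Fact (Nat.Prime 2) := ⟨Nat.prime_two⟩
  have hoddp := T.odd_order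
  obtain ⟨S, htS, hsS₁, hsS₂, hfix⟩ := T.galois.exists_sylow
  have g := T.galois
  obtain ⟨hS8, hV4, hform⟩ := jr_card h.jr S htS h.loc
  have H3 := jr_setting h.jr S htS h.ord
  haveI := Zf_normal f
  set π : ↥(Cf f) →* Qf f := QuotientGroup.mk' (Zf f) with hπ
  have htf := T.t_mem_Cf
  have hSC : (S : Subgroup G) ≤ Cf f := fun s hs => mem_Cf.2 (hfix f T.mem s hs).symm
  have hkill : ∀ x : ↥(Cf f), π x = 1 → (x : G) ∈ zpowers f := fun x hx =>
    mem_subgroupOf.1 ((QuotientGroup.eq_one_iff (N := Zf f) x).1 hx)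
  have hfodd : ∀ x ∈ zpowers f, Odd (orderOf x) := fun x hx =>
    hoddp.of_dvd_nat (T.order ▸ orderOf_dvd_of_mem_zpowers hx)
  have hSinj : ∀ a b : G, ∀ ha : a ∈ (S : Subgroup G), ∀ hb : b ∈ (S : Subgroup G),
      π ⟨a, hSC ha⟩ = π ⟨b, hSC hb⟩ → a = b := by
    intro a b ha hb hab
    have h1 : π (⟨a, hSC ha⟩⁻¹ * ⟨b, hSC hb⟩) = 1 := by rw [map_mul, map_inv, hab, inv_mul_cancel]
    have h2 : a⁻¹ * b ∈ zpowers f := hkill _ h1
    have h3 : (a⁻¹ * b) * (a⁻¹ * b) = 1 := jr_sq h.jr S (mul_mem (inv_mem ha) hb)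
    have h4 : a⁻¹ * b = 1 := orderOf_eq_one_iff.1 (Nat.eq_one_of_dvd_coprimes
      (Nat.coprime_two_left.2 (hfodd _ h2)) (orderOf_dvd_of_pow_eq_one (by rw [pow_two]; exact h3)) dvd_rfl)
    exact inv_mul_eq_one.1 h4
  -- the Sylow subgroup
  set SQ : Sylow 2 (Qf f) := (S.subtype hSC).mapSurjective (QuotientGroup.mk'_surjective (Zf f)) with hSQ
  have hSQmem : ∀ y, y ∈ (SQ : Subgroup (Qf f)) ↔ ∃ s, ∃ hs : s ∈ (S : Subgroup G), π ⟨s, hSC hs⟩ = y := by
    intro y
    rw [hSQ, Sylow.coe_mapSurjective]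
    constructor
    · rintro ⟨x, hx, rfl⟩; exact ⟨x, mem_subgroupOf.1 hx, rfl⟩
    · rintro ⟨s, hs, rfl⟩; exact ⟨⟨s, hSC hs⟩, mem_subgroupOf.2 hs, rfl⟩
  have hSQ8 : Nat.card (SQ : Subgroup (Qf f)) = 8 := by
    let ψ : ↥(S : Subgroup G) → ↥(SQ : Subgroup (Qf f)) := fun (s : ↥(S : Subgroup G)) =>
      ⟨π ⟨(s : G), hSC s.2⟩, (hSQmem _).2 ⟨(s : G), s.2, rfl⟩⟩
    rw [← hS8]
    refine (Nat.card_congr (Equiv.ofBijective ψ ⟨fun (a b : ↥(S : Subgroup G)) e => Subtype.ext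
      (hSinj _ _ a.2 b.2 (congrArg Subtype.val e)), fun y => ?_⟩)).symm
    obtain ⟨s, hs, he⟩ := (hSQmem y).1 y.2
    exact ⟨⟨s, hs⟩, Subtype.ext he⟩
  have hSQsq : ∀ y ∈ (SQ : Subgroup (Qf f)), y * y = 1 := by
    intro y hy
    obtain ⟨s, hs, rfl⟩ := (hSQmem y).1 hy
    rw [← map_mul, show (⟨s, hSC hs⟩ : ↥(Cf f)) * ⟨s, hSC hs⟩ = 1 from Subtype.ext (jr_sq h.jr S hs), map_one]
  have hAQ : AbSylow (Qf f) := CfsgLib.AbelianSolvCent.abSylow_of_surjective
    (CfsgLib.AbelianSolvCent.abSylow_subgroup h.abSylow (Cf f)) π (QuotientGroup.mk'_surjective _)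
  set τ : Qf f := π ⟨t, htf⟩ with hτ
  have hτS : τ ∈ (SQ : Subgroup (Qf f)) := (hSQmem τ).2 ⟨t, htS, rfl⟩
  have hτ1 : τ ≠ 1 := fun e => involution_ne_one h.ord (hSinj t 1 htS (one_mem _) (by
    show τ = π ⟨1, hSC (one_mem _)⟩
    rw [e]; exact (map_one π).symm))
  -- `L₀`
  set L0 := L ⊓ centralizer ({f} : Set G) with hL0
  have hL0C : L0 ≤ Cf f := fun x hx => hx.2
  set ι : ↥L0 →* Qf f := π.comp (inclusion hL0C) with hι
  have hιinj : Function.Injective ι := (injective_iff_map_eq_one ι).2 fun x hx => by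
    have h1 : (x : G) ∈ zpowers f := hkill _ hx
    have h2 : (x : G) ∈ Φ ⊓ L := ⟨zpowers_le.2 T.mem h1, x.2.1⟩
    rw [g.inf, mem_bot] at h2
    exact Subtype.ext h2
  obtain ⟨e0⟩ := T.iso
  have hL0simp : IsSimpleGroup ↥L0 := by
    have hodd : IsOddType ↥L0 := ⟨F₀, inferInstance, inferInstance, by omega, T.mod8₀, ⟨e0⟩⟩
    exact hodd.isSimpleGroup
  have hs₁L0 : s₁ ∈ L0 := T.s_mem g.mem₁ (g.fix f T.mem).1
  have hs₂L0 : s₂ ∈ L0 := T.s_mem g.mem₂ (g.fix f T.mem).2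
  set u₁ : Qf f := π ⟨s₁, hSC hsS₁⟩ with hu₁
  set u₂ : Qf f := π ⟨s₂, hSC hsS₂⟩ with hu₂
  have hu₁R : u₁ ∈ ι.range := ⟨⟨s₁, hs₁L0⟩, rfl⟩
  have hu₂R : u₂ ∈ ι.range := ⟨⟨s₂, hs₂L0⟩, rfl⟩
  have hu₁1 : u₁ ≠ 1 := fun e => involution_ne_one g.four.hv (hSinj s₁ 1 hsS₁ (one_mem _) (by
    show u₁ = π ⟨1, hSC (one_mem _)⟩
    rw [e]; exact (map_one π).symm))
  have hu₂1 : u₂ ≠ 1 := fun e => involution_ne_one g.four.hw (hSinj s₂ 1 hsS₂ (one_mem _) (by
    show u₂ = π ⟨1, hSC (one_mem _)⟩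
    rw [e]; exact (map_one π).symm))
  have hu12 : u₁ ≠ u₂ := fun e => g.four.ne (hSinj _ _ hsS₁ hsS₂ e)
  -- transitivity
  have htrans : ∀ a ∈ (SQ : Subgroup (Qf f)), a ≠ 1 → ∀ y ∈ (SQ : Subgroup (Qf f)), y ≠ 1 →
      ∃ m : Qf f, m * a * m⁻¹ = y ∧ ∀ z ∈ (SQ : Subgroup (Qf f)), m * z * m⁻¹ ∈ (SQ : Subgroup (Qf f)) := by
    intro a ha ha1 y hy hy1
    obtain ⟨a', ha', rfl⟩ := (hSQmem a).1 ha
    obtain ⟨y', hy', rfl⟩ := (hSQmem y).1 hy
    obtain ⟨m, hm, hmy⟩ := H3.one_class ha' (fun e => ha1 (by subst e; exact map_one π)) hy'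
      (fun e => hy1 (by subst e; exact map_one π))
    have hmC : m ∈ Cf f := mem_Cf.2 (mem_centralizer_iff.1 (g.normalizer_le htS hfix hm) f T.mem).symm
    refine ⟨π ⟨m, hmC⟩, ?_, fun z hz => ?_⟩
    · rw [← map_inv, ← map_mul, ← map_mul]
      exact congrArg π (Subtype.ext hmy)
    · obtain ⟨z', hz', rfl⟩ := (hSQmem z).1 hz
      rw [← map_inv, ← map_mul, ← map_mul]
      exact (hSQmem _).2 ⟨m * z' * m⁻¹, (mem_normalizer_iff.1 hm z').1 hz', rfl⟩
  -- odd normal subgroups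
  have hO : ∀ O : Subgroup (Qf f), O.Normal → Odd (Nat.card O) → O = ⊥ := by
    intro O hOn hOodd
    have hfix0 : ∀ q ∈ O, q * τ = τ * q → q = 1 := by
      intro q hq hqτ
      obtain ⟨x, rfl⟩ := QuotientGroup.mk'_surjective _ q
      have hxt := T.commute_lift hqτ
      have hxo : Odd (orderOf (x : G)) := by
        have h1 : π x ^ Nat.card O = 1 := congrArg Subtype.val (pow_card_eq_one' (x := (⟨π x, hq⟩ : O)))
        rw [← map_pow] at h1
        have h2 : ((x ^ Nat.card O : ↥(Cf f)) : G) ∈ zpowers f := hkill _ h1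
        rw [SubgroupClass.coe_pow] at h2
        have h3 := orderOf_dvd_of_mem_zpowers h2
        rw [T.order] at h3
        refine (hOodd.mul hoddp).of_dvd_nat (orderOf_dvd_of_pow_eq_one ?_)
        rw [pow_mul]
        exact orderOf_dvd_iff_pow_eq_one.1 h3
      have hxE := h.loc.mem_E_of_odd (mem_centralizer_singleton_iff.2 hxt) hxo
      have hM : O.comap ι = ⊥ := by
        haveI : (O.comap ι).Normal := inferInstance
        refine hL0simp.eq_bot_or_eq_top_of_normal _ inferInstance |>.resolve_right fun htop => ?_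
        have h1 : u₁ ∈ O := by
          have : (⟨s₁, hs₁L0⟩ : ↥L0) ∈ O.comap ι := htop ▸ mem_top _
          exact this
        have h2 : orderOf u₁ = 2 := orderOf_eq_two_of hu₁1 (hSQsq _ ((hSQmem _).2 ⟨s₁, hsS₁, rfl⟩))
        exact (Nat.not_even_iff_odd.2 hOodd) (even_iff_two_dvd.2 (h2 ▸ Subgroup.orderOf_dvd_natCard _ h1))
      refine (QuotientGroup.eq_one_iff x).2 (mem_subgroupOf.2
        (T.mem_zpowers_of_centralizes hxt hxo fun y hy => ?_))
      have hxyL : (x : G) * y * (x : G)⁻¹ * y⁻¹ ∈ L0 := by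
        refine ⟨L.mul_mem ((mem_normalizer_iff.1 (h.normal hxE) y).1 hy.1) (L.inv_mem hy.1), ?_⟩
        exact (Cf f).mul_mem ((Cf f).mul_mem ((Cf f).mul_mem x.2 hy.2) ((Cf f).inv_mem x.2)) ((Cf f).inv_mem hy.2)
      have h1 : (⟨_, hxyL⟩ : ↥L0) ∈ O.comap ι := by
        show π ⟨(x : G) * y * (x : G)⁻¹ * y⁻¹, _⟩ ∈ O
        have e : (⟨(x : G) * y * (x : G)⁻¹ * y⁻¹, hL0C hxyL⟩ : ↥(Cf f))
            = x * (⟨y, hy.2⟩ * x⁻¹ * ⟨y, hy.2⟩⁻¹) := Subtype.ext (by simp [mul_assoc])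
        rw [e, map_mul, map_mul, map_mul]
        exact mul_mem hq (by
          simp only [map_inv]
          exact hOn.conj_mem _ (inv_mem hq) (π ⟨y, hy.2⟩))
      rw [hM, mem_bot] at h1
      exact mul_inv_eq_iff_eq_mul.1 (mul_inv_eq_one.1 (congrArg Subtype.val h1))
    haveI : IsMulCommutative ↥(SQ : Subgroup (Qf f)) := hAQ SQ
    refine le_bot_iff.1 (CfsgLib.LocalEven.le_of_centralizers_le (p := 2) (A := (SQ : Subgroup (Qf f)))
      (Y := ⊥) (hexp := fun a ha => by rw [pow_two]; exact hSQsq a ha) (hnc := by rw [hSQ8]; norm_num)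
      (hAN := fun a _ => by rw [normalizer_eq_top_iff.2 hOn]; exact mem_top a)
      (hN := fun e => (Nat.not_even_iff_odd.2 hOodd) (even_iff_two_dvd.2 e)) ?_)
    intro a ha ha1 q hq
    obtain ⟨m, hm, -⟩ := htrans a ha ha1 τ hτS hτ1
    have h1 : m * q * m⁻¹ = 1 := by
      refine hfix0 _ (hOn.conj_mem q hq.1 m) ?_
      rw [← hm]
      have h2 := mem_centralizer_singleton_iff.1 hq.2
      calc m * q * m⁻¹ * (m * a * m⁻¹) = m * (q * a) * m⁻¹ := by group
        _ = m * (a * q) * m⁻¹ := by rw [h2]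
        _ = m * a * m⁻¹ * (m * q * m⁻¹) := by group
    exact mem_bot.2 (conj_eq_one_iff.1 h1)
  -- a minimal normal subgroup
  have hQne : (⊤ : Subgroup (Qf f)) ≠ ⊥ := fun e => hτ1 (mem_bot.1 (e ▸ mem_top τ))
  obtain ⟨N, ⟨hNn, hNne⟩, hNmin⟩ := Set.Finite.exists_minimalFor (fun K : Subgroup (Qf f) => Nat.card K)
    {K : Subgroup (Qf f) | K.Normal ∧ K ≠ ⊥} (Set.toFinite _) ⟨⊤, inferInstance, hQne⟩
  haveI := hNn
  have hmeet : ∀ {M : Subgroup ↥N}, M.Normal → M ≠ ⊥ →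
      ∃ y ∈ (SQ : Subgroup (Qf f)), y ≠ 1 ∧ ∃ c : Qf f, ∃ z ∈ M, c * (z : Qf f) * c⁻¹ = y := by
    intro M hMn hMne
    obtain ⟨⟨z, hzM⟩, hz⟩ := exists_prime_orderOf_dvd_card' (G := M) 2 (two_dvd_card hO hMn hMne)
    have hz2 : orderOf (z : Qf f) = 2 := by rwa [Subgroup.orderOf_coe, ← Subgroup.orderOf_mk z hzM]
    obtain ⟨R, hR⟩ := (CfsgLib.Signalizer.isPGroup_zpowers_involution hz2).exists_le_sylow
    obtain ⟨c, hc⟩ := MulAction.exists_smul_eq (Qf f) R SQ
    refine ⟨c * (z : Qf f) * c⁻¹, ?_, fun e => involution_ne_one hz2 (conj_eq_one_iff.1 e), c, z, hzM, rfl⟩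
    rw [← hc, Sylow.coe_subgroup_smul]
    exact Subgroup.smul_mem_pointwise_smul (z : Qf f) (MulAut.conj c) _ (hR (mem_zpowers _))
  have hSN : (SQ : Subgroup (Qf f)) ≤ N := by
    have hne' : (⊤ : Subgroup ↥N) ≠ ⊥ := fun e => hNne ((Subgroup.eq_bot_iff_forall _).2 fun (x : Qf f) hx => by
      have h1 : (⟨x, hx⟩ : ↥N) ∈ (⊥ : Subgroup ↥N) := e ▸ mem_top _
      exact congrArg Subtype.val (mem_bot.1 h1))
    obtain ⟨y, hy, hy1, c, z, -, hc⟩ := hmeet (M := ⊤) inferInstance hne'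
    have hyN : y ∈ N := hc ▸ hNn.conj_mem _ z.2 c
    intro w hw
    by_cases hw1 : w = 1
    · rw [hw1]; exact one_mem N
    obtain ⟨m, hm, -⟩ := htrans y hy hy1 w hw hw1
    exact hm ▸ hNn.conj_mem y hyN m
  have hLN : ∀ x : ↥L0, ι x ∈ N := by
    haveI : (N.comap ι).Normal := inferInstance
    have htop : N.comap ι = ⊤ := (hL0simp.eq_bot_or_eq_top_of_normal _ inferInstance).resolve_left fun e => by
      have h1 : (⟨s₁, hs₁L0⟩ : ↥L0) ∈ N.comap ι := hSN ((hSQmem _).2 ⟨s₁, hsS₁, rfl⟩)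
      rw [e, mem_bot] at h1
      exact involution_ne_one g.four.hv (congrArg Subtype.val h1)
    exact fun x => (htop ▸ mem_top x : x ∈ N.comap ι)
  -- normal subgroups of `N` contain a four-group of the Sylow subgroup
  have hfour : ∀ M : Subgroup ↥N, M.Normal → M ≠ ⊥ →
      4 ≤ Nat.card ((SQ : Subgroup (Qf f)) ⊓ M.map N.subtype : Subgroup (Qf f)) := by
    intro M hMn hMne
    set M' := M.map N.subtype with hM'
    have hnorm : ∀ a ∈ N, ∀ z ∈ M', a * z * a⁻¹ ∈ M' := by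
      rintro a ha _ ⟨z, hz, rfl⟩
      exact ⟨⟨a, ha⟩ * z * ⟨a, ha⟩⁻¹, hMn.conj_mem z hz _, rfl⟩
    -- an involution of `M` in the Sylow subgroup
    obtain ⟨⟨z, hzM⟩, hz⟩ := exists_prime_orderOf_dvd_card' (G := M) 2 (two_dvd_card hO hMn hMne)
    have hz2 : orderOf z = 2 := (Subgroup.orderOf_mk z hzM).symm.trans hz
    obtain ⟨R, hR⟩ := (CfsgLib.Signalizer.isPGroup_zpowers_involution hz2).exists_le_sylow
    obtain ⟨c, hc⟩ := MulAction.exists_smul_eq ↥N R (SQ.subtype hSN)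
    have hyM : ((c * z * c⁻¹ : ↥N) : Qf f) ∈ M' := ⟨_, hMn.conj_mem z hzM c, rfl⟩
    have hyS : c * z * c⁻¹ ∈ (SQ.subtype hSN : Subgroup ↥N) := by
      rw [← hc, Sylow.coe_subgroup_smul]
      exact Subgroup.smul_mem_pointwise_smul z (MulAut.conj c) _ (hR (mem_zpowers _))
    set y : Qf f := ((c * z * c⁻¹ : ↥N) : Qf f) with hy
    have hy1 : y ≠ 1 := fun e => involution_ne_one hz2 (conj_eq_one_iff.1 (Subtype.ext e : c * z * c⁻¹ = 1))
    obtain ⟨m, hm, hmS⟩ := htrans u₁ ((hSQmem _).2 ⟨s₁, hsS₁, rfl⟩) hu₁1 y (mem_subgroupOf.1 hyS) hy1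
    -- the conjugate of `L₀` by `m` meets `M`, so lies in it
    set j : ↥L0 →* Qf f := (MulAut.conj m).toMonoidHom.comp ι with hj
    haveI : (M'.comap j).Normal := ⟨fun a ha b => by
      show j (b * a * b⁻¹) ∈ M'
      rw [map_mul, map_mul, map_inv]
      exact hnorm _ (hNn.conj_mem _ (hLN b) m) _ ha⟩
    have hu₁j : (⟨s₁, hs₁L0⟩ : ↥L0) ∈ M'.comap j := by
      show m * u₁ * m⁻¹ ∈ M'
      rw [hm]; exact hyM
    have htop : M'.comap j = ⊤ := (hL0simp.eq_bot_or_eq_top_of_normal _ inferInstance).resolve_left fun e => by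
      rw [e, mem_bot] at hu₁j
      exact involution_ne_one g.four.hv (congrArg Subtype.val hu₁j)
    have hmem : ∀ a ∈ ι.range, a ∈ (SQ : Subgroup (Qf f)) → m * a * m⁻¹ ∈ (SQ : Subgroup (Qf f)) ⊓ M' := by
      rintro _ ⟨x, rfl⟩ ha
      exact ⟨hmS _ ha, (htop ▸ mem_top x : x ∈ M'.comap j)⟩
    have hsub : ({1, m * u₁ * m⁻¹, m * u₂ * m⁻¹, m * (u₁ * u₂) * m⁻¹} : Set (Qf f)) ⊆
        ((SQ : Subgroup (Qf f)) ⊓ M' : Subgroup (Qf f)) := by
      have h1S : u₁ ∈ (SQ : Subgroup (Qf f)) := (hSQmem _).2 ⟨s₁, hsS₁, rfl⟩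
      have h2S : u₂ ∈ (SQ : Subgroup (Qf f)) := (hSQmem _).2 ⟨s₂, hsS₂, rfl⟩
      rintro a (rfl | rfl | rfl | rfl)
      · exact one_mem _
      · exact hmem _ hu₁R h1S
      · exact hmem _ hu₂R h2S
      · exact hmem _ (mul_mem hu₁R hu₂R) (mul_mem h1S h2S)
    have hu₁₂ : u₁ * u₂ ≠ 1 := fun e => hu12 (mul_left_cancel
      ((hSQsq u₁ ((hSQmem _).2 ⟨s₁, hsS₁, rfl⟩)).trans e.symm))
    have e4 : ({1, m * u₁ * m⁻¹, m * u₂ * m⁻¹, m * (u₁ * u₂) * m⁻¹} : Set (Qf f)).ncard = 4 := by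
      have hi : ∀ a c : Qf f, a ≠ c → m * a * m⁻¹ ≠ m * c * m⁻¹ := fun a c hac e =>
        hac ((MulAut.conj m).injective e)
      have h1 : ∀ a : Qf f, a ≠ 1 → (1 : Qf f) ≠ m * a * m⁻¹ := fun a ha e => ha (conj_eq_one_iff.1 e.symm)
      rw [Set.ncard_insert_of_notMem, Set.ncard_insert_of_notMem, Set.ncard_pair]
      · exact hi _ _ fun e => hu₁1 (right_eq_mul.1 e)
      · rintro (e | e)
        · exact hi _ _ hu12 e
        · exact hi _ _ (fun e' => hu₂1 (left_eq_mul.1 e')) e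
      · rintro (e | e | e)
        · exact h1 _ hu₁1 e
        · exact h1 _ hu₂1 e
        · exact h1 _ hu₁₂ e
    exact e4.ge.trans ((Set.ncard_le_ncard hsub).trans (Nat.card_coe_set_eq _).ge)
  -- `N` is simple
  haveI : Nontrivial ↥N := ⟨⟨⟨τ, hSN hτS⟩, 1, fun e => hτ1 (congrArg Subtype.val e)⟩⟩
  have hNsimp : IsSimpleGroup ↥N := by
    refine ⟨fun M0 hM0 => or_iff_not_imp_left.2 fun hM0ne => ?_⟩
    obtain ⟨M, ⟨hMn, hMne, hMM0⟩, hMmin⟩ := Set.Finite.exists_minimalFor (fun K : Subgroup ↥N => Nat.card K)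
      {K : Subgroup ↥N | K.Normal ∧ K ≠ ⊥ ∧ K ≤ M0} (Set.toFinite _) ⟨M0, hM0, hM0ne, le_rfl⟩
    have hn : (M.map N.subtype).Normal := by
      refine ⟨fun a ha q => ?_⟩
      set σ : MulAut ↥N := MulAut.conjNormal q with hσ
      set M1 := M.map (σ : ↥N ≃* ↥N).toMonoidHom with hM1
      have hM1n : M1.Normal := hMn.map _ σ.surjective
      have hM1ne : M1 ≠ ⊥ := fun e => hMne ((map_eq_bot_iff_of_injective _ σ.injective).1 e)
      obtain ⟨a', ha', rfl⟩ := ha
      have hσa : σ a' ∈ M1 := ⟨a', ha', rfl⟩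
      suffices M1 = M from ⟨σ a', this ▸ hσa, rfl⟩
      by_cases hmeet' : M ⊓ M1 = ⊥
      · exfalso
        have h1 := hfour M hMn hMne
        have h2 := hfour M1 hM1n hM1ne
        set W := (SQ : Subgroup (Qf f)) ⊓ M.map N.subtype with hW
        set W1 := (SQ : Subgroup (Qf f)) ⊓ M1.map N.subtype with hW1
        let ψ : W × W1 → (SQ : Subgroup (Qf f)) := fun x => ⟨x.1 * x.2, mul_mem x.1.2.1 x.2.2.1⟩
        have hψ : Function.Injective ψ := by
          rintro ⟨a, c⟩ ⟨a', c'⟩ e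
          have e' : (a : Qf f) * c = a' * c' := congrArg Subtype.val e
          have h3 : (a' : Qf f)⁻¹ * a = c' * (c : Qf f)⁻¹ := by
            rw [eq_mul_inv_iff_mul_eq, mul_assoc, e', inv_mul_cancel_left]
          have h4 : (a' : Qf f)⁻¹ * a ∈ (M ⊓ M1).map N.subtype := by
            rw [map_inf _ _ _ N.subtype_injective]
            exact ⟨(M.map N.subtype).mul_mem ((M.map N.subtype).inv_mem a'.2.2) a.2.2,
              h3 ▸ (M1.map N.subtype).mul_mem c'.2.2 ((M1.map N.subtype).inv_mem c.2.2)⟩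
          rw [hmeet', Subgroup.map_bot, mem_bot] at h4
          have ha' : (a' : Qf f) = a := inv_mul_eq_one.1 h4
          have hc' : (c : Qf f) = c' := by rw [ha'] at e'; exact mul_left_cancel e'
          exact Prod.ext (Subtype.ext ha'.symm) (Subtype.ext hc')
        have h5 := Nat.card_le_card_of_injective ψ hψ
        rw [Nat.card_prod, hSQ8] at h5
        have := Nat.mul_le_mul h1 h2
        omega
      · have h1 : M ⊓ M1 = M := eq_of_le_of_card_ge inf_le_left (hMmin ⟨inferInstance, hmeet',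
          inf_le_left.trans hMM0⟩ (card_le_of_le inf_le_left))
        exact (eq_of_le_of_card_ge (inf_eq_left.1 h1) (card_map_of_injective σ.injective).le).symm
    have hle : M.map N.subtype ≤ N := map_subtype_le M
    have heq : M.map N.subtype = N := eq_of_le_of_card_ge hle (hNmin ⟨hn, fun e =>
      hMne ((map_eq_bot_iff_of_injective _ N.subtype_injective).1 e)⟩ (card_le_of_le hle))
    refine eq_top_iff.2 fun x _ => hMM0 ?_
    obtain ⟨y, hy, hyx⟩ := (heq.symm ▸ x.2 : (x : Qf f) ∈ M.map N.subtype)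
    rwa [Subtype.ext hyx] at hy
  -- the type of `N`
  have hAN : AbSylow ↥N := CfsgLib.AbelianSolvCent.abSylow_subgroup hAQ N
  have hρ : ∀ x : ↥L0, (⟨ι x, hLN x⟩ : ↥N) = ι.codRestrict N hLN x := fun x => rfl
  set κ : ↥L0 →* ↥N := ι.codRestrict N hLN with hκ
  have hκinj : Function.Injective κ := fun a c e => hιinj (congrArg Subtype.val e)
  have hL0nc : ¬ IsMulCommutative ↥L0 := CfsgLib.Walter.Sections.not_comm
    ((show IsOddType ↥L0 from ⟨F₀, inferInstance, inferInstance, by omega, T.mod8₀, ⟨e0⟩⟩).pslData)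
  haveI := hNsimp
  have hNnc : ¬ IsMulCommutative ↥N := fun hc => hL0nc
    ⟨⟨fun a c => hκinj (by rw [map_mul, map_mul]; exact hc.is_comm.comm _ _)⟩⟩
  have h8N : 8 ∣ Nat.card ↥N := hSQ8 ▸ Subgroup.card_dvd_of_le hSN
  have hJR : IsJRType ↥N := by
    rcases hST ↥N hNnc hAN with h2 | hodd | hjr
    · exfalso
      obtain ⟨m, hm, K, _, _, hK, ⟨eK⟩⟩ := h2
      have hc := CfsgLib.Classical.Two.card_PSL_two (F := K)
      rw [hK] at hc
      have hg : Nat.gcd 2 (2 ^ m - 1) = 1 := by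
        have : 2 ∣ 2 ^ m := dvd_pow_self 2 (by omega)
        have : 1 ≤ 2 ^ m := Nat.one_le_two_pow
        exact Nat.coprime_two_left.2 (Nat.odd_iff.2 (by omega))
      rw [hg, one_mul, ← Nat.card_congr eK.toEquiv] at hc
      obtain ⟨S', hS'⟩ := ((SQ.subtype hSN).isPGroup').exists_le_sylow
      have h4 : ¬ 16 ∣ Nat.card ↥N := fun h16 => by
        have h17 := (SQ.subtype hSN).dvd_card_of_dvd_card
        have h18 := (SQ.subtype hSN).pow_dvd_card_of_pow_dvd_card (n := 4) h16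
        rw [show Nat.card (SQ.subtype hSN : Subgroup ↥N) = 8 from
          (Nat.card_congr (subgroupOfEquivOfLe hSN).toEquiv).trans hSQ8] at h18
        norm_num at h18
      have hm3 : m ≤ 3 := by
        by_contra hlt
        exact h4 (hc ▸ Dvd.dvd.mul_right (pow_dvd_pow 2 (by omega : 4 ≤ m)) _)
      have h660 : Nat.card ↥L0 ≤ Nat.card ↥N := Nat.card_le_card_of_injective κ hκinj
      replace h660 : Nat.card (P2 F₀) ≤ Nat.card ↥N := (Nat.card_congr e0.toEquiv).symm.trans_le h660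
      have h1320 : 1320 ≤ 2 * Nat.card (P2 F₀) := by
        rw [T.two_card_psl]
        have : 11 ^ 2 ≤ Fintype.card F₀ ^ 2 := Nat.pow_le_pow_left hbig 2
        calc 1320 = 11 * (11 ^ 2 - 1) := by norm_num
          _ ≤ Fintype.card F₀ * (Fintype.card F₀ ^ 2 - 1) := Nat.mul_le_mul hbig (by omega)
      interval_cases m <;> norm_num at hc <;> omega
    · exfalso
      have h1 := hodd.pslData.two_pow
      have h2 : 3 ≤ (Nat.card ↥N).factorization 2 :=
        (Nat.prime_two.pow_dvd_iff_le_factorization Nat.card_pos.ne').1 (by simpa using h8N)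
      omega
    · exact hjr
  set τN : ↥N := ⟨τ, hSN hτS⟩ with hτN
  have hτN2 : orderOf τN = 2 := by
    rw [hτN, Subgroup.orderOf_mk]
    exact orderOf_eq_two_of hτ1 (hSQsq τ hτS)
  obtain ⟨E', hprod, F', _, _, h5', h8', L', hL'n, ⟨eL'⟩, hcen'⟩ := hJR.2.2.2 τN hτN2
  have hset := setting_of hJR hτN2 hprod h5' h8' L' hL'n eL' hcen'
  set L1 : Subgroup ↥N := L'.map E'.subtype with hL1
  have hlt : Nat.card ↥N < Nat.card G := by
    have h1 : Nat.card (Qf f) * Nat.card (Zf f) = Nat.card ↥(Cf f) :=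
      (card_eq_card_quotient_mul_card_subgroup _).symm
    have h2 : Nat.card (Zf f) = p ^ b := by
      rw [Zf, Nat.card_congr (subgroupOfEquivOfLe (zpowers_le.2 (mem_Cf.2 rfl) : zpowers f ≤ Cf f)).toEquiv,
        Nat.card_zpowers, T.order]
    have h3 := card_le_card_group N
    have h4 := card_le_card_group (Cf f)
    have h5 : 1 < p ^ b := Nat.one_lt_pow T.pos.ne' T.prime.one_lt
    have h6 : Nat.card (Qf f) < Nat.card (Qf f) * Nat.card (Zf f) :=
      lt_mul_of_one_lt_right Nat.card_pos (h2.symm ▸ h5)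
    omega
  have hEL : E' ≤ L1 := hset.eq_of_n_eq_one (hB ↥N hlt τN E' L1 F' hset)
  have hEeq : E' = L1 := le_antisymm hEL (map_subtype_le L')
  -- `L₀` is the component
  have hLform : ∀ c : ↥N, c * τN = τN * c → c ∈ L1 ∨ τN * c ∈ L1 := fun c hc => by
    obtain ⟨e, he, hce | hce⟩ := hset.loc.form c (mem_centralizer_singleton_iff.2 hc)
    · exact Or.inl (hce ▸ hEL he)
    · refine Or.inr (hEL ?_)
      rw [hce, ← mul_assoc, ← pow_two, ← hτN2, pow_orderOf_eq_one, one_mul]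
      exact he
  have hκτ : ∀ x : ↥L0, κ x * τN = τN * κ x := fun x => Subtype.ext (by
    show π ⟨(x : G), hL0C x.2⟩ * π ⟨t, htf⟩ = π ⟨t, htf⟩ * π ⟨(x : G), hL0C x.2⟩
    rw [← map_mul, ← map_mul]
    exact congrArg π (Subtype.ext (h.comm (h.le x.2.1))))
  have hκL : ∀ x : ↥L0, κ x ∈ L1 := by
    haveI := hset.simple_L
    -- squares land in `L1`, and `L₀` is perfect
    have hperf : commutator ↥L0 = ⊤ := (hL0simp.eq_bot_or_eq_top_of_normal _ inferInstance).resolve_left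
      fun e => hL0nc ⟨⟨fun a c => commutatorElement_eq_one_iff_mul_comm.1 (mem_bot.1
        (e ▸ commutator_mem_commutator (mem_top a) (mem_top c)))⟩⟩
    have hle : (⊤ : Subgroup ↥L0) ≤ L1.comap κ := by
      rw [← hperf, _root_.commutator_def, commutator_le]
      intro a _ c _
      show κ ⁅a, c⁆ ∈ L1
      rw [map_commutatorElement]
      have hτc : ∀ e ∈ L1, Commute τN e := fun e he => (hset.comm (map_subtype_le L' he)).symm
      have key : ∀ y : ↥L0, ∃ i : ℕ, ∃ e ∈ L1, κ y = τN ^ i * e := fun y => by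
        rcases hLform _ (hκτ y) with h1 | h1
        · exact ⟨0, κ y, h1, by rw [pow_zero, one_mul]⟩
        · refine ⟨1, τN * κ y, h1, ?_⟩
          rw [pow_one, ← mul_assoc, ← pow_two, ← hτN2, pow_orderOf_eq_one, one_mul]
      obtain ⟨i, ea, hea, hka⟩ := key a
      obtain ⟨j, ec, hec, hkc⟩ := key c
      have e : ⁅κ a, κ c⁆ = ⁅ea, ec⁆ := by
        rw [hka, hkc, commutatorElement_def, commutatorElement_def]
        have h1 : Commute (τN ^ i) ea := (hτc ea hea).pow_left i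
        have h2 : Commute (τN ^ j) ec := (hτc ec hec).pow_left j
        have h3 : Commute (τN ^ j) ea := (hτc ea hea).pow_left j
        have h4 : Commute (τN ^ i) ec := (hτc ec hec).pow_left i
        have h5 : Commute (τN ^ i) (τN ^ j) := Commute.pow_pow_self τN i j
        calc τN ^ i * ea * (τN ^ j * ec) * (τN ^ i * ea)⁻¹ * (τN ^ j * ec)⁻¹
            = τN ^ i * (ea * τN ^ j) * (ec * ea⁻¹) * ((τN ^ i)⁻¹ * ec⁻¹) * (τN ^ j)⁻¹ := by group
          _ = τN ^ i * (τN ^ j * ea) * (ec * ea⁻¹) * (ec⁻¹ * (τN ^ i)⁻¹) * (τN ^ j)⁻¹ := by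
            rw [h3.symm.eq, h4.inv_inv.eq]
          _ = (τN ^ i * τN ^ j) * (ea * ec * ea⁻¹ * ec⁻¹) * (τN ^ j * τN ^ i)⁻¹ := by group
          _ = (ea * ec * ea⁻¹ * ec⁻¹) * (τN ^ i * τN ^ j) * (τN ^ j * τN ^ i)⁻¹ := by
            rw [(((h1.mul_right h4).mul_right h1.inv_right).mul_right h4.inv_right |>.mul_left
              (((h3.mul_right h2).mul_right h3.inv_right).mul_right h2.inv_right)).eq]
          _ = ea * ec * ea⁻¹ * ec⁻¹ := by rw [h5.eq, mul_inv_cancel_right]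
      rw [e, commutatorElement_def]
      exact mul_mem (mul_mem (mul_mem hea hec) (inv_mem hea)) (inv_mem hec)
    exact fun x => hle (mem_top x)
  have hκrange : κ.range = L1 := by
    haveI := hset.simple_L
    have hn : ((κ.range).subgroupOf L1).Normal := by
      refine ⟨?_⟩
      rintro ⟨a, haL⟩ ha ⟨q, hqL⟩
      obtain ⟨x, rfl⟩ := MonoidHom.mem_range.1 (mem_subgroupOf.1 ha)
      obtain ⟨w, hw⟩ := QuotientGroup.mk'_surjective _ (q : Qf f)
      have hwt : (w : G) * t = t * w := T.commute_lift (by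
        rw [hw]; exact congrArg Subtype.val (hset.comm (map_subtype_le L' hqL)))
      have hyL : (w : G) * x * (w : G)⁻¹ ∈ L0 :=
        ⟨(mem_normalizer_iff.1 (h.loc.C_le_normalizer (mem_centralizer_singleton_iff.2 hwt)) x).1 x.2.1,
          (Cf f).mul_mem ((Cf f).mul_mem w.2 (hL0C x.2)) ((Cf f).inv_mem w.2)⟩
      refine mem_subgroupOf.2 ⟨⟨_, hyL⟩, Subtype.ext ?_⟩
      show π ⟨(w : G) * x * (w : G)⁻¹, _⟩ = (q : Qf f) * π ⟨(x : G), hL0C x.2⟩ * (q : Qf f)⁻¹
      rw [← hw, ← map_inv, ← map_mul, ← map_mul]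
      exact congrArg π (Subtype.ext rfl)
    have hle : κ.range ≤ L1 := by rintro _ ⟨x, rfl⟩; exact hκL x
    refine le_antisymm hle (subgroupOf_eq_top.1 (hn.eq_bot_or_eq_top.resolve_left fun e => ?_))
    have h1 : (⟨κ ⟨s₁, hs₁L0⟩, hκL _⟩ : ↥L1) ∈ (κ.range).subgroupOf L1 := mem_subgroupOf.2 ⟨_, rfl⟩
    rw [e, mem_bot] at h1
    exact involution_ne_one g.four.hv (congrArg Subtype.val (hκinj
      ((congrArg Subtype.val h1).trans (map_one κ).symm)))
  obtain ⟨eC⟩ := Field.cent_equiv hτN2 hprod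
  refine ⟨htf, N, ?_, hNn, hNsimp, fun P a c => (hAN P).is_comm.comm a c, hSN hτS, ⟨?_⟩⟩
  · exact fun x hx => g.no_fusion T.mem hx
  · have eE : ↥E' ≃* P2 F₀ := (MulEquiv.subgroupCongr (hEeq.trans hκrange.symm)).trans
      ((MonoidHom.ofInjective hκinj).symm.trans e0)
    exact eC.trans ((MulEquiv.refl _).prodCongr eE)

end Top

/-- The data of `C(f)/⟨f⟩` from the structure theorem. -/
theorem levelStatement (hST : StructureTheorem.{u}) : LevelStatement.{u} :=
  fun _ _ _ _ _ _ _ _ _ _ _ _ _ _ _ _ _ _ _ T hbig hB => T.exists_level hST hbig hB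

/-- **Fixed fields of at least eleven elements have characteristic three.** -/
theorem stepChar (hST : StructureTheorem.{u}) : StepChar.{u} := by
  intro G _ _ t E L F _ _ h Φ s₁ s₂ p b f F₀ _ _ T hbig hB
  obtain ⟨htf, X, Lv⟩ := T.exists_level hST hbig hB
  haveI := Lv.simp
  rcases Cfsg.Agent.S0343.result Lv.ab (by omega) (⟨_, Lv.tmem⟩ : ↥X) (Lv.order_tbar T) Lv.cent with
    ⟨m, -, hq, -⟩ | ⟨h45, -⟩
  · haveI : Fact (Nat.Prime 3) := ⟨Nat.prime_three⟩
    refine charP_of_card_eq_prime_pow (p := 3) (f := (2 * m + 1) * p ^ b) ?_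
    rw [T.card, hq, ← pow_mul]
  · omega

end CfsgLib.Walter.Field
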