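import Cfsg.Agent.Lib.Recog.Walter.Structure
import Cfsg.Agent.Lib.Recog.Walter.Field.FinalGated
import Cfsg.Agent.Lib.Recog.Walter.Field.Induct
import Cfsg.Agent.Lib.Recog.Walter.Field.Big.Step

/-!
Owner: helper12. Walter, field part and list: what is left are the fixed fields of three and of five elements.
-/

set_option autoImplicit false

namespace CfsgLib.Walter.Field

universe u

/-- **The field part** from the two small fixed fields. -/
theorem fieldTrivial_of_small (h5 : StepFive.{u}) (h3 : StepThree.{u}) : FieldTrivial.{u} :=
  fieldTrivial_of_cases h5 h3 (stepChar structureTheorem) (stepBig (levelStatement structureTheorem))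

/-- **The list** from the two small fixed fields. -/
theorem walterList_of_small (h5 : StepFive.{u}) (h3 : StepThree.{u}) : WalterList.{u} :=
  walterList_of structureTheorem (fieldTrivial_of_small h5 h3)

end CfsgLib.Walter.Field
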