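import Mathlib

/-!
Owner: helper22. The arithmetic behind "no central extension" (section D of `notes/walter_field_helper22.md`).
-/

set_option autoImplicit false
set_option linter.all false
set_option maxHeartbeats 400000

namespace CfsgLib.Recog.Walter.FieldHecke

/-- `3 ^ j + 1 ∣ 3 ^ m + 1` with `j ≤ m ≤ 3 j` -/
theorem exp_cases {j m : ℕ} (hj : 1 ≤ j) (hjm : j ≤ m) (hm : m ≤ 3 * j) (h : 3 ^ j + 1 ∣ 3 ^ m + 1) :
    m = j ∨ m = 3 * j := by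
  have hZ : (3 : ℤ) ^ j + 1 ∣ (3 : ℤ) ^ m + 1 := by exact_mod_cast h
  have h3 : 3 ≤ 3 ^ j := Nat.le_self_pow (by omega) 3
  rcases lt_or_ge m (2 * j) with h2 | h2
  · left
    by_contra hne
    have hd : (3 : ℤ) ^ j + 1 ∣ (3 : ℤ) ^ (m - j) - 1 := by
      have := dvd_sub (dvd_mul_right ((3 : ℤ) ^ j + 1) ((3 : ℤ) ^ (m - j))) hZ
      rwa [add_mul, one_mul, ← pow_add, show j + (m - j) = m by omega, add_sub_add_left_eq_sub] at this
    have hlt : 3 ^ (m - j) < 3 ^ j := Nat.pow_lt_pow_right (by norm_num) (by omega)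
    have hge : 3 ≤ 3 ^ (m - j) := Nat.le_self_pow (by omega) 3
    have h1 := Int.le_of_dvd (by
      have : (3 : ℤ) ≤ (3 : ℤ) ^ (m - j) := by exact_mod_cast hge
      linarith) hd
    have : (3 : ℤ) ^ (m - j) < (3 : ℤ) ^ j := by exact_mod_cast hlt
    linarith
  · right
    by_contra hne
    obtain ⟨d, rfl⟩ : ∃ d, m = 2 * j + d := ⟨m - 2 * j, by omega⟩
    have hd : (3 : ℤ) ^ j + 1 ∣ (3 : ℤ) ^ d + 1 := by
      have h1 : (3 : ℤ) ^ j + 1 ∣ ((3 : ℤ) ^ j * 3 ^ j - 1) * 3 ^ d :=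
        Dvd.dvd.mul_right ⟨(3 : ℤ) ^ j - 1, by ring⟩ _
      have := dvd_sub hZ h1
      rwa [show (3 : ℤ) ^ (2 * j + d) + 1 - ((3 : ℤ) ^ j * 3 ^ j - 1) * 3 ^ d = 3 ^ d + 1 by
        rw [pow_add, two_mul, pow_add]; ring] at this
    have h1 := Int.le_of_dvd (by positivity) hd
    have : (3 : ℤ) ^ d < (3 : ℤ) ^ j := by
      exact_mod_cast Nat.pow_lt_pow_right (show 1 < 3 by norm_num) (show d < j by omega)
    linarith

theorem eq_three_pow {x : ℤ} {m : ℕ} (h : x ∣ (3 : ℤ) ^ m) : ∃ i, i ≤ m ∧ (x = 3 ^ i ∨ x = -3 ^ i) := by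
  obtain ⟨i, hi, e⟩ := (Nat.dvd_prime_pow Nat.prime_three).1
    (show x.natAbs ∣ 3 ^ m by
      have := Int.natAbs_dvd_natAbs.2 h
      simpa [Int.natAbs_pow] using this)
  refine ⟨i, hi, ?_⟩
  rcases Int.natAbs_eq x with e' | e' <;> rw [e'] <;> [left; right] <;> rw [e] <;> simp

theorem arith_half {n p : ℕ} (hn : 1 ≤ n) (hp : p.Prime) (hp5 : 5 ≤ p)
    (hΦ : (p : ℤ) ∣ (3 : ℤ) ^ (2 * n) - 3 ^ n + 1) {a b i j : ℕ} (s : ℤ) (hs : s = 1 ∨ s = -1) (ta tb : ℤ)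
    (hij : 2 * i + j = 3 * n) (hab : a + b = 3 ^ (3 * n) + 1) (hpb : p ∣ b) (hweight : a = 3 ^ j * b)
    (hR : (s * 3 ^ i) * ta + (-(s * 3 ^ (i + j))) * tb = (3 : ℤ) ^ (3 * n) - 3 ^ n)
    (hκ : (p : ℤ) ∣ s * (3 ^ i - 3 ^ (i + j)) - ((3 : ℤ) ^ (3 * n) - 1)) : False := by
  have hb : b * (3 ^ j + 1) = 3 ^ (3 * n) + 1 := by rw [← hab, hweight]; ring
  have hdvd : 3 ^ j + 1 ∣ 3 ^ (3 * n) + 1 := ⟨b, by rw [← hb, mul_comm]⟩
  -- the power of three in the last equation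
  have hin : i ≤ n := by
    by_contra h
    have h1 : (3 : ℤ) ^ i ∣ (3 : ℤ) ^ (3 * n) - 3 ^ n := ⟨s * ta - s * 3 ^ j * tb, by rw [← hR, pow_add]; ring⟩
    obtain ⟨k, hk⟩ := h1
    obtain ⟨d, rfl⟩ : ∃ d, i = n + 1 + d := ⟨i - n - 1, by omega⟩
    have h2 : (3 : ℤ) ^ n * ((3 : ℤ) ^ (2 * n) - 1) = 3 ^ n * (3 * (3 ^ d * k)) := by
      have e : (3 : ℤ) ^ n * ((3 : ℤ) ^ (2 * n) - 1) = 3 ^ (3 * n) - 3 ^ n := by
        rw [mul_sub, ← pow_add, show n + 2 * n = 3 * n by ring, mul_one]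
      rw [e, hk, pow_add, pow_succ]; ring
    have h3 := mul_left_cancel₀ (pow_ne_zero n (show (3 : ℤ) ≠ 0 by norm_num)) h2
    have h4 : (3 : ℤ) ∣ (3 : ℤ) ^ (2 * n) := dvd_pow_self 3 (by omega)
    have h5 : (3 : ℤ) ∣ 1 := by
      have := dvd_sub h4 ⟨3 ^ d * k, h3⟩
      simpa using this
    norm_num at h5
  rcases exp_cases (show 1 ≤ j by omega) (by omega) (by omega) hdvd with e | e
  · rw [← e] at hb
    have : b = 1 := Nat.eq_of_mul_eq_mul_right (m := 3 ^ (3 * n) + 1) (by positivity) (by rw [hb, one_mul])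
    rw [this] at hpb
    exact hp.ne_one (Nat.dvd_one.1 hpb)
  · have hj' : j = n := by omega
    have hi' : i = n := by omega
    rw [hj', hi'] at hκ
    have h2 : (p : ℤ) ∣ s + 2 := by
      have e : s + 2 = (s * (3 ^ n - 3 ^ (n + n)) - ((3 : ℤ) ^ (3 * n) - 1)) +
          (s + ((3 : ℤ) ^ n + 1)) * ((3 : ℤ) ^ (2 * n) - 3 ^ n + 1) := by
        rw [show 3 * n = n + n + n by ring, two_mul, pow_add, pow_add]; ring
      rw [e]
      exact dvd_add hκ (hΦ.mul_left _)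
    rcases hs with rfl | rfl <;> norm_num at h2
    · have := Nat.le_of_dvd (by norm_num) (Int.natCast_dvd_natCast.1 (show (p : ℤ) ∣ ((3 : ℕ) : ℤ) by exact_mod_cast h2))
      omega
    · have := Int.le_of_dvd (by norm_num) h2
      omega

/-- no central extension: the degrees, eigenvalues and traces are impossible -/
theorem arith {n p : ℕ} (hn : 1 ≤ n) (hp : p.Prime) (hp5 : 5 ≤ p)
    (hΦ : (p : ℤ) ∣ (3 : ℤ) ^ (2 * n) - 3 ^ n + 1) {a b : ℕ} {x y ta tb : ℤ}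
    (hab : a + b = 3 ^ (3 * n) + 1) (hpa : p ∣ a) (hpb : p ∣ b) (hxy : x * y = -(3 : ℤ) ^ (3 * n))
    (hw : (a : ℤ) * x + b * y = 0) (hR : x * ta + y * tb = (3 : ℤ) ^ (3 * n) - 3 ^ n)
    (hκ : (p : ℤ) ∣ x + y - ((3 : ℤ) ^ (3 * n) - 1)) : False := by
  -- the smaller eigenvalue first
  suffices key : ∀ (a b : ℕ) (x y ta tb : ℤ), a + b = 3 ^ (3 * n) + 1 → p ∣ b →
      x * y = -(3 : ℤ) ^ (3 * n) → (a : ℤ) * x + b * y = 0 → x * ta + y * tb = (3 : ℤ) ^ (3 * n) - 3 ^ n →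
      (p : ℤ) ∣ x + y - ((3 : ℤ) ^ (3 * n) - 1) → |x| ≤ |y| → False by
    rcases le_total |x| |y| with h | h
    · exact key a b x y ta tb hab hpb hxy hw hR hκ h
    · exact key b a y x tb ta (by omega) hpa (by rw [mul_comm]; exact hxy) (by linarith) (by linarith)
        (by rwa [add_comm y x]) h
  intro a b x y ta tb hab hpb hxy hw hR hκ hle
  obtain ⟨i, him, hx⟩ := eq_three_pow (x := x) (m := 3 * n) ⟨-y, by rw [mul_neg, hxy, neg_neg]⟩
  obtain ⟨s, hs, hxs⟩ : ∃ s : ℤ, (s = 1 ∨ s = -1) ∧ x = s * 3 ^ i := by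
    rcases hx with e | e
    exacts [⟨1, Or.inl rfl, by rw [e, one_mul]⟩, ⟨-1, Or.inr rfl, by rw [e]; ring⟩]
  have hss : s * s = 1 := by rcases hs with e | e <;> rw [e] <;> norm_num
  have hy : y = -(s * 3 ^ (3 * n - i)) := by
    refine mul_left_cancel₀ (show x ≠ 0 by intro e; rw [e, zero_mul] at hxy; exact (pow_ne_zero (3 * n) (show (3 : ℤ) ≠ 0 by norm_num)) (neg_eq_zero.1 hxy.symm)) ?_
    rw [hxy, hxs, show -(3 : ℤ) ^ (3 * n) = -((s * s) * (3 ^ i * 3 ^ (3 * n - i))) by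
      rw [hss, ← pow_add, show i + (3 * n - i) = 3 * n by omega, one_mul]]
    ring
  have habs : ∀ k, |s * (3 : ℤ) ^ k| = 3 ^ k := fun k => by
    rcases hs with e | e <;> rw [e] <;> simp
  rw [hxs, hy, abs_neg, habs, habs] at hle
  have hile : i ≤ 3 * n - i := by
    have : 3 ^ i ≤ 3 ^ (3 * n - i) := by exact_mod_cast hle
    exact (Nat.pow_le_pow_iff_right (by norm_num)).1 this
  obtain ⟨j, hj⟩ : ∃ j, 2 * i + j = 3 * n := ⟨3 * n - 2 * i, by omega⟩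
  rw [show 3 * n - i = i + j by omega] at hy
  refine arith_half hn hp hp5 hΦ s hs ta tb hj hab hpb ?_ (by rw [← hxs, ← hy]; exact hR) ?_
  · have h : ((a : ℤ) - 3 ^ j * b) * (s * 3 ^ i) = 0 := by
      rw [hxs, hy, pow_add] at hw
      linear_combination hw
    rcases mul_eq_zero.1 h with e | e
    · exact_mod_cast sub_eq_zero.1 e
    · rcases hs with e' | e' <;> rw [e'] at e <;> simp at e
  · rwa [hxs, hy, show s * 3 ^ i + -(s * 3 ^ (i + j)) = s * ((3 : ℤ) ^ i - 3 ^ (i + j)) by ring] at hκ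

end CfsgLib.Recog.Walter.FieldHecke
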