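import Mathlib

/-!
Owner: helper22. An operator with a quadratic equation commuting with an involution: the eigenvalues and the traces
(section D of `notes/walter_field_helper22.md`).
-/

set_option autoImplicit false
set_option linter.all false
set_option maxHeartbeats 400000

namespace CfsgLib.Recog.Walter.FieldHecke

open Module

variable {V : Type*} [AddCommGroup V] [Module ℂ V] [FiniteDimensional ℂ V]

/-- the trace of an idempotent -/
theorem trace_idem {P : V →ₗ[ℂ] V} (h : P * P = P) :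
    LinearMap.trace ℂ V P = (finrank ℂ (LinearMap.range P) : ℂ) := by
  have hproj : LinearMap.IsProj (LinearMap.range P) P :=
    ⟨fun x => LinearMap.mem_range_self P x, by
      rintro _ ⟨y, rfl⟩
      exact LinearMap.congr_fun h y⟩
  exact hproj.trace

/-- a central element of the commutator subgroup acts on an invariant subspace with determinant one -/
theorem det_rank {C : Type*} [Group C] (ρ : C →* V →ₗ[ℂ] V) {P : V →ₗ[ℂ] V} (hP : P * P = P)
    (hcomm : ∀ g, P * ρ g = ρ g * P) {f : C} {z : ℂ} (hf : f ∈ commutator C) (hz : ρ f = z • 1) :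
    z ^ finrank ℂ (LinearMap.range P) = 1 := by
  classical
  set W := LinearMap.range P
  have hW : ∀ g, ∀ v ∈ W, ρ g v ∈ W := by
    rintro g _ ⟨y, rfl⟩
    exact ⟨ρ g y, LinearMap.congr_fun (hcomm g) y⟩
  let r : C →* (W →ₗ[ℂ] W) :=
    { toFun := fun g => (ρ g).restrict (hW g)
      map_one' := LinearMap.ext fun v => Subtype.ext (by
        show ρ 1 (v : V) = v
        rw [map_one]; rfl)
      map_mul' := fun g h => LinearMap.ext fun v => Subtype.ext (by
        show ρ (g * h) (v : V) = ρ g (ρ h v)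
        rw [map_mul]; rfl) }
  let δ : C →* ℂˣ := ((LinearMap.det : (W →ₗ[ℂ] W) →* ℂ).comp r).toHomUnits
  have h1 : δ f = 1 := MonoidHom.mem_ker.1 (Abelianization.commutator_subset_ker δ hf)
  have h2 : r f = z • 1 := LinearMap.ext fun v => Subtype.ext (by
    show ρ f (v : V) = _
    rw [hz]; rfl)
  have h3 : LinearMap.det (r f) = 1 := by
    have := congrArg Units.val h1
    simpa [δ] using this
  rwa [h2, LinearMap.det_smul, map_one, mul_one] at h3

variable {T S : V →ₗ[ℂ] V} {m : ℕ} {κ : ℂ}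

/-- the roots of `X ^ 2 - κ X - m` -/
theorem exists_roots (κ : ℂ) (m : ℕ) : ∃ x y : ℂ, x + y = κ ∧ x * y = -(m : ℂ) := by
  obtain ⟨d, hd⟩ := IsAlgClosed.exists_eq_mul_self (κ ^ 2 + 4 * (m : ℂ))
  exact ⟨(κ + d) / 2, (κ - d) / 2, by ring, by linear_combination (1 / 4 : ℂ) * hd⟩

theorem isIntegral_root {x y : ℂ} (hκ : IsIntegral ℤ κ) (hs : x + y = κ) (hp : x * y = -(m : ℂ)) :
    IsIntegral ℤ x := by
  have hmem : κ ∈ integralClosure ℤ ℂ := hκ
  have hx : IsIntegral (integralClosure ℤ ℂ) x := by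
    refine ⟨Polynomial.X ^ 2 - Polynomial.C ⟨κ, hκ⟩ * Polynomial.X - Polynomial.C (m : integralClosure ℤ ℂ),
      by monicity!, ?_⟩
    simp only [Polynomial.eval₂_sub, Polynomial.eval₂_pow, Polynomial.eval₂_X, Polynomial.eval₂_mul,
      Polynomial.eval₂_C]
    show x ^ 2 - κ * x - algebraMap (integralClosure ℤ ℂ) ℂ (m : integralClosure ℤ ℂ) = 0
    rw [map_natCast, ← hs]
    linear_combination -hp
  exact isIntegral_trans x hx

theorem int_of_rat {x : ℂ} (hx : IsIntegral ℤ x) {r : ℚ} (hr : x = r) : ∃ z : ℤ, x = z := by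
  have h : IsIntegral ℤ r := by
    refine (isIntegral_algHom_iff ((Algebra.ofId ℚ ℂ).restrictScalars ℤ) (algebraMap ℚ ℂ).injective).mp ?_
    rw [show ((Algebra.ofId ℚ ℂ).restrictScalars ℤ) r = x by rw [hr]; simp]
    exact hx
  obtain ⟨z, hz⟩ := IsIntegrallyClosed.isIntegral_iff.mp h
  exact ⟨z, by rw [hr, ← hz]; simp⟩

/-- eigenvalues, multiplicities and traces -/
theorem spectral (hm : 0 < m) (hκ : IsIntegral ℤ κ) (hT : T * T = (m : ℂ) • 1 + κ • T) (hTS : T * S = S * T)
    (hS : S * S = 1) {N F : ℕ} {R : ℤ} (hN : finrank ℂ V = N) (hN0 : 0 < N) (htT : LinearMap.trace ℂ V T = 0)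
    (htS : LinearMap.trace ℂ V S = F) (htTS : LinearMap.trace ℂ V (T * S) = R) (hR : R ≠ 0) :
    ∃ (a b : ℕ) (x y ta tb : ℤ), a + b = N ∧ (a : ℤ) * x + b * y = 0 ∧ x * y = -(m : ℤ) ∧ κ = ((x + y : ℤ) : ℂ) ∧
      ta + tb = F ∧ x * ta + y * tb = R ∧
      ∃ P P' : V →ₗ[ℂ] V, P * P = P ∧ P' * P' = P' ∧ finrank ℂ (LinearMap.range P) = a ∧
        finrank ℂ (LinearMap.range P') = b ∧ (∀ L : V →ₗ[ℂ] V, T * L = L * T → P * L = L * P) ∧
        ∀ L : V →ₗ[ℂ] V, T * L = L * T → P' * L = L * P' := by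
  obtain ⟨x, y, hs, hp⟩ := exists_roots κ m
  have hm0 : (m : ℂ) ≠ 0 := Nat.cast_ne_zero.2 hm.ne'
  have hTxy : (T - x • 1) * (T - y • 1) = 0 := by
    rw [sub_mul, mul_sub, mul_sub, hT, smul_mul_assoc, one_mul, mul_smul_comm, mul_one, smul_mul_assoc, one_mul,
      smul_smul, ← hs, hp]
    module
  have hne : x - y ≠ 0 := by
    intro e
    rw [sub_eq_zero] at e
    subst e
    have hnil : IsNilpotent (T - x • 1) := ⟨2, by rw [pow_two]; exact hTxy⟩
    have h0 := (LinearMap.isNilpotent_trace_of_isNilpotent hnil).eq_zero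
    rw [map_sub, map_smul, htT, LinearMap.trace_one, hN, zero_sub, neg_eq_zero, smul_eq_mul, mul_eq_zero] at h0
    rcases h0 with h0 | h0
    · rw [h0, zero_mul, eq_comm, neg_eq_zero] at hp; exact hm0 hp
    · exact hN0.ne' (by exact_mod_cast h0)
  -- the two projections
  set P := (x - y)⁻¹ • (T - y • (1 : V →ₗ[ℂ] V)) with hPdef
  set P' := (x - y)⁻¹ • (x • (1 : V →ₗ[ℂ] V) - T) with hP'def
  have hsum : P + P' = 1 := by
    rw [hPdef, hP'def, ← smul_add, sub_add_sub_comm, add_comm (y • (1 : V →ₗ[ℂ] V)) T, add_sub_add_left_eq_sub,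
      ← sub_smul, smul_smul, inv_mul_cancel₀ hne, one_smul]
  have hP : P * P = P := by
    have h : (T - y • (1 : V →ₗ[ℂ] V)) * (T - y • 1) = (x - y) • (T - y • 1) := by
      have : (T - y • (1 : V →ₗ[ℂ] V)) * (T - y • 1) = (T - x • 1) * (T - y • 1) + (x - y) • (T - y • 1) := by
        rw [← one_mul ((x - y) • (T - y • (1 : V →ₗ[ℂ] V))), mul_smul_comm, ← smul_mul_assoc, ← add_mul]
        congr 1
        module
      rw [this, hTxy, zero_add]
    rw [hPdef, smul_mul_assoc, mul_smul_comm, h, smul_smul, smul_smul,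
      show (x - y)⁻¹ * (x - y)⁻¹ * (x - y) = (x - y)⁻¹ by field_simp]
  have hP' : P' * P' = P' := by
    have e : P' = 1 - P := eq_sub_of_add_eq' hsum
    rw [e, sub_mul, one_mul, mul_sub, mul_one, hP, sub_self, sub_zero]
  have hcomm : ∀ L : V →ₗ[ℂ] V, T * L = L * T → P * L = L * P := fun L h => by
    rw [hPdef, smul_mul_assoc, mul_smul_comm, sub_mul, mul_sub, h, smul_mul_assoc, mul_smul_comm, one_mul, mul_one]
  have hcomm' : ∀ L : V →ₗ[ℂ] V, T * L = L * T → P' * L = L * P' := fun L h => by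
    rw [show P' = 1 - P from eq_sub_of_add_eq' hsum, sub_mul, mul_sub, one_mul, mul_one, hcomm L h]
  have hTP : x • P + y • P' = T := by
    have e : T = (x - y)⁻¹ • ((x - y) • T) := by rw [smul_smul, inv_mul_cancel₀ hne, one_smul]
    conv_rhs => rw [e]
    rw [hPdef, hP'def, smul_comm x, smul_comm y, ← smul_add]
    congr 1
    module
  -- the traces on the two parts
  have htau : ∀ Q : V →ₗ[ℂ] V, Q * Q = Q → Q * S = S * Q → ∃ t : ℤ, LinearMap.trace ℂ V (Q * S) = t := by
    intro Q hQ hQS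
    have hE : ((1 / 2 : ℂ) • (Q + Q * S)) * ((1 / 2 : ℂ) • (Q + Q * S)) = (1 / 2 : ℂ) • (Q + Q * S) := by
      have e1 : Q * (Q * S) = Q * S := by rw [← mul_assoc, hQ]
      have e2 : Q * S * Q = Q * S := by rw [mul_assoc, ← hQS, e1]
      have e3 : Q * S * (Q * S) = Q := by rw [← mul_assoc, e2, mul_assoc, hS, mul_one]
      rw [smul_mul_assoc, mul_smul_comm, add_mul, mul_add, mul_add, hQ, e1, e2, e3, smul_smul]
      module
    have h1 := trace_idem hE
    rw [map_smul, map_add, trace_idem hQ, smul_eq_mul] at h1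
    refine ⟨2 * (finrank ℂ (LinearMap.range ((1 / 2 : ℂ) • (Q + Q * S))) : ℤ) -
      (finrank ℂ (LinearMap.range Q) : ℤ), ?_⟩
    push_cast
    linear_combination 2 * h1
  obtain ⟨ta, hta⟩ := htau P hP (hcomm S hTS)
  obtain ⟨tb, htb⟩ := htau P' hP' (hcomm' S hTS)
  set a := finrank ℂ (LinearMap.range P) with ha
  set b := finrank ℂ (LinearMap.range P') with hb
  have e1 : (a : ℂ) + b = (N : ℂ) := by
    rw [ha, hb, ← trace_idem hP, ← trace_idem hP', ← map_add, hsum, LinearMap.trace_one, hN]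
  have e2 : (a : ℂ) * x + b * y = 0 := by
    rw [ha, hb, ← trace_idem hP, ← trace_idem hP', mul_comm _ x, mul_comm _ y, ← smul_eq_mul, ← smul_eq_mul,
      ← map_smul, ← map_smul, ← map_add, hTP, htT]
  have e3 : (ta : ℂ) + tb = F := by rw [← hta, ← htb, ← map_add, ← add_mul, hsum, one_mul, htS]
  have e4 : x * ta + y * tb = (R : ℂ) := by
    have h := congrArg (fun L : V →ₗ[ℂ] V => LinearMap.trace ℂ V (L * S)) hTP
    simp only [add_mul, smul_mul_assoc, map_add, map_smul, smul_eq_mul, hta, htb, htTS] at h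
    exact h
  have hx0 : x ≠ 0 := fun e => by rw [e, zero_mul, eq_comm, neg_eq_zero] at hp; exact hm0 hp
  have hy0 : y ≠ 0 := fun e => by rw [e, mul_zero, eq_comm, neg_eq_zero] at hp; exact hm0 hp
  have e5 : x * ((b : ℂ) * ta - (a : ℂ) * tb) = (R : ℂ) * b := by
    linear_combination (b : ℂ) * e4 - (tb : ℂ) * e2
  have hb0 : (b : ℂ) ≠ 0 := by
    intro e
    rw [e, zero_mul, add_zero, mul_eq_zero] at e2
    rw [e, add_zero] at e1
    rcases e2 with h | h
    · rw [h, eq_comm] at e1; exact hN0.ne' (by exact_mod_cast e1)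
    · exact hx0 h
  have hd : (b : ℂ) * ta - (a : ℂ) * tb ≠ 0 := fun e => by
    rw [e, mul_zero] at e5
    exact mul_ne_zero (Int.cast_ne_zero.2 hR) hb0 e5.symm
  obtain ⟨xz, hxz⟩ := int_of_rat (isIntegral_root hκ hs hp) (r := (R : ℚ) * b / ((b : ℚ) * ta - (a : ℚ) * tb)) (by
    push_cast
    rw [eq_div_iff hd]
    exact e5)
  obtain ⟨yz, hyz⟩ := int_of_rat (isIntegral_root hκ (by rw [add_comm]; exact hs) (by rw [mul_comm]; exact hp))
    (r := -((a : ℚ) * xz) / b) (by
    push_cast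
    rw [eq_div_iff hb0, ← hxz]
    linear_combination e2)
  subst hxz
  subst hyz
  refine ⟨a, b, xz, yz, ta, tb, ?_, ?_, ?_, ?_, ?_, ?_, P, P', hP, hP', rfl, rfl, hcomm, hcomm'⟩
  · exact_mod_cast e1
  · exact_mod_cast e2
  · exact_mod_cast hp
  · rw [← hs]; push_cast; rfl
  · exact_mod_cast e3
  · exact_mod_cast e4

end CfsgLib.Recog.Walter.FieldHecke
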