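import Cfsg.Agent.Lib.Recog.Walter.Field.HeckeTrace
import Cfsg.Agent.Lib.Recog.Walter.Field.HeckeArith
import Cfsg.Agent.Lib.Recog.Walter.Field.HeckeSpectral
import Cfsg.Agent.Lib.Recog.JankoThompson.Ward.BorelMain

/-!
Owner: helper22. A group of Ree type has no central extension by a group of prime order `p ∣ q ^ 2 - q + 1`
inside the commutator subgroup (section D of `notes/walter_field_helper22.md`).
-/

set_option autoImplicit false
set_option linter.all false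
set_option maxHeartbeats 800000

namespace CfsgLib.Recog.Walter.FieldHecke

open Subgroup CfsgLib.Recog.JankoThompson

universe u v

variable {C : Type u} [Group C] [Finite C] {G : Type v} [Group G]

/-- a linear character of a subgroup over a central subgroup of prime order and prime index -/
theorem exists_theta (B : Subgroup C) {f : C} {p m : ℕ} (hp : p.Prime) (hf : orderOf f = p) (hfB : f ∈ B)
    (hcen : ∀ g, g * f = f * g) (hidx : ((zpowers f).subgroupOf B).index = m) (hpm : ¬ p ∣ m) :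
    ∃ θ : B →* ℂˣ, (∀ x, θ x ^ p = 1) ∧ θ ⟨f, hfB⟩ ≠ 1 ∧
      (∀ x : B, x ^ m ∈ (zpowers f).subgroupOf B) ∧ ∀ x y : B, x ^ m = y ^ m → θ x = θ y := by
  classical
  haveI : Fact p.Prime := ⟨hp⟩
  haveI : NeZero p := ⟨hp.ne_zero⟩
  set Z := (zpowers f).subgroupOf B with hZ
  have hle : zpowers f ≤ B := zpowers_le.2 hfB
  have hcardZ : Nat.card Z = p := by
    rw [Nat.card_congr (Subgroup.subgroupOfEquivOfLe hle).toEquiv, Nat.card_zpowers, hf]
  have hμ : Nat.card (rootsOfUnity p ℂ) = p := by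
    exact Complex.card_rootsOfUnity p
  let e : Z ≃* rootsOfUnity p ℂ := mulEquivOfPrimeCardEq hcardZ hμ
  let ϕ : Z →* ℂˣ := (rootsOfUnity p ℂ).subtype.comp e.toMonoidHom
  have hzc : ∀ y : B, y ∈ Z → ∀ g : B, g * y = y * g := fun y hy g => by
    obtain ⟨j, hj⟩ := mem_zpowers_iff.1 (mem_subgroupOf.1 hy)
    refine Subtype.ext ?_
    show (g : C) * (y : C) = (y : C) * g
    rw [← hj]
    exact ((show Commute (g : C) f from hcen g).zpow_right j).eq
  have key : ∀ (g : B) (k : ℕ) (g₀ : B), g₀⁻¹ * g ^ k * g₀ ∈ Z → g₀⁻¹ * g ^ k * g₀ = g ^ k := fun g k g₀ h => by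
    have h1 := hzc _ h g₀
    rw [show g₀ * (g₀⁻¹ * g ^ k * g₀) = g ^ k * g₀ by group] at h1
    exact (mul_right_cancel h1).symm
  have hmem : ∀ x : B, x ^ m ∈ Z := fun x => hidx ▸ MonoidHom.transfer_eq_pow_aux x (key x)
  have hθ : ∀ x : B, MonoidHom.transfer ϕ x = ϕ ⟨x ^ m, hmem x⟩ := fun x => by
    rw [MonoidHom.transfer_eq_pow ϕ x (key x)]
    exact congrArg ϕ (Subtype.ext (by show x ^ Z.index = x ^ m; rw [hidx]))
  refine ⟨MonoidHom.transfer ϕ, fun x => ?_, ?_, hmem, fun x y h => ?_⟩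
  · rw [hθ]
    exact (mem_rootsOfUnity p _).1 (e ⟨x ^ m, hmem x⟩).2
  · rw [hθ]
    intro h
    have h1 : e ⟨(⟨f, hfB⟩ : B) ^ m, hmem _⟩ = 1 := Subtype.ext h
    rw [MulEquiv.map_eq_one_iff] at h1
    have h2 : f ^ m = 1 := congrArg (fun z : Z => ((z : B) : C)) h1
    exact hpm (hf ▸ orderOf_dvd_of_pow_eq_one h2)
  · rw [hθ, hθ]; exact congrArg ϕ (Subtype.ext h)

theorem hθcop_aux {p : ℕ} (hp : p.Prime) (hp5 : 5 ≤ p) {z : ℂˣ} (h : z ^ p = 1) (h2 : z ^ 2 = 1) : z = 1 := by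
  refine orderOf_eq_one_iff.1 (Nat.eq_one_of_dvd_coprimes (hp.coprime_iff_not_dvd.2 fun h => ?_)
    (orderOf_dvd_of_pow_eq_one h) (orderOf_dvd_of_pow_eq_one h2))
  have := Nat.le_of_dvd (by norm_num) h
  omega

variable [Finite G] {q n p : ℕ} {t : G}

/-- no central extension -/
theorem no_extension (BD : BorelData G q t) (hq : q = 3 ^ n) (hn : 1 ≤ n) (ht : t * t = 1) (hp : p.Prime)
    (hp5 : 5 ≤ p) (hpq : p ∣ q ^ 2 - q + 1) (π : C →* G) (hsurj : Function.Surjective π) {f : C}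
    (hker : π.ker = zpowers f) (hf : orderOf f = p) (hcen : ∀ g, g * f = f * g) (hfcomm : f ∈ commutator C) :
    False := by
  classical
  haveI : Fintype C := Fintype.ofFinite C
  haveI : Fact p.Prime := ⟨hp⟩
  have hq1 : 1 ≤ q := hq ▸ Nat.one_le_pow _ _ (by norm_num)
  have hΦZ : (p : ℤ) ∣ (q : ℤ) ^ 2 - q + 1 := by
    have h := Int.natCast_dvd_natCast.2 hpq
    have hle : q ≤ q ^ 2 := Nat.le_self_pow two_ne_zero q
    push_cast [Nat.cast_sub hle] at h
    exact h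
  have hΦ3 : (p : ℤ) ∣ (3 : ℤ) ^ (2 * n) - 3 ^ n + 1 := by
    rw [hq] at hΦZ
    push_cast at hΦZ
    rwa [← pow_mul, mul_comm n 2] at hΦZ
  have hp3 : ¬ p ∣ q := fun h => by
    rw [hq] at h
    have := (Nat.prime_dvd_prime_iff_eq hp Nat.prime_three).1 (hp.dvd_of_dvd_pow h)
    omega
  have hpq1 : ¬ p ∣ q - 1 := fun h => by
    have h1 := Int.natCast_dvd_natCast.2 h
    rw [Nat.cast_sub hq1, Nat.cast_one] at h1
    have := dvd_sub hΦZ (h1.mul_left (q : ℤ))
    rw [show (q : ℤ) ^ 2 - q + 1 - (q : ℤ) * ((q : ℤ) - 1) = 1 by ring] at this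
    exact (Nat.prime_iff_prime_int.1 hp).not_dvd_one this
  have hodd : Odd p := hp.odd_of_ne_two (by omega)
  set B' := BD.B.comap π with hB'
  have hπf : π f = 1 := MonoidHom.mem_ker.1 (hker ▸ mem_zpowers f)
  have hfB : f ∈ B' := by show π f ∈ BD.B; rw [hπf]; exact BD.B.one_mem
  have hpm : ¬ p ∣ Nat.card BD.B := fun h => by
    rw [BD.card_B] at h
    rcases hp.dvd_mul.1 h with h | h
    exacts [hp3 (hp.dvd_of_dvd_pow h), hpq1 h]
  have hidx : ((zpowers f).subgroupOf B').index = Nat.card BD.B := by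
    let φ : B' →* BD.B := (π.comp B'.subtype).codRestrict BD.B fun x => x.2
    have hker' : (zpowers f).subgroupOf B' = φ.ker := by
      ext x
      rw [mem_subgroupOf, ← hker, MonoidHom.mem_ker, MonoidHom.mem_ker]
      exact ⟨fun h => Subtype.ext h, fun h => congrArg Subtype.val h⟩
    have hφ : Function.Surjective φ := fun b => by
      obtain ⟨x, hx⟩ := hsurj b
      exact ⟨⟨x, by show π x ∈ BD.B; rw [hx]; exact b.2⟩, Subtype.ext hx⟩
    rw [hker', Subgroup.index_ker, MonoidHom.range_eq_top.2 hφ, Subgroup.card_top]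
  obtain ⟨θ, hθp, hθf, hθm, hθeq⟩ := exists_theta B' hp hf hfB hcen hidx hpm
  set m := Nat.card BD.B with hm
  have hθcop : ∀ x : B', ∀ k : ℕ, ¬ p ∣ k → x ^ k = 1 → θ x = 1 := fun x k hk hx => by
    have h1 : orderOf (θ x) ∣ k := orderOf_dvd_of_pow_eq_one (by rw [← map_pow, hx, map_one])
    have h2 : orderOf (θ x) ∣ p := orderOf_dvd_of_pow_eq_one (hθp x)
    exact orderOf_eq_one_iff.1 (Nat.eq_one_of_dvd_coprimes (hp.coprime_iff_not_dvd.2 hk).symm h1 h2)
  -- lifts of involutions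
  have hlift : ∀ s : G, s * s = 1 → ∃ x : C, π x = s ∧ x * x = 1 := by
    intro s hs
    obtain ⟨x, hx⟩ := hsurj s
    refine ⟨x ^ p, ?_, ?_⟩
    · obtain ⟨k, hk⟩ := hodd
      rw [map_pow, hx, hk, pow_succ, pow_mul, pow_two, hs, one_pow, one_mul]
    · have hker2 : x * x ∈ zpowers f := hker ▸ MonoidHom.mem_ker.2 (by rw [map_mul, hx, hs])
      rw [← pow_add, ← two_mul, pow_mul, pow_two]
      exact orderOf_dvd_iff_pow_eq_one.1 ((Subgroup.orderOf_dvd_natCard _ hker2).trans (by rw [Nat.card_zpowers, hf]))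
  obtain ⟨w', hw', hw'2⟩ := hlift BD.w (mul_self_of_two BD.w_two)
  obtain ⟨t', ht', ht'2⟩ := hlift t ht
  -- the lift of `Q`
  set Q' := θ.ker.map B'.subtype ⊓ BD.Q.comap π with hQ'
  have hmemQ : ∀ x, x ∈ Q' ↔ (∃ h : x ∈ B', θ ⟨x, h⟩ = 1) ∧ π x ∈ BD.Q := fun x => by
    rw [hQ', mem_inf]
    refine and_congr ⟨?_, ?_⟩ Iff.rfl
    · rintro ⟨y, hy, rfl⟩
      exact ⟨y.2, hy⟩
    · rintro ⟨h, he⟩
      exact ⟨⟨x, h⟩, he, rfl⟩
  have hQB : Q' ≤ B' := fun x hx => ((hmemQ x).1 hx).1.1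
  have hQinj : ∀ x ∈ Q', π x = 1 → x = 1 := fun x hx hπ => by
    obtain ⟨⟨h, hθ1⟩, -⟩ := (hmemQ x).1 hx
    obtain ⟨j, rfl⟩ := mem_zpowers_iff.1 (show x ∈ zpowers f by rw [← hker]; exact MonoidHom.mem_ker.2 hπ)
    have h1 : θ ⟨f, hfB⟩ ^ j = 1 := by
      rw [← map_zpow, ← hθ1]
      exact congrArg θ (Subtype.ext (by push_cast; rfl))
    have h2 : orderOf (θ ⟨f, hfB⟩) = p := orderOf_eq_prime (hθp _) hθf
    rw [← orderOf_dvd_iff_zpow_eq_one, h2] at h1
    rw [← orderOf_dvd_iff_zpow_eq_one, hf]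
    exact h1
  have hQlift : ∀ a ∈ BD.Q, ∃ x ∈ Q', π x = a := fun a ha => by
    obtain ⟨x, hx⟩ := hsurj a
    have hxB : x ∈ B' := by show π x ∈ BD.B; rw [hx, BD.B_eq]; exact Subgroup.le_normalizer ha
    obtain ⟨l, hl⟩ := Nat.exists_mul_mod_eq_one_of_coprime
      (show Nat.Coprime p (q ^ 3) from Nat.Coprime.pow_right 3 (hp.coprime_iff_not_dvd.2 hp3))
      (show 1 < q ^ 3 by rw [hq, ← pow_mul]; exact Nat.one_lt_pow (by omega) (by norm_num))
    have haq : a ^ q ^ 3 = 1 := orderOf_dvd_iff_pow_eq_one.1 (BD.card_Q ▸ Subgroup.orderOf_dvd_natCard _ ha)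
    refine ⟨x ^ (p * l), (hmemQ _).2 ⟨⟨pow_mem hxB _, ?_⟩, by rw [map_pow, hx]; exact pow_mem ha _⟩, ?_⟩
    · rw [show (⟨x ^ (p * l), pow_mem hxB _⟩ : B') = (⟨x, hxB⟩ : B') ^ (p * l) from Subtype.ext (by push_cast; rfl),
        map_pow, pow_mul, hθp, one_pow]
    · rw [map_pow, hx]
      calc a ^ (p * l) = a ^ ((p * l) % q ^ 3) := pow_eq_pow_mod _ haq
        _ = a := by rw [hl.2, pow_one]
  let D : Data C :=
    { B := B'
      Q := Q'
      w := w'
      θ := θ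
      QB := hQB
      ww := hw'2
      w_not := fun h => BD.w_not (by rw [← hw']; exact h)
      cover := fun g hg => by
        obtain ⟨a, ha, h⟩ := BD.cover (π g) hg
        obtain ⟨x, hx, rfl⟩ := hQlift a ha
        exact ⟨x, hx, by show π _ ∈ BD.B; rwa [map_mul, map_inv, map_mul, hw']⟩
      inter := fun x hx h => by
        obtain ⟨-, hxQ⟩ := (hmemQ x).1 hx
        have h' : BD.w * π x * BD.w ∈ BD.B := by
          have : π (w' * x * w') ∈ BD.B := h
          rwa [map_mul, map_mul, hw'] at this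
        obtain ⟨j, hj⟩ := BD.Q_three ⟨π x, hxQ⟩
        have hj' : (π x) ^ 3 ^ j = 1 := congrArg Subtype.val hj
        have hwi : BD.w⁻¹ = BD.w := inv_of_two BD.w_two
        have h3 := BD.three_mem _ h' ⟨j, by
          nth_rw 2 [← hwi]
          rw [conj_pow, hj', mul_one, mul_inv_cancel]⟩
        refine hQinj x hx (BD.inter_w _ hxQ ?_)
        rwa [hwi]
      θ_Q := fun a ha => ((hmemQ a).1 ha).1.2
      θ_two := fun a ha => hθcop a 2
        (fun h => by have := (Nat.prime_dvd_prime_iff_eq hp Nat.prime_two).1 h; omega)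
        (Subtype.ext (by push_cast; rw [pow_two]; exact ha))
      θ_w := fun h hh => by
        refine hθeq _ _ (Subtype.ext ?_)
        push_cast
        have hz := mem_zpowers_iff.1 (mem_subgroupOf.1 (hθm h))
        obtain ⟨j, hj⟩ := hz
        push_cast at hj
        have hwinv : w'⁻¹ = w' := inv_eq_of_mul_eq_one_right hw'2
        nth_rw 2 [← hwinv]
        rw [conj_pow, ← hj, ((show Commute w' f from hcen w').zpow_right j).eq, mul_inv_cancel_right] }
  haveI : Fintype D.Q := Fintype.ofFinite _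
  haveI : Fintype (C ⧸ D.B) := Fintype.ofFinite _
  have hcardQ : Nat.card D.Q = q ^ 3 := by
    rw [← BD.card_Q]
    refine Nat.card_eq_of_bijective (fun x : D.Q => (⟨π x, ((hmemQ x).1 x.2).2⟩ : BD.Q)) ⟨fun x y e => ?_, fun a => ?_⟩
    · have e' : π (x : C) = π y := congrArg Subtype.val e
      refine Subtype.ext (inv_mul_eq_one.1 (hQinj _ (mul_mem (inv_mem x.2) y.2) ?_))
      rw [map_mul, map_inv, e', inv_mul_cancel]
    · obtain ⟨x, hx, he⟩ := hQlift a a.2
      exact ⟨⟨x, hx⟩, Subtype.ext he⟩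
  have hcardQ' : Fintype.card D.Q = q ^ 3 := by rw [← Nat.card_eq_fintype_card]; exact hcardQ
  -- the fixed points of `t`
  have hfix : Nat.card {x : C ⧸ D.B // x.out⁻¹ * t' * x.out ∈ D.B} = q + 1 := by
    rw [← BD.card_fixed]
    have hiff : ∀ x : C ⧸ D.B, t • (QuotientGroup.mk (π x.out) : G ⧸ BD.B) = QuotientGroup.mk (π x.out) ↔
        x.out⁻¹ * t' * x.out ∈ D.B := fun x => by
      rw [MulAction.Quotient.smul_mk, smul_eq_mul, eq_comm, QuotientGroup.eq]
      show (π x.out)⁻¹ * (t * π x.out) ∈ BD.B ↔ π (x.out⁻¹ * t' * x.out) ∈ BD.B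
      rw [map_mul, map_mul, map_inv, ht', mul_assoc]
    refine Nat.card_eq_of_bijective (fun x => ⟨QuotientGroup.mk (π x.1.out), (hiff x.1).2 x.2⟩) ⟨fun x y e => ?_, ?_⟩
    · have e' := QuotientGroup.eq.1 (congrArg Subtype.val e)
      refine Subtype.ext ?_
      rw [← QuotientGroup.out_eq' x.1, ← QuotientGroup.out_eq' y.1, QuotientGroup.eq]
      show π _ ∈ BD.B
      rwa [map_mul, map_inv]
    · rintro ⟨s, hs⟩
      induction s using QuotientGroup.induction_on with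
      | H g =>
        obtain ⟨x, rfl⟩ := hsurj g
        have e : (QuotientGroup.mk (π (QuotientGroup.mk x : C ⧸ D.B).out) : G ⧸ BD.B) = QuotientGroup.mk (π x) := by
          rw [QuotientGroup.eq, ← map_inv, ← map_mul]
          exact D.out_mul_mem x
        exact ⟨⟨QuotientGroup.mk x, (hiff _).1 (by rw [e]; exact hs)⟩, Subtype.ext e⟩
  -- the operators
  let ρ : C →* ((C ⧸ D.B → ℂ) →ₗ[ℂ] (C ⧸ D.B → ℂ)) :=
    { toFun := D.M, map_one' := D.M_one, map_mul' := D.M_mul }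
  have hκint : IsIntegral ℤ D.κ := by
    refine IsIntegral.sum _ fun a _ => ?_
    by_cases h : (a : C) = 1
    · rw [dif_pos h]; exact isIntegral_zero
    · rw [dif_neg h]
      obtain ⟨-, hd⟩ := (D.cover (D.w * a * D.w) fun hm => h (D.inter a a.2 hm)).choose_spec
      refine IsIntegral.of_pow hp.pos ?_
      rw [inv_pow, D.val_of_mem hd, ← Units.val_pow_eq_pow_val, hθp, Units.val_one, inv_one]
      exact isIntegral_one
  have hN : Nat.card (C ⧸ D.B) = q ^ 3 + 1 := by rw [D.card_points, hcardQ]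
  have hR : (q : ℤ) ^ 3 - q ≠ 0 := by
    have h3 : 3 ≤ q := hq ▸ Nat.le_self_pow (by omega) 3
    have : (3 : ℤ) ≤ q := by exact_mod_cast h3
    nlinarith [mul_le_mul this this (by norm_num) (by linarith)]
  obtain ⟨a, b, x, y, ta, tb, hab, hw, hxy, hκ, -, hR', P, P', hP, hP', hPa, hPb, hPc, hPc'⟩ :=
    spectral (m := q ^ 3) (pow_pos hq1 3) hκint (by rw [D.T_sq, hcardQ']) (D.T_M t')
      (show D.M t' * D.M t' = 1 by rw [← D.M_mul, ht'2, D.M_one])
      (N := q ^ 3 + 1) (F := q + 1) (R := (q : ℤ) ^ 3 - q)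
      (by rw [Module.finrank_fintype_fun_eq_card, ← Nat.card_eq_fintype_card, hN]) (Nat.succ_pos _) D.trace_T
      (by rw [D.trace_M ht'2, hfix])
      (by
        rw [D.trace_T_M (fun a ha => hθcop_aux hp hp5 (hθp a) ha) ht'2, hfix, hN]
        push_cast
        ring) hR
  have hMf : ρ f = (D.val f) • 1 := D.M_central hfB hcen
  have hval : D.val f = ((θ ⟨f, hfB⟩ : ℂˣ) : ℂ) := D.val_of_mem hfB
  have hord : orderOf (θ ⟨f, hfB⟩) = p := orderOf_eq_prime (hθp _) hθf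
  have hdiv : ∀ (P : (C ⧸ D.B → ℂ) →ₗ[ℂ] (C ⧸ D.B → ℂ)), P * P = P →
      (∀ L, D.T * L = L * D.T → P * L = L * P) → p ∣ Module.finrank ℂ (LinearMap.range P) := by
    intro P hP hPc
    have h := det_rank ρ hP (fun g => hPc _ (D.T_M g)) hfcomm hMf
    rw [hval, ← Units.val_pow_eq_pow_val, Units.val_eq_one] at h
    exact hord ▸ orderOf_dvd_of_pow_eq_one h
  have hpa : p ∣ a := hPa ▸ hdiv P hP hPc
  have hpb : p ∣ b := hPb ▸ hdiv P' hP' hPc'
  have hκroot := D.κ_root hp hθp hκ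
  rw [hcardQ'] at hκroot
  have hq3 : q ^ 3 = 3 ^ (3 * n) := by rw [hq, ← pow_mul, mul_comm]
  have hq3Z : (q : ℤ) ^ 3 = (3 : ℤ) ^ (3 * n) := by exact_mod_cast hq3
  have hqZ : (q : ℤ) = (3 : ℤ) ^ n := by exact_mod_cast hq
  refine arith hn hp hp5 hΦ3 (a := a) (b := b) (x := x) (y := y) (ta := ta) (tb := tb) (by rw [← hq3]; exact hab)
    hpa hpb (by rw [hxy, hq3]; push_cast; rfl) hw (by rw [hR', hq3Z, hqZ]) ?_
  rw [hq3] at hκroot
  push_cast at hκroot
  exact hκroot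

end CfsgLib.Recog.Walter.FieldHecke
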