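import Mathlib

/-!
Owner: helper22. A monomial representation on the cosets of a subgroup with two double cosets: its intertwining
operator `T` satisfies `T ^ 2 = |Q| + κ T` (section D of `notes/walter_field_helper22.md`).
-/

set_option autoImplicit false
set_option linter.all false
set_option maxHeartbeats 400000

namespace CfsgLib.Recog.Walter.FieldHecke

open Subgroup

universe u

variable {C : Type u} [Group C]

/-- `Q` acts regularly on the cosets of `B` other than `B`, through the involution `w`; `θ` is a linear character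
of `B`, trivial on `Q` and on involutions, and invariant under `w` where defined -/
structure Data (C : Type u) [Group C] where
  B : Subgroup C
  Q : Subgroup C
  w : C
  θ : B →* ℂˣ
  QB : Q ≤ B
  ww : w * w = 1
  w_not : w ∉ B
  cover : ∀ g, g ∉ B → ∃ a ∈ Q, (a * w)⁻¹ * g ∈ B
  inter : ∀ a ∈ Q, w * a * w ∈ B → a = 1
  θ_Q : ∀ a (ha : a ∈ Q), θ ⟨a, QB ha⟩ = 1
  θ_two : ∀ a : B, (a : C) * a = 1 → θ a = 1
  θ_w : ∀ (h : B) (hh : w * (h : C) * w ∈ B), θ ⟨w * (h : C) * w, hh⟩ = θ h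

namespace Data

variable (D : Data C)

/-- the value of `θ` at an element of `C` -/
noncomputable def val (g : C) : ℂ := by
  classical exact if h : g ∈ D.B then ((D.θ ⟨g, h⟩ : ℂˣ) : ℂ) else 0

theorem val_of_mem {g : C} (h : g ∈ D.B) : D.val g = ((D.θ ⟨g, h⟩ : ℂˣ) : ℂ) := by
  classical
  simp [val, h]

theorem val_one : D.val 1 = 1 := by
  rw [D.val_of_mem D.B.one_mem, show (⟨1, D.B.one_mem⟩ : D.B) = 1 from rfl, map_one, Units.val_one]

theorem val_mul {a b : C} (ha : a ∈ D.B) (hb : b ∈ D.B) : D.val (a * b) = D.val a * D.val b := by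
  rw [D.val_of_mem ha, D.val_of_mem hb, D.val_of_mem (mul_mem ha hb), ← Units.val_mul, ← map_mul]
  rfl

theorem val_ne {a : C} (ha : a ∈ D.B) : D.val a ≠ 0 := by
  rw [D.val_of_mem ha]; exact Units.ne_zero _

theorem val_Q {a : C} (ha : a ∈ D.Q) : D.val a = 1 := by
  rw [D.val_of_mem (D.QB ha), D.θ_Q a ha, Units.val_one]

theorem val_inv {a : C} (ha : a ∈ D.B) : D.val a⁻¹ = (D.val a)⁻¹ := by
  refine eq_inv_of_mul_eq_one_left ?_
  rw [← D.val_mul (inv_mem ha) ha, inv_mul_cancel, D.val_one]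

theorem w_inv : D.w⁻¹ = D.w := inv_eq_of_mul_eq_one_right D.ww

theorem not_mem_mul {a : C} (ha : a ∈ D.B) : a * D.w ∉ D.B := fun h => D.w_not ((D.B.mul_mem_cancel_left ha).1 h)

theorem uniq {a a' : C} (ha : a ∈ D.Q) (ha' : a' ∈ D.Q) (h : (a * D.w)⁻¹ * (a' * D.w) ∈ D.B) : a = a' := by
  refine inv_mul_eq_one.1 (D.inter _ (mul_mem (inv_mem ha) ha') ?_)
  rwa [mul_inv_rev, D.w_inv, show D.w * a⁻¹ * (a' * D.w) = D.w * (a⁻¹ * a') * D.w by group] at h

theorem exists_σ {b : C} (hb : b ∈ D.B) (a : D.Q) :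
    ∃ a' : D.Q, ((a' : C) * D.w)⁻¹ * (b * a * D.w) ∈ D.B ∧
      D.val (((a' : C) * D.w)⁻¹ * (b * a * D.w)) = D.val b := by
  obtain ⟨a', ha', h⟩ := D.cover _ (D.not_mem_mul (mul_mem hb (D.QB a.2)))
  refine ⟨⟨a', ha'⟩, h, ?_⟩
  set b' := (a' * D.w)⁻¹ * (b * a * D.w) with hb'
  have hwb : D.w * b' * D.w = a'⁻¹ * (b * a) := by
    rw [hb', mul_inv_rev, show D.w * (D.w⁻¹ * a'⁻¹ * (b * a * D.w)) * D.w = a'⁻¹ * (b * a) * (D.w * D.w) by group,
      D.ww, mul_one]
  have hmem : D.w * b' * D.w ∈ D.B := by rw [hwb]; exact mul_mem (inv_mem (D.QB ha')) (mul_mem hb (D.QB a.2))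
  have hθ : D.val (D.w * b' * D.w) = D.val b' := by
    rw [D.val_of_mem hmem, D.val_of_mem h]
    exact congrArg Units.val (D.θ_w ⟨b', h⟩ hmem)
  rw [← hθ, hwb, D.val_mul (inv_mem (D.QB ha')) (mul_mem hb (D.QB a.2)), D.val_inv (D.QB ha'), D.val_Q ha',
    D.val_mul hb (D.QB a.2), D.val_Q a.2]
  simp

/-- functions on `C` which transform by `θ⁻¹` under `B`, from functions on the cosets -/
noncomputable def ext (φ : C ⧸ D.B → ℂ) (g : C) : ℂ :=
  (D.val ((QuotientGroup.mk g : C ⧸ D.B).out⁻¹ * g))⁻¹ * φ (QuotientGroup.mk g)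

theorem out_mul_mem (g : C) : (QuotientGroup.mk g : C ⧸ D.B).out⁻¹ * g ∈ D.B :=
  QuotientGroup.eq.1 (QuotientGroup.out_eq' _)

theorem ext_mul (φ : C ⧸ D.B → ℂ) (g : C) {b : C} (hb : b ∈ D.B) :
    D.ext φ (g * b) = (D.val b)⁻¹ * D.ext φ g := by
  have e : (QuotientGroup.mk (g * b) : C ⧸ D.B) = QuotientGroup.mk g := QuotientGroup.eq.2 (by simpa using inv_mem hb)
  rw [ext, ext, e, ← mul_assoc _ g b, D.val_mul (D.out_mul_mem g) hb, mul_inv_rev]
  ring

theorem ext_out (φ : C ⧸ D.B → ℂ) (x : C ⧸ D.B) : D.ext φ x.out = φ x := by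
  rw [ext, QuotientGroup.out_eq', inv_mul_cancel, D.val_one, inv_one, one_mul]

theorem ext_unique {F : C → ℂ} (hF : ∀ g b, b ∈ D.B → F (g * b) = (D.val b)⁻¹ * F g) (g : C) :
    D.ext (fun x => F x.out) g = F g := by
  rw [ext]
  calc _ = F ((QuotientGroup.mk g : C ⧸ D.B).out * ((QuotientGroup.mk g : C ⧸ D.B).out⁻¹ * g)) :=
        (hF _ _ (D.out_mul_mem g)).symm
    _ = _ := by rw [mul_inv_cancel_left]

theorem ext_add (φ ψ : C ⧸ D.B → ℂ) (g : C) : D.ext (φ + ψ) g = D.ext φ g + D.ext ψ g := mul_add _ _ _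

theorem ext_smul (r : ℂ) (φ : C ⧸ D.B → ℂ) (g : C) : D.ext (r • φ) g = r * D.ext φ g := by
  simp only [ext, Pi.smul_apply, smul_eq_mul]; ring

/-- the monomial representation -/
noncomputable def M (g : C) : (C ⧸ D.B → ℂ) →ₗ[ℂ] (C ⧸ D.B → ℂ) where
  toFun φ x := D.ext φ (g⁻¹ * x.out)
  map_add' φ ψ := funext fun x => D.ext_add φ ψ _
  map_smul' r φ := funext fun x => D.ext_smul r φ _

theorem ext_M (g : C) (φ : C ⧸ D.B → ℂ) (h : C) : D.ext (D.M g φ) h = D.ext φ (g⁻¹ * h) :=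
  D.ext_unique (F := fun h => D.ext φ (g⁻¹ * h))
    (fun h b hb => by show D.ext φ (g⁻¹ * (h * b)) = _; rw [← mul_assoc, D.ext_mul φ _ hb]) h

theorem M_one : D.M 1 = 1 := LinearMap.ext fun φ => funext fun x => by
  show D.ext φ (1⁻¹ * x.out) = φ x
  rw [inv_one, one_mul, D.ext_out]

theorem M_mul (g h : C) : D.M (g * h) = D.M g * D.M h := LinearMap.ext fun φ => funext fun x => by
  show D.ext φ ((g * h)⁻¹ * x.out) = D.ext (D.M h φ) (g⁻¹ * x.out)
  rw [D.ext_M, mul_inv_rev, mul_assoc]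

theorem M_central {z : C} (hz : z ∈ D.B) (hc : ∀ g, g * z = z * g) : D.M z = (D.val z) • 1 :=
  LinearMap.ext fun φ => funext fun x => by
    show D.ext φ (z⁻¹ * x.out) = _
    have e : z⁻¹ * x.out = x.out * z⁻¹ := ((Commute.inv_right (hc x.out : Commute x.out z)).eq).symm
    rw [e, D.ext_mul φ _ (inv_mem hz), D.ext_out, D.val_inv hz, inv_inv]
    rfl

variable [Fintype D.Q]

theorem sum_equivariant (φ : C ⧸ D.B → ℂ) (h : C) {b : C} (hb : b ∈ D.B) :
    ∑ a : D.Q, D.ext φ (h * b * a * D.w) = (D.val b)⁻¹ * ∑ a : D.Q, D.ext φ (h * a * D.w) := by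
  classical
  choose σ hσ1 hσ2 using D.exists_σ hb
  have hinj : Function.Injective σ := fun a a' e => by
    refine Subtype.ext (D.uniq a.2 a'.2 ?_)
    have h1 := hσ1 a'
    rw [← e] at h1
    have := mul_mem (inv_mem (hσ1 a)) h1
    rwa [show (((σ a : C) * D.w)⁻¹ * (b * a * D.w))⁻¹ * (((σ a : C) * D.w)⁻¹ * (b * a' * D.w)) =
      ((a : C) * D.w)⁻¹ * ((a' : C) * D.w) by group] at this
  rw [Finset.mul_sum, ← (Finite.injective_iff_bijective.1 hinj).sum_comp
    fun a : D.Q => (D.val b)⁻¹ * D.ext φ (h * a * D.w)]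
  refine Finset.sum_congr rfl fun a _ => ?_
  rw [show h * b * a * D.w = h * (σ a : C) * D.w * (((σ a : C) * D.w)⁻¹ * (b * a * D.w)) by group,
    D.ext_mul φ _ (hσ1 a), hσ2 a]

/-- the intertwining operator -/
noncomputable def T : (C ⧸ D.B → ℂ) →ₗ[ℂ] (C ⧸ D.B → ℂ) where
  toFun φ x := ∑ a : D.Q, D.ext φ (x.out * a * D.w)
  map_add' φ ψ := funext fun x => by simp [D.ext_add, Finset.sum_add_distrib]
  map_smul' r φ := funext fun x => by simp [D.ext_smul, Finset.mul_sum]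

theorem ext_T (φ : C ⧸ D.B → ℂ) (h : C) : D.ext (D.T φ) h = ∑ a : D.Q, D.ext φ (h * a * D.w) :=
  D.ext_unique (F := fun h => ∑ a : D.Q, D.ext φ (h * a * D.w)) (fun h b hb => D.sum_equivariant φ h hb) h

theorem T_M (g : C) : D.T * D.M g = D.M g * D.T := LinearMap.ext fun φ => funext fun x => by
  show ∑ a : D.Q, D.ext (D.M g φ) (x.out * a * D.w) = D.ext (D.T φ) (g⁻¹ * x.out)
  rw [D.ext_T]
  simp only [D.ext_M, mul_assoc]

open scoped _root_.Classical in
/-- the structure constant -/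
noncomputable def κ : ℂ :=
  ∑ a : D.Q, if h : (a : C) = 1 then 0
    else (D.val (((D.cover (D.w * a * D.w) fun hm => h (D.inter a a.2 hm)).choose * D.w)⁻¹ * (D.w * a * D.w)))⁻¹

theorem T_sq : D.T * D.T = (Fintype.card D.Q : ℂ) • 1 + D.κ • D.T := LinearMap.ext fun φ => funext fun x => by
  classical
  show ∑ a : D.Q, D.ext (D.T φ) (x.out * a * D.w) = _
  simp only [D.ext_T]
  rw [Finset.sum_comm]
  have key : ∀ a' : D.Q, ∑ a : D.Q, D.ext φ (x.out * a * D.w * a' * D.w) =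
      (if (a' : C) = 1 then (Fintype.card D.Q : ℂ) * φ x else 0) +
        (if h : (a' : C) = 1 then 0 else
          (D.val (((D.cover (D.w * a' * D.w) fun hm => h (D.inter a' a'.2 hm)).choose * D.w)⁻¹ *
            (D.w * a' * D.w)))⁻¹) * D.T φ x := by
    intro a'
    by_cases h : (a' : C) = 1
    · rw [if_pos h, dif_pos h, zero_mul, add_zero, h]
      have : ∀ a : D.Q, D.ext φ (x.out * a * D.w * 1 * D.w) = φ x := fun a => by
        rw [mul_one, mul_assoc (x.out * (a : C)), D.ww, mul_one, D.ext_mul φ _ (D.QB a.2), D.val_Q a.2, inv_one,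
          one_mul, D.ext_out]
      simp only [this, Finset.sum_const, Finset.card_univ, nsmul_eq_mul]
    · rw [if_neg h, dif_neg h, zero_add]
      set hex := D.cover (D.w * a' * D.w) fun hm => h (D.inter a' a'.2 hm)
      obtain ⟨hc, hd⟩ := hex.choose_spec
      set c := hex.choose
      have e : ∀ a : D.Q, D.ext φ (x.out * a * D.w * a' * D.w) =
          (D.val ((c * D.w)⁻¹ * (D.w * a' * D.w)))⁻¹ * D.ext φ (x.out * ((a * ⟨c, hc⟩ : D.Q) : C) * D.w) :=
        fun a => by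
        rw [show x.out * a * D.w * a' * D.w =
          x.out * ((a * ⟨c, hc⟩ : D.Q) : C) * D.w * ((c * D.w)⁻¹ * (D.w * a' * D.w)) by push_cast; group,
          D.ext_mul φ _ hd]
      simp only [e, ← Finset.mul_sum]
      congr 1
      exact Equiv.sum_comp (Equiv.mulRight (⟨c, hc⟩ : D.Q)) fun a : D.Q => D.ext φ (x.out * a * D.w)
  rw [Finset.sum_congr rfl fun a' _ => key a', Finset.sum_add_distrib, ← Finset.sum_mul]
  have h1 : (∑ a' : D.Q, if (a' : C) = 1 then (Fintype.card D.Q : ℂ) * φ x else 0) =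
      (Fintype.card D.Q : ℂ) * φ x := by
    rw [Finset.sum_eq_single (1 : D.Q)]
    · simp
    · exact fun b _ hb => if_neg fun e => hb (Subtype.ext e)
    · simp
  rw [h1]
  rfl

end Data

end CfsgLib.Recog.Walter.FieldHecke
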