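import Cfsg.Agent.Lib.Recog.Walter.Field.HeckeBase

/-!
Owner: helper22. The traces of the monomial representation and of the intertwining operator, and the congruence
for the structure constant (section D of `notes/walter_field_helper22.md`).
-/

set_option autoImplicit false
set_option linter.all false
set_option maxHeartbeats 400000

namespace CfsgLib.Recog.Walter.FieldHecke

open Subgroup

universe u

theorem trace_eq_sum {X : Type*} [Fintype X] [DecidableEq X] (L : (X → ℂ) →ₗ[ℂ] (X → ℂ)) :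
    LinearMap.trace ℂ (X → ℂ) L = ∑ x, L (Pi.single x 1) x := by
  rw [LinearMap.trace_eq_matrix_trace ℂ (Pi.basisFun ℂ X), Matrix.trace]
  refine Finset.sum_congr rfl fun x _ => ?_
  simp [LinearMap.toMatrix_apply]

/-- a sum of `p`-th roots of unity is congruent to the number of its terms -/
theorem dvd_of_root_sum {p : ℕ} (hp : p.Prime) {α : Type*} (s : Finset α) (z : α → ℂ)
    (hz : ∀ a ∈ s, z a ^ p = 1) {K : ℤ} (hK : ∑ a ∈ s, z a = K) : (p : ℤ) ∣ K - s.card := by
  have hint : ∀ a ∈ s, IsIntegral ℤ (z a - 1) := fun a ha =>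
    (IsIntegral.of_pow hp.pos (by rw [hz a ha]; exact isIntegral_one)).sub isIntegral_one
  let A := integralClosure ℤ ℂ
  have hz1 : ∀ a ∈ s, ∃ r : A, ∀ h : IsIntegral ℤ (z a - 1), (⟨z a - 1, h⟩ : A) ^ p = (p : A) * r := by
    intro a ha
    set d : A := ⟨z a - 1, hint a ha⟩ with hd
    obtain ⟨r, hr⟩ := exists_add_pow_prime_eq hp (1 : A) d
    refine ⟨-(1 * d * r), fun h => ?_⟩
    have h1 : ((1 + d) ^ p : A) = 1 := Subtype.ext (by
      show (1 + (z a - 1)) ^ p = 1
      rw [add_sub_cancel, hz a ha])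
    rw [h1, one_pow] at hr
    show d ^ p = _
    linear_combination -hr
  -- the sum of the terms, to the power `p`
  have hsum : ∃ r : A, ((∑ a ∈ s, (z a - 1)) ^ p : ℂ) = (p : ℂ) * r := by
    clear hK
    classical
    induction s using Finset.induction with
    | empty => exact ⟨0, by simp [zero_pow hp.ne_zero]⟩
    | @insert a s ha ih =>
      obtain ⟨r, hr⟩ := ih (fun b hb => hz b (Finset.mem_insert_of_mem hb))
        (fun b hb => hint b (Finset.mem_insert_of_mem hb)) (fun b hb => hz1 b (Finset.mem_insert_of_mem hb))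
      obtain ⟨r', hr'⟩ := hz1 a (Finset.mem_insert_self a s)
      set d : A := ⟨z a - 1, hint a (Finset.mem_insert_self a s)⟩ with hd
      set S : A := ⟨∑ b ∈ s, (z b - 1), IsIntegral.sum _ fun b hb => hint b (Finset.mem_insert_of_mem hb)⟩ with hS
      obtain ⟨r'', hr''⟩ := exists_add_pow_prime_eq hp d S
      have hS' : S ^ p = (p : A) * r := Subtype.ext (by push_cast; exact hr)
      refine ⟨r' + r + d * S * r'', ?_⟩
      rw [Finset.sum_insert ha]
      have h : (d + S) ^ p = (p : A) * (r' + r + d * S * r'') := by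
        rw [hr'', hr', hS']; ring
      have h' := congrArg Subtype.val h
      push_cast at h'
      exact h'
  obtain ⟨r, hr⟩ := hsum
  rw [Finset.sum_sub_distrib, hK, Finset.sum_const, nsmul_eq_mul, mul_one] at hr
  have hq : IsIntegral ℤ (((K - s.card : ℤ) ^ p : ℤ) / (p : ℚ)) := by
    refine (isIntegral_algHom_iff ((Algebra.ofId ℚ ℂ).restrictScalars ℤ) (algebraMap ℚ ℂ).injective).mp ?_
    have e : ((Algebra.ofId ℚ ℂ).restrictScalars ℤ) (((K - s.card : ℤ) ^ p : ℤ) / (p : ℚ)) = (r : ℂ) := by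
      simp only [AlgHom.coe_restrictScalars', Algebra.ofId_apply, map_div₀, map_intCast, map_natCast]
      rw [div_eq_iff (Nat.cast_ne_zero.2 hp.ne_zero)]
      push_cast
      rw [hr, mul_comm]
    rw [e]
    exact r.2
  obtain ⟨w, hw⟩ := IsIntegrallyClosed.isIntegral_iff.mp hq
  refine (Nat.prime_iff_prime_int.1 hp).dvd_of_dvd_pow (n := p) ⟨w, ?_⟩
  have hp0 : (p : ℚ) ≠ 0 := Nat.cast_ne_zero.2 hp.ne_zero
  rw [eq_div_iff hp0] at hw
  have : (((K - s.card) ^ p : ℤ) : ℚ) = (((p : ℤ) * w : ℤ) : ℚ) := by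
    rw [← hw]; push_cast; simp only [eq_intCast, mul_comm]
  exact_mod_cast this

variable {C : Type u} [Group C] [Finite C]

namespace Data

variable (D : Data C)

theorem card_points : Nat.card (C ⧸ D.B) = Nat.card D.Q + 1 := by
  classical
  let F : Option D.Q → C ⧸ D.B := fun a => a.elim (QuotientGroup.mk 1) fun a => QuotientGroup.mk ((a : C) * D.w)
  have hbij : Function.Bijective F := by
    have hne : ∀ a : D.Q, (QuotientGroup.mk ((a : C) * D.w) : C ⧸ D.B) ≠ QuotientGroup.mk 1 := fun a e => by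
      have h := QuotientGroup.eq.1 e.symm
      rw [inv_one, one_mul] at h
      exact D.not_mem_mul (D.QB a.2) h
    refine ⟨?_, fun s => ?_⟩
    · rintro (_ | a) (_ | b) e
      · rfl
      · exact absurd e.symm (hne b)
      · exact absurd e (hne a)
      · exact congrArg some (Subtype.ext (D.uniq a.2 b.2 (QuotientGroup.eq.1 e)))
    · induction s using QuotientGroup.induction_on with
      | H g =>
        by_cases hg : g ∈ D.B
        · exact ⟨none, QuotientGroup.eq.2 (by simpa using hg)⟩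
        · obtain ⟨a, ha, h⟩ := D.cover g hg
          exact ⟨some ⟨a, ha⟩, QuotientGroup.eq.2 h⟩
  rw [← Nat.card_eq_of_bijective F hbij, Finite.card_option]

theorem κ_root [Fintype D.Q] {p : ℕ} (hp : p.Prime) (hθ : ∀ a : D.B, D.θ a ^ p = 1) {K : ℤ} (hK : D.κ = K) :
    (p : ℤ) ∣ K - ((Fintype.card D.Q : ℤ) - 1) := by
  classical
  set g : D.Q → ℂ := fun a => if h : (a : C) = 1 then 0
    else (D.val (((D.cover (D.w * a * D.w) fun hm => h (D.inter a a.2 hm)).choose * D.w)⁻¹ * (D.w * a * D.w)))⁻¹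
    with hg
  have h1 : D.κ = ∑ a ∈ Finset.univ.erase (1 : D.Q), g a := by
    rw [Finset.sum_erase _ (by simp [hg])]
    exact Finset.sum_congr rfl fun a _ => by simp [hg]
  have h2 := dvd_of_root_sum hp (Finset.univ.erase (1 : D.Q)) g (fun a ha => ?_) (h1 ▸ hK)
  · rw [Finset.card_erase_of_mem (Finset.mem_univ _), Finset.card_univ,
      Nat.cast_sub (Fintype.card_pos (α := D.Q))] at h2
    exact_mod_cast h2
  · have hne : (a : C) ≠ 1 := fun e => (Finset.mem_erase.1 ha).1 (Subtype.ext e)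
    simp only [hg, dif_neg hne]
    obtain ⟨-, hd⟩ := (D.cover (D.w * a * D.w) fun hm => hne (D.inter a a.2 hm)).choose_spec
    rw [inv_pow, D.val_of_mem hd, ← Units.val_pow_eq_pow_val, hθ, Units.val_one, inv_one]

variable [Fintype D.Q] [Fintype (C ⧸ D.B)] [DecidableEq (C ⧸ D.B)]

theorem ext_single (x : C ⧸ D.B) (g : C) :
    D.ext (Pi.single x 1) g = if (QuotientGroup.mk g : C ⧸ D.B) = x then (D.val (x.out⁻¹ * g))⁻¹ else 0 := by
  rw [ext]
  split_ifs with h
  · subst h; simp
  · simp [Pi.single_apply, h]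

theorem trace_T : LinearMap.trace ℂ _ D.T = 0 := by
  rw [trace_eq_sum]
  refine Finset.sum_eq_zero fun x _ => Finset.sum_eq_zero fun a _ => ?_
  rw [D.ext_single, if_neg]
  intro e
  conv_rhs at e => rw [← QuotientGroup.out_eq' x]
  have h := QuotientGroup.eq.1 e.symm
  rw [show x.out⁻¹ * (x.out * a * D.w) = a * D.w by group] at h
  exact D.not_mem_mul (D.QB a.2) h

theorem fixed_iff (t : C) (x : C ⧸ D.B) :
    (QuotientGroup.mk (t * x.out) : C ⧸ D.B) = x ↔ x.out⁻¹ * t * x.out ∈ D.B := by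
  conv_lhs => rhs; rw [← QuotientGroup.out_eq' x]
  rw [eq_comm, QuotientGroup.eq, mul_assoc]

theorem trace_M {t : C} (ht : t * t = 1) :
    LinearMap.trace ℂ _ (D.M t) = Nat.card {x : C ⧸ D.B // x.out⁻¹ * t * x.out ∈ D.B} := by
  classical
  rw [trace_eq_sum, Nat.card_eq_fintype_card, Fintype.card_subtype]
  have e : ∀ x : C ⧸ D.B, (D.M t) (Pi.single x 1) x = if x.out⁻¹ * t * x.out ∈ D.B then (1 : ℂ) else 0 := by
    intro x
    show D.ext (Pi.single x 1) (t⁻¹ * x.out) = _
    rw [inv_eq_of_mul_eq_one_right ht, D.ext_single]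
    by_cases h : x.out⁻¹ * t * x.out ∈ D.B
    · rw [if_pos ((D.fixed_iff t x).2 h), if_pos h, ← mul_assoc, D.val_of_mem h,
        D.θ_two ⟨_, h⟩ (by
          show x.out⁻¹ * t * x.out * (x.out⁻¹ * t * x.out) = 1
          rw [show x.out⁻¹ * t * x.out * (x.out⁻¹ * t * x.out) = x.out⁻¹ * (t * t) * x.out by group, ht]; group),
        Units.val_one, inv_one]
    · rw [if_neg fun h' => h ((D.fixed_iff t x).1 h'), if_neg h]
  simp only [e, Finset.sum_boole]

theorem trace_T_M (hodd : ∀ a : D.B, D.θ a ^ 2 = 1 → D.θ a = 1) {t : C} (ht : t * t = 1) :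
    LinearMap.trace ℂ _ (D.T * D.M t) =
      (Nat.card (C ⧸ D.B) : ℂ) - Nat.card {x : C ⧸ D.B // x.out⁻¹ * t * x.out ∈ D.B} := by
  classical
  rw [trace_eq_sum, Nat.card_eq_fintype_card, Nat.card_eq_fintype_card, Fintype.card_subtype]
  have e : ∀ x : C ⧸ D.B,
      (D.T * D.M t) (Pi.single x 1) x = 1 - if x.out⁻¹ * t * x.out ∈ D.B then (1 : ℂ) else 0 := by
    intro x
    show ∑ a : D.Q, D.ext (D.M t (Pi.single x 1)) (x.out * a * D.w) = _
    simp only [D.ext_M, inv_eq_of_mul_eq_one_right ht, D.ext_single]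
    set s := x.out⁻¹ * t * x.out with hs
    have hiff : ∀ a : D.Q, (QuotientGroup.mk (t * (x.out * a * D.w)) : C ⧸ D.B) = x ↔ s * a * D.w ∈ D.B := by
      intro a
      conv_lhs => rhs; rw [← QuotientGroup.out_eq' x]
      rw [eq_comm, QuotientGroup.eq, show x.out⁻¹ * (t * (x.out * a * D.w)) = s * a * D.w by rw [hs]; group]
    by_cases h : s ∈ D.B
    · rw [if_pos h, sub_self]
      exact Finset.sum_eq_zero fun a _ => if_neg fun e => D.not_mem_mul (mul_mem h (D.QB a.2)) ((hiff a).1 e)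
    rw [if_neg h, sub_zero]
    obtain ⟨a', ha', hm⟩ := D.cover s h
    have hss : s * s = 1 := by
      rw [hs, show x.out⁻¹ * t * x.out * (x.out⁻¹ * t * x.out) = x.out⁻¹ * (t * t) * x.out by group, ht]; group
    have hb : s * a' * D.w ∈ D.B := by
      have := inv_mem hm
      rwa [show ((a' * D.w)⁻¹ * s)⁻¹ = s⁻¹ * a' * D.w by group, inv_eq_of_mul_eq_one_right hss] at this
    rw [Finset.sum_eq_single (⟨a', ha'⟩ : D.Q)]
    · rw [if_pos ((hiff _).2 hb)]
      show (D.val (x.out⁻¹ * (t * (x.out * a' * D.w))))⁻¹ = 1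
      rw [show x.out⁻¹ * (t * (x.out * a' * D.w)) = s * a' * D.w by rw [hs]; group]
      set b2 := a'⁻¹ * (s * a' * D.w) with hb2
      have hb2B : b2 ∈ D.B := mul_mem (inv_mem (D.QB ha')) hb
      have hsq : D.w * b2 * D.w = b2⁻¹ := by
        refine eq_inv_of_mul_eq_one_left ?_
        rw [hb2, show D.w * (a'⁻¹ * (s * a' * D.w)) * D.w * (a'⁻¹ * (s * a' * D.w)) =
            D.w * a'⁻¹ * s * a' * (D.w * D.w) * a'⁻¹ * s * a' * D.w by group, D.ww,
          show D.w * a'⁻¹ * s * a' * 1 * a'⁻¹ * s * a' * D.w = D.w * a'⁻¹ * (s * s) * a' * D.w by group, hss,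
          show D.w * a'⁻¹ * 1 * a' * D.w = D.w * D.w by group, D.ww]
      have hθ : D.val b2⁻¹ = D.val b2 := by
        rw [D.val_of_mem (inv_mem hb2B), D.val_of_mem hb2B]
        have := D.θ_w ⟨b2, hb2B⟩ (by rw [hsq]; exact inv_mem hb2B)
        simp only [hsq] at this
        exact congrArg Units.val this
      have hone : D.val b2 = 1 := by
        rw [D.val_of_mem hb2B]
        have h1 : D.θ ⟨b2, hb2B⟩ ^ 2 = 1 := Units.ext (by
          rw [Units.val_pow_eq_pow_val, ← D.val_of_mem hb2B, pow_two, Units.val_one]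
          nth_rw 1 [← hθ]
          rw [D.val_inv hb2B, inv_mul_cancel₀ (D.val_ne hb2B)])
        rw [hodd _ h1, Units.val_one]
      rw [show s * a' * D.w = a' * b2 by rw [hb2]; group, D.val_mul (D.QB ha') hb2B, D.val_Q ha', hone, mul_one,
        inv_one]
    · intro a _ hne
      refine if_neg fun e => hne (Subtype.ext (D.uniq a.2 ha' ?_))
      have := mul_mem (inv_mem ((hiff a).1 e)) hb
      rwa [show (s * a * D.w)⁻¹ * (s * a' * D.w) = ((a : C) * D.w)⁻¹ * (a' * D.w) by group] at this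
    · simp
  simp only [e, Finset.sum_sub_distrib, Finset.sum_const, Finset.card_univ, nsmul_eq_mul, mul_one, Finset.sum_boole]

end Data

end CfsgLib.Recog.Walter.FieldHecke
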