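import Cfsg.Agent.Lib.Recog.Walter.Field.Three.Main

/-!
Owner: helper12. Walter, field part: the induction of the assembly (notes/walter_field_helper12.md SPLIT).

* `Below G`: the field part for smaller groups;
* `PrimeStep p`: no group in which the field part holds below has `p ∣ n`;
* `fieldTrivial_of_steps`: `FieldTrivial` from the steps for `p ≥ 5` and for `p = 3` outside characteristic three.
-/

set_option autoImplicit false

namespace CfsgLib.Walter.Field

universe u

/-- The field part for groups smaller than `G`. -/
def Below (G : Type u) [Group G] : Prop :=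
  ∀ (H : Type u) [Group H] [Finite H], Nat.card H < Nat.card G →
    ∀ (s : H) (E L : Subgroup H) (F : Type) [Field F] [Fintype F] (h : Setting s E L F), h.n = 1

/-- The inductive step at the prime `p`. -/
def PrimeStep : Prop :=
  ∀ (G : Type u) [Group G] [Finite G] (t : G) (E L : Subgroup G) (F : Type) [Field F] [Fintype F]
    (h : Setting t E L F) (p : ℕ), p.Prime → p ∣ h.n → (p = 3 → ¬ CharP F 3) → Below G → False

/-- **The assembly.** -/
theorem fieldTrivial_of_steps (hstep : PrimeStep.{u}) : FieldTrivial.{u} := by
  suffices ∀ (N : ℕ) (G : Type u) [Group G] [Finite G], Nat.card G < N →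
      ∀ (t : G) (E L : Subgroup G) (F : Type) [Field F] [Fintype F] (h : Setting t E L F), h.n = 1 from
    fieldTrivial_of fun G _ _ t E L F _ _ h => this (Nat.card G + 1) G (Nat.lt_succ_self _) t E L F h
  intro N
  induction N with
  | zero => intro G _ _ hlt; exact absurd hlt (Nat.not_lt_zero _)
  | succ N ih =>
    intro G _ _ hlt t E L F _ _ h
    by_contra hn
    obtain ⟨p, hp, hpn⟩ := Nat.exists_prime_and_dvd hn
    refine hstep G t E L F h p hp hpn (fun h3 hc => ?_) fun H _ _ hH => ih H (lt_of_lt_of_le hH (Nat.lt_succ_iff.1 hlt))
    subst h3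
    exact h.not_three_dvd hpn

end CfsgLib.Walter.Field
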