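import Cfsg.Agent.Lib.Recog.Walter.Field.PPart.Invol

/-!
Owner: helper19. Walter, field part: an odd group `Γ` of automorphisms of a space over `ZMod p`, normalised by an
involution `τ` with a one-dimensional fixed space `e` and by `γ`, which fixes `e` and is a scalar `μ`, `μ² ≠ 1`, on
the `-1` space of `τ`.  If the elements of `Γ` commuting with `τ` fix `e` and none of them has order `p`, then the
inverted elements form a normal Sylow `p`-subgroup of `Γ`.
-/

set_option autoImplicit false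
set_option linter.style.haveILetI false
set_option linter.unusedSectionVars false

namespace CfsgLib.Walter.Field.Reflection

open Subgroup

universe u

variable {V : Type u} [AddCommGroup V] {p : ℕ} [Fact p.Prime] [Module (ZMod p) V]

/-- The hypotheses. -/
structure Refl (τ γ : V ≃ₗ[ZMod p] V) (e : V) (μ : ZMod p) (Γ : Subgroup (V ≃ₗ[ZMod p] V)) : Prop where
  p_odd : p ≠ 2
  τ2 : ∀ v, τ (τ v) = v
  τe : τ e = e
  e_ne : e ≠ 0
  fixed : ∀ v, τ v = v → ∃ a : ZMod p, v = a • e
  γe : γ e = e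
  γw : ∀ v, τ v = -v → γ v = μ • v
  μ0 : μ ≠ 0
  μ_sq : μ * μ ≠ 1
  odd : Odd (Nat.card Γ)
  τΓ : ∀ g ∈ Γ, τ * g * τ⁻¹ ∈ Γ
  γΓ : ∀ g ∈ Γ, γ * g * γ⁻¹ ∈ Γ
  fix_e : ∀ g ∈ Γ, g * τ = τ * g → g e = e
  no_p : ∀ g ∈ Γ, g * τ = τ * g → g ^ p = 1 → g = 1

variable {τ γ : V ≃ₗ[ZMod p] V} {e : V} {μ : ZMod p} {Γ : Subgroup (V ≃ₗ[ZMod p] V)}

theorem mul_apply' (a b : V ≃ₗ[ZMod p] V) (v : V) : (a * b) v = a (b v) := rfl

theorem inv_apply_self (a : V ≃ₗ[ZMod p] V) (v : V) : (a⁻¹) (a v) = v := a.symm_apply_apply v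

theorem apply_inv_self (a : V ≃ₗ[ZMod p] V) (v : V) : a ((a⁻¹) v) = v := a.apply_symm_apply v

/-- An endomorphism with nilpotent `x - 1` of class at most three has `x ^ p = 1`. -/
theorem pow_p_eq_one [Finite V] (hp3 : 3 ≤ p) (x : V ≃ₗ[ZMod p] V) (M : V → V) (hM : ∀ v, M v = x v - v)
    (h3 : ∀ v, M (M (M v)) = 0) : x ^ p = 1 := by
  let N : Module.End (ZMod p) V := (x : V →ₗ[ZMod p] V) - 1
  have hN : ∀ v, N v = M v := fun v => by rw [hM]; rfl
  rcases subsingleton_or_nontrivial V with hs | hs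
  · exact LinearEquiv.ext fun v => Subsingleton.elim _ _
  haveI : Nontrivial (Module.End (ZMod p) V) := by
    obtain ⟨a, ha⟩ := exists_ne (0 : V)
    exact ⟨1, 0, fun h => ha (by simpa using congrArg (fun f : Module.End (ZMod p) V => f a) h)⟩
  haveI : CharP (Module.End (ZMod p) V) p :=
    charP_of_injective_algebraMap (algebraMap (ZMod p) (Module.End (ZMod p) V)).injective p
  have hN3 : N ^ 3 = 0 := LinearMap.ext fun v => by
    rw [pow_succ, pow_two, Module.End.mul_apply, Module.End.mul_apply, hN, hN, hN, h3]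
    rfl
  have hNp : N ^ p = 0 := by
    obtain ⟨j, rfl⟩ := Nat.exists_eq_add_of_le hp3
    rw [pow_add, hN3, zero_mul]
  have hx : ((x ^ p : V ≃ₗ[ZMod p] V) : V →ₗ[ZMod p] V) = 1 := by
    have h1 : ∀ n : ℕ, ((x ^ n : V ≃ₗ[ZMod p] V) : V →ₗ[ZMod p] V) = (1 + N) ^ n := by
      intro n
      induction n with
      | zero => rfl
      | succ m ih =>
        rw [pow_succ, pow_succ, ← ih]
        refine LinearMap.ext fun v => ?_
        show (x ^ m) (x v) = (x ^ m) (v + N v)
        rw [hN, hM, add_sub_cancel]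
    rw [h1, add_pow_char_of_commute (p := p) (Commute.one_left N), one_pow, hNp, add_zero]
  exact LinearEquiv.toLinearMap_injective hx

namespace Refl

variable [Finite V] (h : Refl τ γ e μ Γ)
include h

theorem three_le : 3 ≤ p := by
  have h2 := (Fact.out : p.Prime).two_le
  have := h.p_odd
  omega

theorem two_ne : (2 : ZMod p) ≠ 0 := fun h2 => h.p_odd ((Nat.prime_dvd_prime_iff_eq Fact.out Nat.prime_two).1
  ((ZMod.natCast_eq_zero_iff 2 p).1 (by exact_mod_cast h2)))

theorem eq_zero_of_neg {v : V} (hv : v = -v) : v = 0 := by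
  have h2 : (2 : ZMod p) • v = 0 := by
    rw [two_smul]
    nth_rewrite 2 [hv]
    exact add_neg_cancel v
  exact (smul_eq_zero.1 h2).resolve_left h.two_ne

theorem e_ne_smul {a : ZMod p} {w : V} (hw : τ w = -w) (he : a • e = w) : a = 0 := by
  have h1 : a • e = -(a • e) := by
    conv_lhs => rw [← h.τe, ← map_smul, he, hw, ← he]
  exact (smul_eq_zero.1 (h.eq_zero_of_neg h1)).resolve_right h.e_ne

theorem halves (a : ZMod p) : a / 2 + a / 2 = a := by
  rw [← mul_two, div_mul_cancel₀ a h.two_ne]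

/-- The commutator `g⁻¹ τ g τ` is a product of two negated reflections. -/
theorem comm_shape (g : V ≃ₗ[ZMod p] V) :
    ∃ (α : ZMod p) (w : V) (r : V ≃ₗ[ZMod p] V), τ w = -w ∧ α • e + w ≠ 0 ∧ r (α • e + w) = α • e + w ∧
      (∀ v, ∃ s : ZMod p, r v = -v + s • (α • e + w)) ∧ g⁻¹ * τ * g * τ⁻¹ = r * τ := by
  have hτi : τ⁻¹ = τ := inv_eq_of_mul_eq_one_right (LinearEquiv.ext fun v => h.τ2 v)
  set e' := (g⁻¹) e with he'
  obtain ⟨a, ha⟩ := h.fixed (e' + τ e') (by rw [map_add, h.τ2, add_comm])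
  refine ⟨a / 2, e' - (a / 2) • e, g⁻¹ * τ * g, ?_, ?_, ?_, ?_, by rw [hτi]⟩
  · have h2 : τ e' = a • e - e' := eq_sub_of_add_eq' ha
    rw [map_sub, map_smul, h.τe, h2, neg_sub]
    have : a • e = (a / 2) • e + (a / 2) • e := by rw [← add_smul, h.halves]
    rw [this]; abel
  · rw [add_sub_cancel]
    intro h0
    apply h.e_ne
    rw [← apply_inv_self g e, ← he', h0, map_zero]
  · rw [add_sub_cancel, mul_apply', mul_apply', he', apply_inv_self, h.τe]
  · intro v
    obtain ⟨s, hs⟩ := h.fixed (g v + τ (g v)) (by rw [map_add, h.τ2, add_comm])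
    refine ⟨s, ?_⟩
    rw [add_sub_cancel, mul_apply', mul_apply', eq_sub_of_add_eq' hs, map_sub, map_smul, ← he',
      inv_apply_self]
    abel

/-- Every such commutator in `Γ` has order dividing `p`. -/
theorem comm_pow {g : V ≃ₗ[ZMod p] V} (hg : g ∈ Γ) : (g⁻¹ * τ * g * τ⁻¹) ^ p = 1 := by
  obtain ⟨α, w, r, hw, hne, hre, hr, hx⟩ := h.comm_shape g
  rw [hx]
  set x := r * τ with hxd
  have hxΓ : x ∈ Γ := by
    rw [← hx, show g⁻¹ * τ * g * τ⁻¹ = g⁻¹ * (τ * g * τ⁻¹) by group]
    exact mul_mem (inv_mem hg) (h.τΓ g hg)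
  obtain ⟨s, hs⟩ := hr e
  obtain ⟨β, hβ⟩ := hr w
  set e' := α • e + w with he'
  have hsum : α * s + β = 2 := by
    have h1 : r e' = -e' + (α * s + β) • e' := by
      rw [he', map_add, map_smul, hs, hβ, ← he', smul_add, smul_neg, smul_smul, add_smul, he', neg_add]
      abel
    rw [hre] at h1
    have h2 : (α * s + β - 2) • e' = 0 := by
      linear_combination (norm := module) -h1
    exact sub_eq_zero.1 ((smul_eq_zero.1 h2).resolve_right hne)
  have hxe : x e = -e + s • e' := by rw [hxd, mul_apply', h.τe, hs]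
  have hxw : x w = w - β • e' := by rw [hxd, mul_apply', hw, map_neg, hβ]; abel
  -- `x - 1` on the whole space
  have hdec : ∀ v : V, ∃ (a : ZMod p) (u : V) (σ : ZMod p),
      v = a • e + u ∧ τ u = -u ∧ x u = u - σ • e' := by
    intro v
    obtain ⟨a, ha⟩ := h.fixed (v + τ v) (by rw [map_add, h.τ2, add_comm])
    have hu : τ (v - (a / 2) • e) = -(v - (a / 2) • e) := by
      rw [map_sub, map_smul, h.τe, eq_sub_of_add_eq' ha, neg_sub]
      have : a • e = (a / 2) • e + (a / 2) • e := by rw [← add_smul, h.halves]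
      rw [this]; abel
    obtain ⟨σ, hσ⟩ := hr (v - (a / 2) • e)
    exact ⟨a / 2, _, σ, (add_sub_cancel _ _).symm, hu, by rw [hxd, mul_apply', hu, map_neg, hσ]; abel⟩
  by_cases hb : β = 0
  · -- unipotent
    refine pow_p_eq_one h.three_le x (fun v => x v - v) (fun _ => rfl) fun v => ?_
    have hαs : α * s = 2 := by rw [← hsum, hb, add_zero]
    have hxw' : x w = w := by rw [hxw, hb, zero_smul, sub_zero]
    have hNe' : x e' - e' = (2 : ZMod p) • w := by
      rw [he', map_add, map_smul, hxe, hxw', ← he', smul_add, smul_smul, hαs, he', smul_add, smul_neg]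
      module
    have he1 : x e - e = s • w := by
      rw [hxe, he', smul_add, smul_smul, mul_comm s α, hαs]
      module
    obtain ⟨a, u, σ, rfl, -, hxu⟩ := hdec v
    have hN1 : x (a • e + u) - (a • e + u) = (a * s) • w - σ • e' := by
      rw [map_add, map_smul, hxu]
      linear_combination (norm := module) a • he1
    have e1 : x e' = e' + (2 : ZMod p) • w := by rw [← hNe']; abel
    rw [hN1]
    simp only [map_sub, map_smul, map_add, e1, hxw']
    module
  · -- the block of `e`, `w`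
    have hw0 : w ≠ 0 := fun h0 => hb (by
      have h1 : r w = 0 := by rw [h0, map_zero]
      rw [hβ, h0, neg_zero, zero_add] at h1
      exact (smul_eq_zero.1 h1).resolve_right hne)
    let U : Set V := {u | τ u = -u ∧ r u = -u}
    let Blk : (V ≃ₗ[ZMod p] V) → Prop := fun g => (∀ u ∈ U, g u = u) ∧
      ∃ a b c d : ZMod p, g e = a • e + b • w ∧ g w = c • e + d • w ∧ a * d - b * c = 1
    have hmulB : ∀ g₁ g₂, Blk g₁ → Blk g₂ → Blk (g₁ * g₂) := by
      rintro g₁ g₂ ⟨hu1, a, b, c, d, he1, hw1, hd1⟩ ⟨hu2, a', b', c', d', he2, hw2, hd2⟩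
      refine ⟨fun u hu => by rw [mul_apply', hu2 u hu, hu1 u hu], a' * a + b' * c, a' * b + b' * d,
        c' * a + d' * c, c' * b + d' * d, ?_, ?_, ?_⟩
      · rw [mul_apply', he2, map_add, map_smul, map_smul, he1, hw1]; module
      · rw [mul_apply', hw2, map_add, map_smul, map_smul, he1, hw1]; module
      · linear_combination (a * d - b * c) * hd2 + hd1
    have hx1 : Blk x := by
      refine ⟨fun u hu => by rw [hxd, mul_apply', hu.1, map_neg, hu.2, neg_neg],
        -1 + s * α, s, -(β * α), 1 - β, ?_, ?_, ?_⟩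
      · rw [hxe, he']; module
      · rw [hxw, he']; module
      · linear_combination hsum
    set y := γ * x * γ⁻¹ with hyd
    have hyΓ : y ∈ Γ := h.γΓ x hxΓ
    have hγi : ∀ v, τ v = -v → (γ⁻¹) v = μ⁻¹ • v := fun v hv => by
      conv_rhs => rw [← inv_apply_self γ v, h.γw v hv, map_smul, smul_smul, inv_mul_cancel₀ h.μ0, one_smul]
    have hγe : (γ⁻¹) e = e := by
      conv_lhs => rw [← h.γe]
      rw [inv_apply_self]
    have hye : y e = (-1 + s * α) • e + (μ * s) • w := by
      rw [hyd, mul_apply', mul_apply', hγe, hxe, he', map_add, map_neg, map_smul, map_add, map_smul, h.γe,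
        h.γw w hw]
      module
    have hyw : y w = (-(β * α) / μ) • e + (1 - β) • w := by
      rw [hyd, mul_apply', mul_apply', hγi w hw, map_smul, map_smul, hxw, he', map_sub, map_smul, map_add,
        map_smul, h.γe, h.γw w hw, div_eq_mul_inv]
      match_scalars <;> field_simp [h.μ0]
    have hy1 : Blk y := by
      refine ⟨fun u hu => ?_, _, _, _, _, hye, hyw, ?_⟩
      · rw [hyd, mul_apply', mul_apply', hγi u hu.1, map_smul, map_smul, hxd, mul_apply', hu.1, map_neg, hu.2,
          neg_neg, h.γw u hu.1, smul_smul, inv_mul_cancel₀ h.μ0, one_smul]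
      · have := h.μ0
        field_simp
        linear_combination hsum
    -- the subgroup of `Γ` in the block
    let S : Set (V ≃ₗ[ZMod p] V) := {g | g ∈ Γ ∧ Blk g}
    haveI : Finite (V ≃ₗ[ZMod p] V) := Finite.of_injective _ DFunLike.coe_injective
    let B : Subgroup (V ≃ₗ[ZMod p] V) :=
      { carrier := S
        mul_mem' := fun {a b} ha hb => ⟨mul_mem ha.1 hb.1, hmulB a b ha.2 hb.2⟩
        one_mem' := ⟨one_mem _, fun u _ => rfl, 1, 0, 0, 1, by simp, by simp, by ring⟩
        inv_mem' := fun {a} ha => by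
          have h1 : ∀ n : ℕ, a ^ n ∈ S := by
            intro n
            induction n with
            | zero =>
              exact ⟨one_mem _, fun u _ => rfl, 1, 0, 0, 1, by simp, by simp, by ring⟩
            | succ m ih => rw [pow_succ]; exact ⟨mul_mem ih.1 ha.1, hmulB _ _ ih.2 ha.2⟩
          have h2 : a⁻¹ = a ^ (orderOf a - 1) := inv_eq_of_mul_eq_one_right (by
            rw [← pow_succ', Nat.sub_add_cancel (orderOf_pos a), pow_orderOf_eq_one])
          rw [h2]
          exact h1 _ }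
    have hBn : ∀ g ∈ B, τ * g * τ⁻¹ ∈ B := by
      rintro g ⟨hgΓ, hu, a, b, c, d, he1, hw1, hd⟩
      have hτi : ∀ v, (τ⁻¹) v = τ v := fun v => by
        conv_lhs => rw [← h.τ2 v, inv_apply_self]
      refine ⟨h.τΓ g hgΓ, fun u hu' => ?_, a, -b, -c, d, ?_, ?_, by linear_combination hd⟩
      · rw [mul_apply', mul_apply', hτi, hu'.1, map_neg, hu u hu', map_neg, hu'.1, neg_neg]
      · rw [mul_apply', mul_apply', hτi, h.τe, he1, map_add, map_smul, map_smul, h.τe, hw]; module
      · rw [mul_apply', mul_apply', hτi, hw, map_neg, hw1, map_neg, map_add, map_smul, map_smul, h.τe, hw]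
        module
    -- no fixed points in the block
    have hBfree : ∀ g ∈ B, τ * g * τ⁻¹ = g → g = 1 := by
      rintro g ⟨hgΓ, hu, a, b, c, d, he1, hw1, hd⟩ hc
      have hcm : g * τ = τ * g := (mul_inv_eq_iff_eq_mul.1 hc).symm
      have he2 := h.fix_e g hgΓ hcm
      rw [he1] at he2
      have hb0 : b = 0 := by
        have h1 := h.e_ne_smul (a := 1 - a) (w := b • w) (by rw [map_smul, hw, smul_neg])
          (by rw [sub_smul, one_smul, sub_eq_iff_eq_add, add_comm]; exact he2.symm)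
        have h2 : a = 1 := (sub_eq_zero.1 h1).symm
        rw [h2, one_smul, add_eq_left, smul_eq_zero] at he2
        exact he2.resolve_right hw0
      have hc0 : c = 0 := by
        have h1 : τ (g w) = -(g w) := by rw [← mul_apply', ← hcm, mul_apply', hw, map_neg]
        refine h.e_ne_smul (w := g w - d • w) ?_ ?_
        · rw [map_sub, h1, map_smul, hw, smul_neg, neg_sub]; abel
        · rw [hw1, add_sub_cancel_right]
      have ha1 : a = 1 := by
        rw [hb0, zero_smul, add_zero] at he2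
        have : (a - 1) • e = 0 := by rw [sub_smul, he2, one_smul, sub_self]
        exact sub_eq_zero.1 ((smul_eq_zero.1 this).resolve_right h.e_ne)
      rw [ha1, hb0, hc0, one_mul, zero_mul, sub_zero] at hd
      rw [ha1, hb0, one_smul, zero_smul, add_zero] at he1
      rw [hc0, hd, zero_smul, zero_add, one_smul] at hw1
      refine LinearEquiv.ext fun v => ?_
      obtain ⟨a', u, σ, rfl, hu1, hu2⟩ := hdec v
      have hu3 : g u = u := by
        have hk : u - (σ / β) • w ∈ U := by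
          refine ⟨by rw [map_sub, hu1, map_smul, hw, smul_neg]; abel, ?_⟩
          have hru : r u = -u + σ • e' := by
            rw [hxd, mul_apply', hu1, map_neg] at hu2
            rw [← neg_neg (r u), hu2]; abel
          rw [map_sub, map_smul, hru, hβ]
          match_scalars <;> field_simp <;> ring
        have := hu _ hk
        rw [map_sub, map_smul, hw1] at this
        exact sub_left_inj.1 this
      show g (a' • e + u) = a' • e + u
      rw [map_add, map_smul, he1, hu3]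
    -- `x` and `y` commute
    have hBodd : Odd (Nat.card Γ) := h.odd
    let σΓ : MulAut Γ :=
      { toFun := fun g => ⟨τ * g * τ⁻¹, h.τΓ g g.2⟩
        invFun := fun g => ⟨τ * g * τ⁻¹, h.τΓ g g.2⟩
        left_inv := fun g => Subtype.ext (by
          have hττ : τ * τ = 1 := LinearEquiv.ext fun v => h.τ2 v
          show τ * (τ * g * τ⁻¹) * τ⁻¹ = g
          rw [show τ * (τ * (g : V ≃ₗ[ZMod p] V) * τ⁻¹) * τ⁻¹ = (τ * τ) * g * (τ * τ)⁻¹ by group, hττ]
          simp)
        right_inv := fun g => Subtype.ext (by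
          have hττ : τ * τ = 1 := LinearEquiv.ext fun v => h.τ2 v
          show τ * (τ * g * τ⁻¹) * τ⁻¹ = g
          rw [show τ * (τ * (g : V ≃ₗ[ZMod p] V) * τ⁻¹) * τ⁻¹ = (τ * τ) * g * (τ * τ)⁻¹ by group, hττ]
          simp)
        map_mul' := fun a b => Subtype.ext (by
          show τ * ((a : V ≃ₗ[ZMod p] V) * b) * τ⁻¹ = τ * a * τ⁻¹ * (τ * b * τ⁻¹)
          group) }
    have hcomm : Commute x y := congrArg Subtype.val (Invol.comm_of_free σΓ hBodd σΓ.left_inv
      (B := B.subgroupOf Γ) (fun g hg => hBn g hg)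
      (fun g hg hf => Subtype.ext (hBfree g hg (congrArg Subtype.val hf)))
      (x := ⟨x, hxΓ⟩) (y := ⟨y, hyΓ⟩) ⟨hxΓ, hx1⟩ ⟨hyΓ, hy1⟩).eq
    -- the degenerate cases
    have hz : s * β * α = 0 := by
      have h1 : x (y e) = y (x e) := by rw [← mul_apply', hcomm.eq, mul_apply']
      have hxe' : x e = (-1 + s * α) • e + s • w := by rw [hxe, he']; module
      have hxw' : x w = (-(β * α)) • e + (1 - β) • w := by rw [hxw, he']; module
      have L : x (y e) = ((-1 + s * α) * (-1 + s * α) - μ * s * (β * α)) • e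
          + ((-1 + s * α) * s + μ * s * (1 - β)) • w := by
        rw [hye, map_add, map_smul, map_smul, hxe', hxw']; module
      have R : y (x e) = ((-1 + s * α) * (-1 + s * α) + s * (-(β * α) / μ)) • e
          + ((-1 + s * α) * (μ * s) + s * (1 - β)) • w := by
        rw [hxe', map_add, map_smul, map_smul, hye, hyw]; module
      rw [L, R] at h1
      have hτL := congrArg τ h1
      simp only [map_add, map_smul, h.τe, hw] at hτL
      have h3 := congrArg₂ (· + ·) h1 hτL
      have h4 : (2 * (s * β * α * (μ * μ - 1) / μ)) • e = 0 := by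
        rw [← sub_eq_zero] at h3
        rw [← neg_eq_zero, ← h3]
        match_scalars <;> field_simp [h.μ0] <;> ring
      have h5 := (smul_eq_zero.1 h4).resolve_right h.e_ne
      rcases mul_eq_zero.1 h5 with h6 | h6
      · exact absurd h6 h.two_ne
      · rcases div_eq_zero_iff.1 h6 with h7 | h7
        · exact (mul_eq_zero.1 h7).resolve_right (sub_ne_zero.2 h.μ_sq)
        · exact absurd h7 h.μ0
    have hβ2 : β = 2 ∧ (α = 0 ∨ s = 0) := by
      rcases mul_eq_zero.1 hz with h1 | h1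
      · have hs0 : s = 0 := (mul_eq_zero.1 h1).resolve_right hb
        exact ⟨by rw [← hsum, hs0]; ring, Or.inr hs0⟩
      · exact ⟨by rw [← hsum, h1]; ring, Or.inl h1⟩
    have hsq : (x * x) ^ p = 1 := by
      refine pow_p_eq_one h.three_le (x * x) (fun v => (x * x) v - v) (fun _ => rfl) fun v => ?_
      have key : ∀ v, ∃ a : ZMod p, ∀ M : V, M = (x * x) v - v →
          (α = 0 → M = a • w) ∧ (s = 0 → M = a • e) := by
        intro v
        obtain ⟨a, u, σ, rfl, -, hxu⟩ := hdec v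
        rcases hβ2.2 with hα | hs0
        · refine ⟨-(2 * (a * s)), fun M hM => ⟨fun _ => ?_, fun hs0 => ?_⟩⟩
          · subst hM
            have he'' : e' = w := by rw [he', hα, zero_smul, zero_add]
            have hxw'' : x w = -w := by rw [hxw, hβ2.1, he'']; module
            simp only [mul_apply', map_add, map_smul, hxe, hxu, map_sub, map_neg, he'', hxw'']
            module
          · subst hM
            have he'' : e' = w := by rw [he', hα, zero_smul, zero_add]
            have hxw'' : x w = -w := by rw [hxw, hβ2.1, he'']; module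
            simp only [mul_apply', map_add, map_smul, hxe, hxu, map_sub, map_neg, he'', hxw'', hs0]
            module
        · refine ⟨2 * (σ * α), fun M hM => ⟨fun hα => ?_, fun _ => ?_⟩⟩
          · subst hM
            have hxw'' : x w = -w - (2 * α) • e := by rw [hxw, hβ2.1, he']; module
            simp only [mul_apply', map_add, map_smul, hxe, hxu, map_sub, map_neg, he', hxw'', hs0, hα,
              zero_smul, smul_zero, zero_add, add_zero]
            module
          · subst hM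
            have hxw'' : x w = -w - (2 * α) • e := by rw [hxw, hβ2.1, he']; module
            simp only [mul_apply', map_add, map_smul, hxe, hxu, map_sub, map_neg, he', hxw'', hs0,
              zero_smul, add_zero]
            module
      have hz0 : ∀ v, (x * x) ((x * x) v - v) - ((x * x) v - v) = 0 := by
        intro v
        obtain ⟨a, ha⟩ := key v
        rcases hβ2.2 with hα | hs0
        · rw [(ha _ rfl).1 hα, map_smul, mul_apply', hxw, hβ2.1, he', hα, zero_smul, zero_add, map_sub, map_smul,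
            hxw, hβ2.1, he', hα, zero_smul, zero_add]
          module
        · rw [(ha _ rfl).2 hs0, map_smul, mul_apply', hxe, hs0, zero_smul, add_zero, map_neg, hxe, hs0,
            zero_smul, add_zero, neg_neg, sub_self]
      rw [hz0]
    haveI : Finite (V ≃ₗ[ZMod p] V) := Finite.of_injective _ DFunLike.coe_injective
    have hd2p : orderOf x ∣ 2 * p := orderOf_dvd_of_pow_eq_one (by rw [pow_mul, pow_two]; exact hsq)
    have hodd : Odd (orderOf x) := Odd.of_dvd_nat h.odd (Subgroup.orderOf_dvd_natCard Γ hxΓ)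
    exact orderOf_dvd_iff_pow_eq_one.1 ((Nat.coprime_two_right.2 hodd).dvd_of_dvd_mul_left hd2p)

/-- The inverted elements form a normal Sylow `p`-subgroup. -/
theorem exists_sylow : ∃ T : Subgroup (V ≃ₗ[ZMod p] V), T ≤ Γ ∧ IsPGroup p T ∧
    (∀ g ∈ Γ, ∀ x ∈ T, g * x * g⁻¹ ∈ T) ∧ (∀ x ∈ T, τ * x * τ⁻¹ ∈ T) ∧
    (∀ g ∈ Γ, (∃ k : ℕ, g ^ p ^ k = 1) → g ∈ T) ∧
    ∀ g ∈ Γ, ∃ x ∈ T, ∃ s ∈ Γ, s * τ = τ * s ∧ g = x * s := by
  haveI : Finite (V ≃ₗ[ZMod p] V) := Finite.of_injective _ DFunLike.coe_injective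
  have hττ : τ * τ = 1 := LinearEquiv.ext fun v => h.τ2 v
  let σ : MulAut Γ :=
    { toFun := fun g => ⟨τ * g * τ⁻¹, h.τΓ g g.2⟩
      invFun := fun g => ⟨τ * g * τ⁻¹, h.τΓ g g.2⟩
      left_inv := fun g => Subtype.ext (by
        show τ * (τ * g * τ⁻¹) * τ⁻¹ = g
        rw [show τ * (τ * (g : V ≃ₗ[ZMod p] V) * τ⁻¹) * τ⁻¹ = (τ * τ) * g * (τ * τ)⁻¹ by group, hττ]
        simp)
      right_inv := fun g => Subtype.ext (by
        show τ * (τ * g * τ⁻¹) * τ⁻¹ = g
        rw [show τ * (τ * (g : V ≃ₗ[ZMod p] V) * τ⁻¹) * τ⁻¹ = (τ * τ) * g * (τ * τ)⁻¹ by group, hττ]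
        simp)
      map_mul' := fun a b => Subtype.ext (by
        show τ * ((a : V ≃ₗ[ZMod p] V) * b) * τ⁻¹ = τ * a * τ⁻¹ * (τ * b * τ⁻¹)
        group) }
  have hσ : ∀ g, σ (σ g) = g := σ.left_inv
  have hfixC : ∀ s : Γ, σ s = s → (s : V ≃ₗ[ZMod p] V) * τ = τ * s := fun s hs =>
    (mul_inv_eq_iff_eq_mul.1 (congrArg Subtype.val hs)).symm
  have hfix : ∀ s : Γ, σ s = s → ¬ p ∣ orderOf s := by
    intro s hs hd
    have h1 : orderOf (s ^ (orderOf s / p)) = p := orderOf_pow_orderOf_div (orderOf_pos s).ne' hd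
    have h2 := h.no_p _ (s ^ (orderOf s / p)).2 (hfixC _ (by rw [map_pow, hs]))
      (by rw [← Subgroup.coe_pow, orderOf_dvd_iff_pow_eq_one.1 (dvd_of_eq h1), Subgroup.coe_one])
    rw [orderOf_eq_one_iff.2 (Subtype.ext h2 : s ^ (orderOf s / p) = 1)] at h1
    exact (Fact.out : p.Prime).one_lt.ne h1
  have hinv : ∀ k : Γ, σ k = k⁻¹ → k ^ p = 1 := by
    intro k hk
    obtain ⟨n, hn⟩ := Invol.exists_sqrt (Invol.odd_orderOf h.odd k)
    set j := k ^ n with hj
    have hσj : σ j = j⁻¹ := by rw [hj, map_pow, hk, inv_pow]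
    have h1 := h.comm_pow (g := ((j⁻¹ : Γ) : V ≃ₗ[ZMod p] V)) (j⁻¹).2
    refine Subtype.ext ?_
    have h2 : (j * σ (j⁻¹)) ^ p = 1 := Subtype.ext (by
      rw [Subgroup.coe_pow, Subgroup.coe_one, ← h1]
      congr 1)
    rw [map_inv, hσj, inv_inv, hj, hn] at h2
    rw [h2]
  obtain ⟨T, hT⟩ := Invol.exists_invariant_sylow σ h.odd hσ p
  have hTinv : ∀ x ∈ (T : Subgroup Γ), σ x = x⁻¹ := fun x hx =>
    Invol.inverts_of_free σ h.odd hσ hT (fun s hs hsf => by
      obtain ⟨k, hk⟩ := T.isPGroup' ⟨s, hs⟩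
      obtain ⟨i, -, hi⟩ := (Nat.dvd_prime_pow Fact.out).1
        (orderOf_dvd_of_pow_eq_one (congrArg Subtype.val hk : s ^ p ^ k = 1))
      rcases i with - | i
      · exact orderOf_eq_one_iff.1 (by rw [hi, pow_zero])
      · exact absurd (hi ▸ dvd_pow_self p i.succ_ne_zero) (hfix s hsf)) hx
  -- the fixed points have `p`-power index
  let C : Subgroup Γ := MonoidHom.eqLocus σ.toMonoidHom (MonoidHom.id Γ)
  have hidx : ∀ q : ℕ, q.Prime → q ∣ C.index → q = p := by
    intro q hq hd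
    by_contra hne
    haveI : Fact q.Prime := ⟨hq⟩
    obtain ⟨Q, hQ⟩ := Invol.exists_invariant_sylow σ h.odd hσ q
    have hle : (Q : Subgroup Γ) ≤ C := fun y hy => by
      obtain ⟨k, s, hks, hk, hs, hmem⟩ := Invol.exists_split σ h.odd hσ y
      have hk1 : k = 1 := by
        have hkQ : k ∈ (Q : Subgroup Γ) := zpowers_le.2 (mul_mem hy (inv_mem (hQ y hy))) hmem
        obtain ⟨i, hi⟩ := Q.isPGroup' ⟨k, hkQ⟩
        refine orderOf_eq_one_iff.1 (Nat.eq_one_of_dvd_coprimes
          (((Nat.coprime_primes hq Fact.out).2 hne).pow_left i)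
          (orderOf_dvd_of_pow_eq_one (congrArg Subtype.val hi : k ^ q ^ i = 1))
          (orderOf_dvd_of_pow_eq_one (hinv k hk)))
      rw [hks, hk1, one_mul]
      exact hs
    exact Q.not_dvd_index (hd.trans (index_dvd_of_le hle))
  have hTC : (T : Subgroup Γ) ⊓ C = ⊥ := (Subgroup.eq_bot_iff_forall _).2 fun x ⟨hx, hxc⟩ => by
    have h1 : σ x = x := hxc
    rw [hTinv x hx] at h1
    exact Invol.eq_one_of_sq h.odd (by nth_rewrite 2 [← h1]; exact mul_inv_cancel x)
  have hcard : Nat.card C * Nat.card (T : Subgroup Γ) = Nat.card Γ := by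
    have hTdvd : C.index ∣ Nat.card (T : Subgroup Γ) := by
      obtain ⟨j, hj⟩ : ∃ j, C.index = p ^ j :=
        ⟨_, Nat.eq_prime_pow_of_unique_prime_dvd C.index_ne_zero_of_finite fun {q} hq hd => hidx q hq hd⟩
      rw [hj]
      refine T.pow_dvd_card_of_pow_dvd_card ?_
      rw [← hj]
      exact index_dvd_card C
    have hTle : Nat.card (T : Subgroup Γ) ∣ C.index := by
      have hcop : (Nat.card (T : Subgroup Γ)).Coprime (Nat.card C) := by
        obtain ⟨i, hi⟩ := IsPGroup.iff_card.1 T.isPGroup'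
        rw [hi]
        refine Nat.Coprime.pow_left _ (((Fact.out : p.Prime).coprime_iff_not_dvd).2 fun hd => ?_)
        obtain ⟨s, hs⟩ := exists_prime_orderOf_dvd_card' p hd
        exact hfix s s.2 (by rw [Subgroup.orderOf_coe, hs])
      exact hcop.dvd_of_dvd_mul_left (C.card_mul_index ▸ card_subgroup_dvd_card _)
    rw [Nat.dvd_antisymm hTle hTdvd, C.card_mul_index]
  have hcover : ∀ g : Γ, ∃ x ∈ (T : Subgroup Γ), ∃ s ∈ C, g = x * s := by
    intro g
    let m : (↥(T : Subgroup Γ)) × (↥C) → Γ := fun a => (a.1 : Γ) * (a.2 : Γ)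
    have hinj : Function.Injective m := by
      rintro ⟨a, b⟩ ⟨a', b'⟩ hab
      have h1 : ((a'⁻¹ * a : (T : Subgroup Γ)) : Γ) = ((b' * b⁻¹ : C) : Γ) := by
        show (a' : Γ)⁻¹ * a = b' * (b : Γ)⁻¹
        calc (a' : Γ)⁻¹ * a = (a' : Γ)⁻¹ * (a * b) * (b : Γ)⁻¹ := by group
          _ = b' * (b : Γ)⁻¹ := by rw [show (a : Γ) * b = a' * b' from hab]; group
      have h2 : ((a'⁻¹ * a : (T : Subgroup Γ)) : Γ) ∈ (T : Subgroup Γ) ⊓ C :=
        ⟨(a'⁻¹ * a).2, h1 ▸ (b' * b⁻¹).2⟩
      rw [hTC, mem_bot] at h2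
      have h3 : a = a' := (inv_mul_eq_one.1 (Subtype.ext h2 : a'⁻¹ * a = 1)).symm
      subst h3
      exact Prod.ext rfl (Subtype.ext (mul_left_cancel hab))
    have hbij := (Nat.bijective_iff_injective_and_card m).2 ⟨hinj, by rw [Nat.card_prod, mul_comm, hcard]⟩
    obtain ⟨⟨a, b⟩, hab⟩ := hbij.2 g
    exact ⟨a, a.2, b, b.2, hab.symm⟩
  have hmemT : ∀ k : Γ, σ k = k⁻¹ → k ∈ (T : Subgroup Γ) := by
    intro k hk
    obtain ⟨x, hx, s, hs, rfl⟩ := hcover k
    rwa [Invol.fixed_eq_one σ h.odd (hTinv x hx) hs hk, mul_one]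
  have hnorm : ∀ g : Γ, ∀ x ∈ (T : Subgroup Γ), g * x * g⁻¹ ∈ (T : Subgroup Γ) := by
    intro g x hx
    obtain ⟨a, ha, s, hs, rfl⟩ := hcover g
    rw [show a * s * x * (a * s)⁻¹ = a * (s * x * s⁻¹) * a⁻¹ by group]
    refine mul_mem (mul_mem ha (hmemT _ ?_)) (inv_mem ha)
    rw [map_mul, map_mul, map_inv, show σ s = s from hs, hTinv x hx]
    group
  haveI hTn : (T : Subgroup Γ).Normal := ⟨fun x hx g => hnorm g x hx⟩
  refine ⟨(T : Subgroup Γ).map Γ.subtype, map_subtype_le _, T.isPGroup'.map _, ?_, ?_, ?_, ?_⟩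
  · rintro g hg _ ⟨x, hx, rfl⟩
    exact ⟨⟨g, hg⟩ * x * ⟨g, hg⟩⁻¹, hnorm _ x hx, rfl⟩
  · rintro _ ⟨x, hx, rfl⟩
    exact ⟨σ x, hT x hx, rfl⟩
  · rintro g hg ⟨k, hk⟩
    have hPz : IsPGroup p (zpowers (⟨g, hg⟩ : Γ)) := fun z => ⟨k, by
      obtain ⟨z, hz⟩ := z
      obtain ⟨i, rfl⟩ := mem_zpowers_iff.1 hz
      refine Subtype.ext ?_
      show ((⟨g, hg⟩ : Γ) ^ i) ^ p ^ k = 1
      rw [← zpow_natCast ((⟨g, hg⟩ : Γ) ^ i), ← zpow_mul, mul_comm, zpow_mul, zpow_natCast,
        show (⟨g, hg⟩ : Γ) ^ p ^ k = 1 from Subtype.ext hk, one_zpow]⟩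
    obtain ⟨P, hP⟩ := hPz.exists_le_sylow
    haveI := Sylow.unique_of_normal T hTn
    exact ⟨⟨g, hg⟩, (Subsingleton.elim P T) ▸ hP (mem_zpowers _), rfl⟩
  · intro g hg
    obtain ⟨x, hx, s, hs, hgs⟩ := hcover ⟨g, hg⟩
    exact ⟨x, ⟨x, hx, rfl⟩, s, s.2, hfixC s hs, congrArg Subtype.val hgs⟩

end Refl

end CfsgLib.Walter.Field.Reflection
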