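import Mathlib

/-!
Owner: helper22. An automorphism of order three without invariant alternating forms is a power map
(section E of `notes/walter_field_helper22.md`).
-/

set_option autoImplicit false
set_option linter.all false
set_option maxHeartbeats 400000

namespace CfsgLib.Recog.Walter.FieldScalar

universe u

variable {V : Type u} [AddCommGroup V] {p : ℕ} [Fact p.Prime] [Module (ZMod p) V]

theorem eigen (hp3 : p ≠ 3) (ψ : V →ₗ[ZMod p] V) (hψ : ∀ v, v + ψ v + ψ (ψ v) = 0)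
    (hforms : ∀ B : V → V → ZMod p, (∀ x y z, B (x + y) z = B x z + B y z) →
      (∀ x y z, B x (y + z) = B x y + B x z) → (∀ x, B x x = 0) → (∀ x y, B (ψ x) (ψ y) = B x y) →
      ∀ x y, B x y = 0) {v : V} (hv : v ≠ 0) :
    ∃ r : ZMod p, ∀ w, ψ w = r • w := by
  have hcube : ∀ x, ψ (ψ (ψ x)) = x := fun x => by
    have h1 := hψ x
    have h2 := congrArg ψ h1
    rw [map_add, map_add, map_zero] at h2
    have h := congrArg₂ (· - ·) h2 h1
    simp only [sub_self] at h
    rw [← sub_eq_zero, ← h]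
    abel
  have hline : ∀ x : V, x ≠ 0 → ∃ r : ZMod p, r • x = ψ x := by
    intro x hx
    by_contra hne
    push Not at hne
    have hli : LinearIndependent (ZMod p) ![x, ψ x] := (LinearIndependent.pair_iff' hx).2 hne
    let e := (Module.Basis.span hli).repr
    obtain ⟨g, hg⟩ := LinearMap.exists_extend e.toLinearMap
    let f1 : V →ₗ[ZMod p] ZMod p := (Finsupp.lapply 0).comp g
    let f2 : V →ₗ[ZMod p] ZMod p := (Finsupp.lapply 1).comp g
    have hgb : ∀ i, g (![x, ψ x] i) = Finsupp.single i 1 := fun i => by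
      have h := LinearMap.congr_fun hg (Module.Basis.span hli i)
      simp only [LinearMap.comp_apply, Submodule.subtype_apply, LinearEquiv.coe_coe] at h
      rw [Module.Basis.span_apply] at h
      rw [h, ← (Module.Basis.span hli).repr_self i]
      exact congrArg (Module.Basis.span hli).repr (Module.Basis.span_apply hli i).symm
    have a1 : f1 x = 1 := by simpa [f1] using congrArg (fun s => s 0) (hgb 0)
    have a2 : f2 x = 0 := by simpa [f2] using congrArg (fun s => s 1) (hgb 0)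
    have b1 : f1 (ψ x) = 0 := by simpa [f1] using congrArg (fun s => s 0) (hgb 1)
    have b2 : f2 (ψ x) = 1 := by simpa [f2] using congrArg (fun s => s 1) (hgb 1)
    let γ : V → V → ZMod p := fun a b => f1 a * f2 b - f2 a * f1 b
    let B : V → V → ZMod p := fun a b => γ a b + γ (ψ a) (ψ b) + γ (ψ (ψ a)) (ψ (ψ b))
    have hB := hforms B (fun a b c => by simp only [B, γ, map_add]; ring)
      (fun a b c => by simp only [B, γ, map_add]; ring) (fun a => by simp only [B, γ]; ring)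
      (fun a b => by simp only [B, hcube]; ring) x (ψ x)
    have hψ2 : ψ (ψ x) = -x - ψ x := by
      rw [sub_eq_add_neg, ← neg_add, eq_neg_iff_add_eq_zero, ← hψ x]; abel
    simp only [B, γ, hψ2, map_sub, map_neg, hcube, a1, a2, b1, b2] at hB
    have h3 : (3 : ZMod p) = 0 := by rw [← hB]; ring
    have : p ∣ 3 := (ZMod.natCast_eq_zero_iff 3 p).1 (by exact_mod_cast h3)
    exact hp3 ((Nat.prime_dvd_prime_iff_eq Fact.out Nat.prime_three).1 this)
  obtain ⟨r, hr⟩ := hline v hv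
  refine ⟨r, fun w => ?_⟩
  by_cases hw : ∃ k : ZMod p, k • v = w
  · obtain ⟨k, rfl⟩ := hw
    rw [map_smul, ← hr, smul_comm]
  push Not at hw
  have hli : LinearIndependent (ZMod p) ![v, w] := (LinearIndependent.pair_iff' hv).2 hw
  have hw0 : w ≠ 0 := fun e => hw 0 (by rw [e, zero_smul])
  obtain ⟨r', hr'⟩ := hline w hw0
  obtain ⟨r'', hr''⟩ := hline (v + w) (fun e => hw (-1) (by rw [neg_one_smul]; exact neg_eq_of_add_eq_zero_right e))
  rw [map_add, ← hr, ← hr', smul_add] at hr''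
  have h := LinearIndependent.pair_iff.1 hli (r'' - r) (r'' - r') (by
    rw [sub_smul, sub_smul, sub_add_sub_comm, hr'', sub_self])
  rw [← hr', ← sub_eq_zero.1 h.1, sub_eq_zero.1 h.2]

variable {P : Type u} [CommGroup P] [Finite P]

/-- without invariant alternating forms an automorphism with `y φ(y) φ²(y) = 1` is a power map -/
theorem exists_scalar [Nontrivial P] (hP : IsPGroup p P) (hp3 : p ≠ 3) (φ : P →* P)
    (hφ : ∀ y, y * φ y * φ (φ y) = 1)
    (hforms : ∀ β : P → P → ZMod p, (∀ x y z, β (x * y) z = β x z + β y z) →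
      (∀ x y z, β x (y * z) = β x y + β x z) → (∀ x, β x x = 0) → (∀ x y, β (φ x) (φ y) = β x y) →
      ∀ x y, β x y = 0) :
    ∃ l : ℕ, (∀ y, φ y = y ^ l) ∧ (l : ZMod p) ^ 3 = 1 ∧ (l : ZMod p) ^ 2 ≠ 1 := by
  have hp : p.Prime := Fact.out
  obtain ⟨N, hN⟩ := hP.exists_card_eq
  let R : AddSubgroup (Additive P) := (nsmulAddMonoidHom (α := Additive P) p).range
  have hker : ∀ w : (Additive P ⧸ R), p • w = 0 := fun w => by
    induction w using QuotientAddGroup.induction_on with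
    | H a => rw [← QuotientAddGroup.mk_nsmul, QuotientAddGroup.eq_zero_iff]; exact ⟨a, rfl⟩
  haveI : Module (ZMod p) (Additive P ⧸ R) := AddCommGroup.zmodModule hker
  let q : P → (Additive P ⧸ R) := fun y => QuotientAddGroup.mk (Additive.ofMul y)
  have hq_mul : ∀ a b, q (a * b) = q a + q b := fun _ _ => rfl
  have hq_pow : ∀ a (k : ℕ), q (a ^ k) = k • q a := fun a k => QuotientAddGroup.mk_nsmul _ _ _
  have hq_zero : ∀ a, q a = 0 → ∃ w, w ^ p = a := fun a h => by
    obtain ⟨w, hw⟩ := (QuotientAddGroup.eq_zero_iff _).1 h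
    exact ⟨Additive.toMul w, congrArg Additive.toMul hw⟩
  let ψ0 : (Additive P ⧸ R) →+ (Additive P ⧸ R) := QuotientAddGroup.map R R (MonoidHom.toAdditive φ) (by
    rintro _ ⟨a, rfl⟩
    exact ⟨MonoidHom.toAdditive φ a, (map_nsmul _ p a).symm⟩)
  let ψ : (Additive P ⧸ R) →ₗ[ZMod p] (Additive P ⧸ R) :=
    { toFun := fun w => ψ0 w, map_add' := map_add ψ0, map_smul' := fun c w => ZMod.map_smul ψ0 c w }
  have hadd : ∀ a b, ψ0 (a + b) = ψ0 a + ψ0 b := map_add ψ0
  have hψq : ∀ a : P, ψ (q a) = q (φ a) := fun _ => rfl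
  obtain ⟨y0, hy0⟩ : ∃ y : P, q y ≠ 0 := by
    by_contra hall
    push Not at hall
    have hstep : ∀ i (y : P), ∃ w, w ^ p ^ i = y := by
      intro i
      induction i with
      | zero => exact fun y => ⟨y, by rw [pow_zero, pow_one]⟩
      | succ i ih =>
        intro y
        obtain ⟨w, rfl⟩ := ih y
        obtain ⟨w', rfl⟩ := hq_zero w (hall w)
        exact ⟨w', by rw [← pow_mul, pow_succ']⟩
    obtain ⟨y, hy⟩ := exists_ne (1 : P)
    obtain ⟨w, rfl⟩ := hstep N y
    exact hy (by rw [← hN]; exact pow_card_eq_one')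
  obtain ⟨r, hr⟩ := eigen hp3 ψ (fun v => by
      induction v using QuotientAddGroup.induction_on with
      | H a =>
        show q (Additive.toMul a) + ψ (q (Additive.toMul a)) + ψ (ψ (q (Additive.toMul a))) = 0
        rw [hψq, hψq, ← hq_mul, ← hq_mul, hφ]
        rfl)
    (fun B h1 h2 h3 h4 x y => by
      induction x using QuotientAddGroup.induction_on with
      | H a => induction y using QuotientAddGroup.induction_on with
        | H b =>
          exact hforms (fun a b => B (q a) (q b)) (fun a b c => by rw [hq_mul, h1]) (fun a b c => by rw [hq_mul, h2])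
            (fun a => h3 _) (fun a b => by rw [← hψq, ← hψq, h4]) (Additive.toMul a) (Additive.toMul b))
    hy0
  have hr2 : r ^ 2 + r + 1 = 0 := by
    have h : q (y0 * φ y0 * φ (φ y0)) = 0 := by rw [hφ]; rfl
    rw [hq_mul, hq_mul, ← hψq (φ y0), ← hψq y0, hr, hr, smul_smul] at h
    have h' : (r ^ 2 + r + 1) • q y0 = 0 := by rw [← h, pow_two]; module
    exact (smul_eq_zero.1 h').resolve_right hy0
  have hr3 : r ^ 3 = 1 := by linear_combination (r - 1) * hr2
  have hrne : r ^ 2 ≠ 1 := fun e => by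
    have h1 : r = -2 := by linear_combination hr2 - e
    rw [h1] at e
    have h3 : (3 : ZMod p) = 0 := by linear_combination e
    exact hp3 ((Nat.prime_dvd_prime_iff_eq hp Nat.prime_three).1 ((ZMod.natCast_eq_zero_iff 3 p).1 (by exact_mod_cast h3)))
  haveI : NeZero p := ⟨hp.ne_zero⟩
  obtain ⟨l, hl⟩ : ∃ l : ℕ, l = r.val ^ p ^ N := ⟨_, rfl⟩
  have hlr : (l : ZMod p) = r := by rw [hl, Nat.cast_pow, ZMod.natCast_zmod_val, ZMod.pow_card_pow]
  have h1 : ((p : ℤ) ^ (N + 1)) ∣ (l : ℤ) ^ 3 - 1 := by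
    have hd : (p : ℤ) ∣ (r.val : ℤ) ^ 3 - 1 := by
      rw [← ZMod.intCast_zmod_eq_zero_iff_dvd]
      push_cast
      rw [ZMod.natCast_zmod_val, hr3, sub_self]
    have := dvd_sub_pow_of_dvd_sub (R := ℤ) hd N
    rw [one_pow, ← pow_mul, mul_comm 3, pow_mul] at this
    rw [hl]
    push_cast
    exact this
  have hl3 : ((p : ℤ) ^ N) ∣ (l : ℤ) ^ 3 - 1 := (pow_dvd_pow _ (Nat.le_succ N)).trans h1
  have hl2 : ((p : ℤ) ^ N) ∣ (l : ℤ) ^ 2 + l + 1 := by
    have h : ((p : ℤ) ^ N) ∣ ((l : ℤ) - 1) * ((l : ℤ) ^ 2 + l + 1) := by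
      rwa [show ((l : ℤ) - 1) * ((l : ℤ) ^ 2 + l + 1) = (l : ℤ) ^ 3 - 1 by ring]
    refine IsCoprime.dvd_of_dvd_mul_left (IsCoprime.pow_left ?_) h
    refine (Nat.prime_iff_prime_int.1 hp).irreducible.coprime_iff_not_dvd.2 fun hd => hrne ?_
    rw [← ZMod.intCast_zmod_eq_zero_iff_dvd, Int.cast_sub, Int.cast_natCast, hlr, Int.cast_one, sub_eq_zero] at hd
    rw [hd, one_pow]
  have hzpow : ∀ (y : P) (a b : ℤ), ((p : ℤ) ^ N) ∣ a - b → y ^ a = y ^ b := fun y a b h => by
    rw [← mul_inv_eq_one, ← zpow_sub]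
    obtain ⟨k, hk⟩ := h
    rw [hk, zpow_mul, show ((p : ℤ) ^ N) = ((Nat.card P : ℕ) : ℤ) by rw [hN]; push_cast; rfl, zpow_natCast,
      pow_card_eq_one', one_zpow]
  let θ : P →* P := φ * (powMonoidHom (α := P) (l ^ 2))⁻¹
  have hθ : ∀ y, θ y = φ y * (y ^ (l ^ 2))⁻¹ := fun _ => rfl
  have hφθ : ∀ y, φ (θ y) = θ y ^ l := by
    intro y
    have hφ2 : φ (φ y) = y⁻¹ * (φ y)⁻¹ := by
      rw [eq_inv_of_mul_eq_one_right (hφ y), mul_inv_rev, mul_comm]
    rw [hθ, map_mul, map_inv, map_pow, hφ2, mul_pow, inv_pow, ← pow_mul]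
    have e1 : φ y ^ ((-1 : ℤ) - (l : ℤ) ^ 2) = φ y ^ (l : ℤ) := hzpow _ _ _ (by
      rw [show (-1 : ℤ) - (l : ℤ) ^ 2 - l = -((l : ℤ) ^ 2 + l + 1) by ring]; exact hl2.neg_right)
    have e2 : y ^ ((l : ℤ) ^ 2 * l) = y ^ (1 : ℤ) := hzpow _ _ _ (by
      rw [show (l : ℤ) ^ 2 * l - 1 = (l : ℤ) ^ 3 - 1 by ring]; exact hl3)
    rw [zpow_sub, zpow_neg_one, zpow_natCast, show (l : ℤ) ^ 2 = ((l ^ 2 : ℕ) : ℤ) by push_cast; rfl, zpow_natCast] at e1
    rw [zpow_one, show (l : ℤ) ^ 2 * l = ((l ^ 2 * l : ℕ) : ℤ) by push_cast; rfl, zpow_natCast] at e2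
    rw [e2, ← e1, mul_comm y⁻¹, mul_right_comm]
  have hθq : ∀ y, q (θ y) = (r - r ^ 2) • q y := fun y => by
    have e : φ y = θ y * y ^ (l ^ 2) := by rw [hθ, inv_mul_cancel_right]
    have h := congrArg q e
    rw [← hψq, hr, hq_mul, hq_pow, ← Nat.cast_smul_eq_nsmul (ZMod p), Nat.cast_pow, hlr] at h
    rw [sub_smul, h]; abel
  have hunit : r - r ^ 2 ≠ 0 := fun e => hrne (by
    have hr0 : r ≠ 0 := fun e' => by rw [e', zero_pow (by norm_num)] at hr3; exact zero_ne_one hr3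
    have : r = 1 := by
      rw [show r - r ^ 2 = r * (1 - r) by ring, mul_eq_zero] at e
      exact (sub_eq_zero.1 (e.resolve_left hr0)).symm
    rw [this, one_pow])
  have hsurj : ∀ y, ∃ z, θ z = y := by
    have hstep : ∀ i y, ∃ z w, θ z * w ^ p ^ i = y := by
      intro i
      induction i with
      | zero => exact fun y => ⟨1, y, by rw [map_one, one_mul, pow_zero, pow_one]⟩
      | succ i ih =>
        intro y
        obtain ⟨z, w, rfl⟩ := ih y
        obtain ⟨w', hw'⟩ := hq_zero ((θ (w ^ ((r - r ^ 2)⁻¹).val))⁻¹ * w) (by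
          have hneg : ∀ a, q a⁻¹ = -q a := fun _ => rfl
          rw [hq_mul, hneg, hθq, hq_pow, ← Nat.cast_smul_eq_nsmul (ZMod p), ZMod.natCast_zmod_val, smul_smul,
            mul_inv_cancel₀ hunit, one_smul, neg_add_cancel])
        refine ⟨z * (w ^ ((r - r ^ 2)⁻¹).val) ^ p ^ i, w', ?_⟩
        rw [map_mul, map_pow θ, show p ^ (i + 1) = p * p ^ i from pow_succ' p i, pow_mul w', hw', mul_assoc, ← mul_pow, mul_inv_cancel_left]
    intro y
    obtain ⟨z, w, h⟩ := hstep N y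
    exact ⟨z, by rw [← h, ← hN, pow_card_eq_one', mul_one]⟩
  refine ⟨l, fun y => ?_, by rw [hlr, hr3], by rw [hlr]; exact hrne⟩
  obtain ⟨z, rfl⟩ := hsurj y
  exact hφθ z

end CfsgLib.Recog.Walter.FieldScalar
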