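import Cfsg.Agent.Lib.Recog.Walter.Field.Defs
import Cfsg.Agent.Lib.Recog.Walter.Sections.JRLocal

/-!
Owner: helper29. The field part of Walter's theorem: the common setting
(notes/walter_field_helper12.md).

* `Setting t E L F`: the hypotheses of `FieldTrivial`, with `L ≤ E` the subgroup isomorphic to `PSL(2, F)`;
* `n`: the index of `L` in `E`, the order of the group of field automorphisms; `odd_n`;
* `field`: `|F| = p ^ k` with `p` and `k` odd;
* `fieldTrivial_of`: `FieldTrivial` from `n = 1` in every setting.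
-/

set_option autoImplicit false
set_option linter.style.haveILetI false
set_option linter.unusedSectionVars false

namespace CfsgLib.Walter.Field

open Subgroup

universe u

/-- The hypotheses of `FieldTrivial`. -/
structure Setting {G : Type u} [Group G] (t : G) (E L : Subgroup G) (F : Type) [Field F] [Fintype F] : Prop where
  jr : IsJRType G
  ord : orderOf t = 2
  prod : Cfsg.IsInternalDirectProduct (zpowers t) E (centralizer ({t} : Set G))
  five : 5 ≤ Fintype.card F
  mod8 : Fintype.card F % 8 = 3 ∨ Fintype.card F % 8 = 5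
  le : L ≤ E
  normal : E ≤ normalizer (L : Set G)
  iso : Nonempty (↥L ≃* Matrix.ProjectiveSpecialLinearGroup (Fin 2) F)
  cen : ∀ e ∈ E, (∀ y ∈ L, e * y = y * e) → e = 1

variable {G : Type u} [Group G] {t : G} {E L : Subgroup G} {F : Type} [Field F] [Fintype F]

/-- The setting given by the hypotheses of `FieldTrivial`. -/
theorem setting_of (hjr : IsJRType G) (ht : orderOf t = 2)
    (hprod : Cfsg.IsInternalDirectProduct (zpowers t) E (centralizer ({t} : Set G)))
    (h5 : 5 ≤ Fintype.card F) (h8 : Fintype.card F % 8 = 3 ∨ Fintype.card F % 8 = 5) (N : Subgroup ↥E)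
    (hN : N.Normal) (e : ↥N ≃* Matrix.ProjectiveSpecialLinearGroup (Fin 2) F)
    (hcen : centralizer (N : Set ↥E) = ⊥) : Setting t E (N.map E.subtype) F := by
  refine ⟨hjr, ht, hprod, h5, h8, map_subtype_le N, fun g hg => ?_,
    ⟨(N.equivMapOfInjective E.subtype E.subtype_injective).symm.trans e⟩, fun x hx hxN => ?_⟩
  · refine mem_normalizer_iff.2 fun y => ⟨?_, ?_⟩
    · rintro ⟨y, hy, rfl⟩
      exact ⟨⟨g, hg⟩ * y * ⟨g, hg⟩⁻¹, hN.conj_mem y hy _, rfl⟩
    · rintro ⟨z, hz, hze⟩
      have hze' : (z : G) = g * y * g⁻¹ := hze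
      refine ⟨⟨g, hg⟩⁻¹ * z * ⟨g, hg⟩, by simpa using hN.conj_mem z hz ⟨g, hg⟩⁻¹, ?_⟩
      show g⁻¹ * (z : G) * g = y
      rw [hze']; group
  · have h1 : (⟨x, hx⟩ : ↥E) ∈ centralizer (N : Set ↥E) := mem_centralizer_iff.2 fun y hy =>
      Subtype.ext (hxN y ⟨y, hy, rfl⟩).symm
    rw [hcen, mem_bot] at h1
    exact congrArg Subtype.val h1

namespace Setting

variable (h : Setting t E L F)
include h

/-- The order of the group of field automorphisms. -/
noncomputable def n (_h : Setting t E L F) : ℕ := L.relIndex E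

theorem simple : IsSimpleGroup G := h.jr.1

theorem abSylow : CfsgLib.AbelianSolvCent.AbSylow G := h.jr.2.1

theorem comm {e : G} (he : e ∈ E) : e * t = t * e := (h.prod.2.2.1 t (mem_zpowers t) e he).symm

theorem le_centralizer : E ≤ centralizer ({t} : Set G) := h.prod.2.1

theorem isOddType : IsOddType ↥L := by
  obtain ⟨e⟩ := h.iso
  exact ⟨F, inferInstance, inferInstance, h.five, h.mod8, ⟨e⟩⟩

theorem odd_card : Odd (Fintype.card F) := Nat.odd_iff.2 (by rcases h.mod8 with e | e <;> omega)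

theorem two_ne : (2 : F) ≠ 0 := fun h2 => by
  have := FiniteField.even_card_of_char_two (CharP.ringChar_of_prime_eq_zero Nat.prime_two (by exact_mod_cast h2))
  rcases h.mod8 with e | e <;> omega

/-- The characteristic is odd, and so is the degree. -/
theorem field : ∃ p k : ℕ, p.Prime ∧ p ≠ 2 ∧ Odd k ∧ CharP F p ∧ Fintype.card F = p ^ k := by
  obtain ⟨k, hp, hk⟩ := FiniteField.card F (ringChar F)
  refine ⟨ringChar F, k, hp, fun h2 => ?_, ?_, ringChar.charP F, hk⟩
  · have := FiniteField.even_card_of_char_two h2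
    rcases h.mod8 with e | e <;> omega
  · by_contra hodd
    rw [Nat.not_odd_iff_even] at hodd
    obtain ⟨j, hj⟩ := hodd
    rw [hj, ← two_mul, pow_mul'] at hk
    have h8 := h.mod8
    rw [hk, Nat.pow_mod] at h8
    have h2 := Nat.mod_lt (ringChar F ^ j) (show 8 > 0 by norm_num)
    interval_cases hr : ringChar F ^ j % 8 <;> simp_all

theorem normal_subgroupOf : (L.subgroupOf E).Normal := (normal_subgroupOf_iff_le_normalizer h.le).2 h.normal

variable [Finite G]

theorem pslData : CfsgLib.AbelianPSL.PSLData ↥L := h.isOddType.pslData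

theorem simple_L : IsSimpleGroup ↥L := h.isOddType.isSimpleGroup

/-- The data of `Sections.JRLocal`. -/
theorem loc : CfsgLib.Walter.Sections.Loc t E L where
  ord := h.ord
  le := h.le
  comm := fun _ he => h.comm he
  nrm := h.normal
  data := h.pslData
  simple := h.simple_L
  not_mem := fun hm => CfsgLib.Signalizer.involution_ne_one h.ord (mem_bot.1 (h.prod.2.2.2.1 ▸ ⟨mem_zpowers t, hm⟩))
  form := fun c hc => by
    have hn : zpowers t ≤ normalizer (E : Set G) :=
      le_trans (fun a ha => mem_centralizer_iff.2 fun b hb => (h.prod.2.2.1 a ha b hb).symm)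
        (centralizer_le_normalizer _)
    rw [← h.prod.2.2.2.2, CfsgLib.Core.mem_sup_iff_mul hn] at hc
    obtain ⟨a, ha, x, hx, rfl⟩ := hc
    refine ⟨x, hx, ?_⟩
    obtain ⟨k, rfl⟩ := mem_zpowers_iff.1 ha
    rw [← zpow_mod_orderOf, h.ord]
    rcases Int.emod_two_eq_zero_or_one k with e' | e' <;> simp [e']
  cen := h.cen

theorem mem_L_of_two {e : G} (he : e ∈ E) (h2 : ∃ k : ℕ, orderOf e = 2 ^ k) : e ∈ L :=
  h.loc.mem_N_of_two_power h.abSylow he h2

theorem n_pos : 0 < h.n := Nat.pos_of_ne_zero (Subgroup.index_ne_zero_of_finite (H := L.subgroupOf E))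

/-- The group of field automorphisms has odd order. -/
theorem odd_n : Odd h.n := by
  haveI : Fact (Nat.Prime 2) := ⟨Nat.prime_two⟩
  haveI := h.normal_subgroupOf
  rw [← Nat.not_even_iff_odd, even_iff_two_dvd]
  intro h2
  obtain ⟨x, hx⟩ := exists_prime_orderOf_dvd_card' (G := ↥E ⧸ L.subgroupOf E) 2
    (Subgroup.index_eq_card (L.subgroupOf E) ▸ h2)
  obtain ⟨y, rfl⟩ := QuotientGroup.mk'_surjective _ x
  obtain ⟨i, m, hm, hym⟩ := Nat.exists_eq_two_pow_mul_odd (orderOf_pos y).ne'
  have hy2 : orderOf ((y ^ m : ↥E) : G) = 2 ^ i := by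
    rw [Subgroup.orderOf_coe, orderOf_pow, hym, Nat.gcd_eq_right (dvd_mul_left m (2 ^ i)),
      Nat.mul_div_cancel _ hm.pos]
  have hyL : ((y ^ m : ↥E) : G) ∈ L := h.mem_L_of_two (y ^ m : ↥E).2 ⟨i, hy2⟩
  have h1 : (QuotientGroup.mk' (L.subgroupOf E) y) ^ m = 1 := by
    rw [← map_pow]
    exact (QuotientGroup.eq_one_iff _).2 hyL
  have h3 := orderOf_dvd_of_pow_eq_one h1
  rw [hx] at h3
  exact (Nat.not_even_iff_odd.2 hm) (even_iff_two_dvd.2 h3)

theorem eq_of_n_eq_one (hn : h.n = 1) : E ≤ L := Subgroup.relIndex_eq_one.1 hn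

end Setting

/-- `FieldTrivial` from `n = 1`. -/
theorem fieldTrivial_of
    (hone : ∀ (G : Type u) [Group G] [Finite G] (t : G) (E L : Subgroup G) (F : Type) [Field F] [Fintype F]
      (h : Setting t E L F), h.n = 1) : FieldTrivial.{u} := by
  intro G _ _ hjr t ht E hprod F _ _ h5 h8 N hN ⟨e⟩ hcen
  have h := setting_of hjr ht hprod h5 h8 N hN e hcen
  refine eq_top_iff.2 fun x _ => ?_
  obtain ⟨y, hy, hyx⟩ := h.eq_of_n_eq_one (hone G t E _ F h) x.2
  exact Subtype.ext hyx ▸ hy

end CfsgLib.Walter.Field
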