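import Cfsg.Agent.Lib.Recog.Walter.Field.Hecke
import Cfsg.Agent.Lib.Recog.Walter.Field.Corestrict
import Cfsg.Agent.Lib.Recog.Walter.Field.Scalar
import Cfsg.Agent.Lib.Recog.JankoThompson.Ward.TorusM

/-!
Owner: helper22. A group of Ree type, `p ≥ 5` dividing `q ^ 2 - q + 1`: the Sylow `p`-subgroup inverted by `t` and the
element of order three of `C(t)` acting on it as a power map (section E of `notes/walter_field_helper22.md`).
-/

set_option autoImplicit false
set_option linter.all false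
set_option maxHeartbeats 800000

namespace CfsgLib.Recog.Walter.FieldXLevel

open Subgroup CfsgLib.Recog.JankoThompson

universe u

variable {X : Type u} [Group X]

/-- the Sylow `p`-subgroup `P` of `X`, inverted by `t`, and the scalar action of an element `c` of `C(t)` -/
structure Scalar (X : Type u) [Group X] (p : ℕ) (t : X) where
  P : Subgroup X
  c : X
  l : ℕ
  pgroup : IsPGroup p P
  card_P : Nat.card P = p ^ (Nat.card X).factorization p
  comm : ∀ a ∈ P, ∀ b ∈ P, a * b = b * a
  inverted : ∀ a ∈ P, t * a * t⁻¹ = a⁻¹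
  c_t : c * t = t * c
  scalar : ∀ a ∈ P, c * a * c⁻¹ = a ^ l
  l_cube : (l : ZMod p) ^ 3 = 1
  l_sq : (l : ZMod p) ^ 2 ≠ 1
  two : ∀ x : X, x * t = t * x → (∀ a ∈ P, x * a * x⁻¹ ∈ P) → (∃ k : ℕ, x ^ 2 ^ k = 1) → x ∈ zpowers t

variable [Finite X] {q n p u : ℕ} {t : X}

/-- the scalar action -/
theorem exists_scalar (BD : BorelData X q t) (TD : TorusData X u t) (hq : q = 3 ^ n) (hn : 1 ≤ n)
    (ht : orderOf t = 2) (hp : p.Prime) (hp5 : 5 ≤ p) (hpu : p ∣ u) (huΦ : u ∣ q ^ 2 - q + 1)
    (hfull : (Nat.card X).factorization p = u.factorization p) : Nonempty (Scalar X p t) := by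
  classical
  haveI : Fact p.Prime := ⟨hp⟩
  have htt : t * t = 1 := mul_self_of_two ht
  have hu0 : u ≠ 0 := TD.card_M ▸ Nat.card_pos.ne'
  set M := TD.M with hM
  set N := normalizer (M : Set X) with hN
  obtain ⟨S⟩ := (inferInstance : Nonempty (Sylow p M))
  set P := (S : Subgroup M).map M.subtype with hP
  have hPM : P ≤ M := map_subtype_le _
  have hPgroup : IsPGroup p P := S.2.map _
  have hPcard : Nat.card P = p ^ u.factorization p := by
    rw [hP, Subgroup.card_map_of_injective M.subtype_injective, S.card_eq_multiplicity, TD.card_M]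
  have hPcomm : ∀ a ∈ P, ∀ b ∈ P, a * b = b * a := fun a ha b hb => TD.comm a (hPM ha) b (hPM hb)
  have hPne : P ≠ ⊥ := fun e => by
    rw [e, Subgroup.card_bot] at hPcard
    have := hp.factorization_pos_of_dvd hu0 hpu
    have h2 := Nat.le_self_pow this.ne' p
    omega
  have hPmem : ∀ x ∈ M, (∃ j : ℕ, x ^ p ^ j = 1) → x ∈ P := by
    intro x hx hj
    obtain ⟨j, hj⟩ := hj
    have hxp : IsPGroup p (zpowers (⟨x, hx⟩ : M)) := by
      obtain ⟨i, -, hi⟩ := (Nat.dvd_prime_pow hp).1 (orderOf_dvd_of_pow_eq_one hj)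
      exact IsPGroup.of_card (n := i) (by rw [Nat.card_zpowers, ← Subgroup.orderOf_coe, hi])
    haveI hnorm : (S : Subgroup M).Normal := ⟨fun a ha g => by
      have : g * a * g⁻¹ = a := Subtype.ext (by
        push_cast
        rw [TD.comm g g.2 a a.2, mul_inv_cancel_right])
      rwa [this]⟩
    have hsup : IsPGroup p (zpowers (⟨x, hx⟩ : M) ⊔ S : Subgroup M) := hxp.to_sup_of_normal_right S.2
    have := S.3 hsup le_sup_right
    exact ⟨⟨x, hx⟩, this ▸ mem_sup_left (mem_zpowers _), rfl⟩
  have hNP : normalizer (P : Set X) = N := by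
    refine le_antisymm (fun g hg => ?_) (fun g hg => ?_)
    · by_contra hgN
      obtain ⟨⟨a, ha⟩, ha1⟩ := Subgroup.ne_bot_iff_exists_ne_one.1 hPne
      exact ha1 (Subtype.ext (TD.ti g hgN a (hPM ha) (hPM ((mem_normalizer_iff.1 hg a).1 ha))))
    · refine mem_normalizer_iff.2 fun a => ⟨fun ha => ?_, fun ha => ?_⟩
      · obtain ⟨j, hj⟩ := hPgroup ⟨a, ha⟩
        exact hPmem _ ((mem_normalizer_iff.1 hg a).1 (hPM ha)) ⟨j, by
          rw [conj_pow, show a ^ p ^ j = 1 from congrArg Subtype.val hj]; group⟩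
      · obtain ⟨j, hj⟩ := hPgroup ⟨_, ha⟩
        refine hPmem _ ((mem_normalizer_iff.1 hg a).2 (hPM ha)) ⟨j, ?_⟩
        have h : (g * a * g⁻¹) ^ p ^ j = 1 := congrArg Subtype.val hj
        rwa [conj_pow, conj_eq_one_iff] at h
  have hpq : p ∣ q ^ 2 - q + 1 := hpu.trans huΦ
  -- the group of order six
  set H := (N ⊓ centralizer ({t} : Set X) : Subgroup X) with hH
  have hH6 : Nat.card H = 6 := TD.card_cent
  have hodd : Odd u := by
    refine Odd.of_dvd_nat ?_ huΦ
    rw [show q ^ 2 - q = q * (q - 1) by rw [pow_two, Nat.mul_sub, mul_one]]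
    exact (Nat.even_mul_pred_self q).add_one
  have hMfix : ∀ a ∈ M, a * t = t * a → a = 1 := fun a ha h => by
    have h1 := TD.inverted a ha
    rw [← h, mul_inv_cancel_right] at h1
    exact eq_one_of_coprime (Nat.coprime_two_left.2 (hodd.of_dvd_nat (TD.card_M ▸ Subgroup.orderOf_dvd_natCard _ ha)))
      (orderOf_dvd_of_pow_eq_one (by rw [pow_two, mul_eq_one_iff_eq_inv]; exact h1)) dvd_rfl
  have htN : t ∈ N := mem_normalizer_iff.2 fun y => by
    refine ⟨fun hy => by rw [TD.inverted y hy]; exact inv_mem hy, fun hy => ?_⟩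
    have h := TD.inverted _ hy
    rw [show t * (t * y * t⁻¹) * t⁻¹ = (t * t) * y * (t * t)⁻¹ by group, htt, one_mul, inv_one, mul_one] at h
    rw [h]; exact inv_mem hy
  have htH : t ∈ H := mem_inf.2 ⟨htN, mem_centralizer_singleton_iff.2 rfl⟩
  have hcH : TD.c ∈ H := mem_inf.2 ⟨TD.c_mem, mem_centralizer_singleton_iff.2 TD.c_t⟩
  have hHgen : zpowers t ⊔ zpowers TD.c = H := by
    refine Subgroup.eq_of_le_of_card_ge (sup_le (zpowers_le.2 htH) (zpowers_le.2 hcH)) ?_
    rw [hH6]
    refine Nat.le_of_dvd Nat.card_pos (Nat.Coprime.mul_dvd_of_dvd_of_dvd (by norm_num : Nat.Coprime 2 3) ?_ ?_)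
    · exact ht ▸ Subgroup.orderOf_dvd_natCard _ (mem_sup_left (mem_zpowers t))
    · exact TD.c_order ▸ Subgroup.orderOf_dvd_natCard _ (mem_sup_right (mem_zpowers TD.c))
  have hdecomp : ∀ g ∈ N, ∃ m ∈ M, ∃ h ∈ H, g = m * h := by
    let F : M × H → N := fun a => ⟨a.1 * a.2, mul_mem (Subgroup.le_normalizer a.1.2) (mem_inf.1 a.2.2).1⟩
    have hinj : Function.Injective F := by
      rintro ⟨a, h⟩ ⟨a', h'⟩ e
      have e' : (a : X) * h = a' * h' := congrArg Subtype.val e
      have h1 : (a' : X)⁻¹ * a = h' * (h : X)⁻¹ := by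
        rw [eq_mul_inv_iff_mul_eq, mul_assoc, e', inv_mul_cancel_left]
      have h2 := hMfix _ (mul_mem (inv_mem a'.2) a.2) (h1 ▸ mem_centralizer_singleton_iff.1
        (Subgroup.mul_mem _ (mem_inf.1 h'.2).2 (Subgroup.inv_mem _ (mem_inf.1 h.2).2)))
      have ea : a' = a := Subtype.ext (inv_mul_eq_one.1 h2)
      subst ea
      exact Prod.ext rfl (Subtype.ext (mul_left_cancel e'))
    have hsurj := ((Nat.bijective_iff_injective_and_card F).2 ⟨hinj, by
      rw [Nat.card_prod, TD.card_M, hH6, hN, hM, TD.card_normalizer]⟩).2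
    intro g hg
    obtain ⟨⟨a, h⟩, e⟩ := hsurj ⟨g, hg⟩
    exact ⟨a, a.2, h, h.2, (congrArg Subtype.val e).symm⟩
  -- the action of `c` on `P`
  have hcP : ∀ a ∈ P, TD.c * a * TD.c⁻¹ ∈ P := fun a ha =>
    (mem_normalizer_iff.1 (hNP.symm ▸ TD.c_mem) a).1 ha
  letI : CommGroup P := { (inferInstance : Group P) with
    mul_comm := fun a b => Subtype.ext (hPcomm a a.2 b b.2) }
  let φ : P →* P := MonoidHom.mk' (fun a => ⟨TD.c * a * TD.c⁻¹, hcP a a.2⟩) fun a b => Subtype.ext (by
    show TD.c * ((a : X) * b) * TD.c⁻¹ = TD.c * a * TD.c⁻¹ * (TD.c * b * TD.c⁻¹)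
    rw [conj_mul])
  haveI : Nontrivial P := (Subgroup.nontrivial_iff_ne_bot P).2 hPne
  obtain ⟨l, hl, hl3, hl2⟩ := FieldScalar.exists_scalar hPgroup (by omega) φ
    (fun y => Subtype.ext (TD.c_rel y (hPM y.2)))
    (fun β hβl hβr hβa hβc x y => by
      by_contra hne
      -- invariance under the normaliser
      let B : X → X → ZMod p := fun a b => if h : a ∈ P ∧ b ∈ P then β ⟨a, h.1⟩ ⟨b, h.2⟩ else 0
      have hB : ∀ a b : P, B a b = β a b := fun a b => by
        simp only [B, dif_pos (And.intro a.2 b.2)]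
      have hneg_l : ∀ a b, β a⁻¹ b = -β a b := fun a b => by
        have h := hβl a⁻¹ a b
        rw [inv_mul_cancel] at h
        have h1 := hβl 1 1 b
        rw [one_mul] at h1
        rw [left_eq_add.1 h1] at h
        exact eq_neg_of_add_eq_zero_left h.symm
      have hneg_r : ∀ a b, β a b⁻¹ = -β a b := fun a b => by
        have h := hβr a b⁻¹ b
        rw [inv_mul_cancel] at h
        have h1 := hβr a 1 1
        rw [one_mul] at h1
        rw [left_eq_add.1 h1] at h
        exact eq_neg_of_add_eq_zero_left h.symm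
      let Good : X → Prop := fun g => ∀ a ∈ P, ∀ b ∈ P, g * a * g⁻¹ ∈ P ∧ B (g * a * g⁻¹) (g * b * g⁻¹) = B a b
      have hGmul : ∀ g h, Good g → Good h → Good (g * h) := fun g h hg hh a ha b hb => by
        obtain ⟨h1, h2⟩ := hh a ha b hb
        obtain ⟨h3, -⟩ := hh b hb a ha
        obtain ⟨h4, h5⟩ := hg _ h1 _ h3
        simp only [show ∀ v, g * h * v * (g * h)⁻¹ = g * (h * v * h⁻¹) * g⁻¹ from fun v => by group]
        exact ⟨h4, h5.trans h2⟩
      have hGpow : ∀ g, Good g → ∀ k : ℕ, Good (g ^ k) := fun g hg k => by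
        induction k with
        | zero => intro a ha b hb; simp [ha]
        | succ k ih => rw [pow_succ]; exact hGmul _ _ ih hg
      have hGM : ∀ m ∈ M, Good m := fun m hm a ha b hb => by
        rw [mul_inv_eq_iff_eq_mul.2 (TD.comm m hm a (hPM ha)), mul_inv_eq_iff_eq_mul.2 (TD.comm m hm b (hPM hb))]
        exact ⟨ha, rfl⟩
      have hGc : Good TD.c := fun a ha b hb => ⟨hcP a ha, by
        rw [show B (TD.c * a * TD.c⁻¹) (TD.c * b * TD.c⁻¹) = β (φ ⟨a, ha⟩) (φ ⟨b, hb⟩) from hB (φ ⟨a, ha⟩) (φ ⟨b, hb⟩),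
          hβc, ← hB]⟩
      have hGt : Good t := fun a ha b hb => by
        rw [TD.inverted a (hPM ha), TD.inverted b (hPM hb)]
        refine ⟨inv_mem ha, ?_⟩
        have e := hB (⟨a, ha⟩ : P)⁻¹ (⟨b, hb⟩ : P)⁻¹
        push_cast at e
        rw [e, hneg_l, hneg_r, neg_neg, ← hB]
      have hGH : ∀ h ∈ H, Good h := by
        intro h hh
        let S : Subgroup X :=
          { carrier := {g | Good g}
            one_mem' := by intro a ha b hb; simp [ha]
            mul_mem' := fun {g g'} hg hg' => hGmul g g' hg hg'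
            inv_mem' := fun {g} hg => by
              have e : g⁻¹ = g ^ (orderOf g - 1) := (eq_inv_of_mul_eq_one_left (by
                rw [← pow_succ, Nat.sub_add_cancel (orderOf_pos g), pow_orderOf_eq_one])).symm
              show Good g⁻¹
              rw [e]
              exact hGpow g hg _ }
        rw [← hHgen] at hh
        exact (sup_le (zpowers_le.2 (show t ∈ S from hGt)) (zpowers_le.2 (show TD.c ∈ S from hGc)) : _ ≤ S) hh
      have hG : ∀ g ∈ N, Good g := fun g hg => by
        obtain ⟨m, hm, h, hh, rfl⟩ := hdecomp g hg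
        exact hGmul m h (hGM m hm) (hGH h hh)
      obtain ⟨C, instC, instF, π, f, hπ, hker, hf, hcen, hcomm⟩ :=
        FieldCorestrict.exists_extension P p (by omega) hPcomm
          (fun g hg a ha hga => TD.ti g (fun h => hg (hNP.symm ▸ h)) a (hPM ha) (hPM hga)) β hβl hβr hβa
          (fun g hg a b a' b' ea eb => by
            have h := (hG g (hNP ▸ hg) a a.2 b b.2).2
            rw [← ea, ← eb, hB, hB] at h
            exact h)
          (by
            rw [hNP, Subgroup.relIndex]
            intro hd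
            have h := (P.subgroupOf N).card_mul_index
            rw [Nat.card_congr (Subgroup.subgroupOfEquivOfLe (hPM.trans Subgroup.le_normalizer)).toEquiv, hPcard,
              hN, hM, TD.card_normalizer] at h
            have h2 : p ^ (u.factorization p + 1) ∣ u * 6 := by
              rw [← h, pow_succ]; exact mul_dvd_mul_left _ hd
            have hco : Nat.Coprime (p ^ (u.factorization p + 1)) 6 := by
              refine Nat.Coprime.pow_left _ (hp.coprime_iff_not_dvd.2 fun h6 => ?_)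
              rcases hp.dvd_mul.1 (show p ∣ 2 * 3 from h6) with e | e
              · have := (Nat.prime_dvd_prime_iff_eq hp Nat.prime_two).1 e; omega
              · have := (Nat.prime_dvd_prime_iff_eq hp Nat.prime_three).1 e; omega
            exact Nat.pow_succ_factorization_not_dvd hu0 hp (hco.dvd_of_dvd_mul_right h2))
          ⟨x, y, hne⟩
      exact FieldHecke.no_extension BD hq hn htt hp hp5 hpq π hπ hker hf hcen hcomm)
  refine ⟨{
    P := P
    c := TD.c
    l := l
    pgroup := hPgroup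
    card_P := by rw [hPcard, hfull]
    comm := hPcomm
    inverted := fun a ha => TD.inverted a (hPM ha)
    c_t := TD.c_t
    scalar := fun a ha => by
      have := congrArg Subtype.val (hl ⟨a, ha⟩)
      push_cast at this
      exact this
    l_cube := hl3
    l_sq := hl2
    two := ?_ }⟩
  intro x hxt hxP hx2
  obtain ⟨k, hk⟩ := hx2
  have hxN : x ∈ N := by
    rw [← hNP, mem_normalizer_iff]
    intro a
    refine ⟨hxP a, fun ha => ?_⟩
    have hiter : ∀ m : ℕ, ∀ y ∈ P, x ^ m * y * (x ^ m)⁻¹ ∈ P := by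
      intro m
      induction m with
      | zero => intro y hy; simpa using hy
      | succ m ih =>
        intro y hy
        rw [pow_succ', show x * x ^ m * y * (x * x ^ m)⁻¹ = x * (x ^ m * y * (x ^ m)⁻¹) * x⁻¹ by group]
        exact hxP _ (ih y hy)
    have hinv : x ^ (orderOf x - 1) = x⁻¹ := by
      refine eq_inv_of_mul_eq_one_left ?_
      rw [← pow_succ, Nat.sub_add_cancel (orderOf_pos x), pow_orderOf_eq_one]
    have := hiter (orderOf x - 1) _ ha
    rwa [hinv, show x⁻¹ * (x * a * x⁻¹) * x⁻¹⁻¹ = a by group] at this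
  have hxH : x ∈ H := mem_inf.2 ⟨hxN, mem_centralizer_singleton_iff.2 hxt⟩
  have hcop : orderOf x ∣ 2 := by
    have h1 : orderOf x ∣ 2 ^ k := orderOf_dvd_of_pow_eq_one hk
    have h2 : orderOf x ∣ 2 * 3 := (show (2 * 3 : ℕ) = Nat.card H by rw [hH6]) ▸ Subgroup.orderOf_dvd_natCard _ hxH
    exact ((Nat.Coprime.pow_left k (show Nat.Coprime 2 3 by norm_num)).coprime_dvd_left h1).dvd_of_dvd_mul_right h2
  haveI : Fact (Nat.Prime 2) := ⟨Nat.prime_two⟩
  have hxp : IsPGroup 2 (zpowers x) := by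
    obtain ⟨i, -, hi⟩ := (Nat.dvd_prime_pow Nat.prime_two).1 (show orderOf x ∣ 2 ^ 1 by rwa [pow_one])
    exact IsPGroup.of_card (n := i) (by rw [Nat.card_zpowers, hi])
  have htp : IsPGroup 2 (zpowers t) := IsPGroup.of_card (n := 1) (by rw [Nat.card_zpowers, ht, pow_one])
  have hle : zpowers x ≤ normalizer (zpowers t : Set X) := by
    refine le_trans (zpowers_le.2 ?_) (centralizer_le_normalizer _)
    refine mem_centralizer_iff.2 fun y hy => ?_
    obtain ⟨j, rfl⟩ := mem_zpowers_iff.1 hy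
    exact ((show Commute x t from hxt).zpow_right j).eq.symm
  obtain ⟨j, hj⟩ := (hxp.to_sup_of_normal_right' htp hle).exists_card_eq
  have hd : Nat.card (zpowers x ⊔ zpowers t : Subgroup X) ∣ 2 * 3 := by
    rw [show (2 * 3 : ℕ) = Nat.card H by rw [hH6]]
    exact Subgroup.card_dvd_of_le (sup_le (zpowers_le.2 hxH) (zpowers_le.2 htH))
  have h2 : Nat.card (zpowers x ⊔ zpowers t : Subgroup X) ∣ 2 :=
    ((show Nat.Coprime 2 3 by norm_num).pow_left j).dvd_of_dvd_mul_right (hj ▸ hd) |> fun h => hj ▸ h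
  have heq : zpowers t = zpowers x ⊔ zpowers t :=
    Subgroup.eq_of_le_of_card_ge le_sup_right (by
      rw [Nat.card_zpowers, ht]; exact Nat.le_of_dvd (by norm_num) h2)
  rw [heq]
  exact mem_sup_left (mem_zpowers x)

end CfsgLib.Recog.Walter.FieldXLevel
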